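import Groth.Agent.HensSph.Sheaf
import Groth.Agent.SiteCoh.Cartan
import Groth.Agent.SiteCoh.Terminal

/-!
# Acyclicity of `M~` on an affine henselian spectrum in positive characteristic
-/

set_option autoImplicit false
set_option backward.isDefEq.respectTransparency false
set_option backward.isDefEq.respectTransparency.types false
set_option linter.style.haveILetI false
set_option linter.auxLemma false
set_option linter.unusedSectionVars false
set_option maxHeartbeats 1000000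

universe u

open CategoryTheory CategoryTheory.Limits Opposite TopologicalSpace AlgebraicGeometry
open Groth.Agent.SiteCoh

noncomputable section

namespace Groth.Agent.HensSph

variable {A : Type u} [CommRing A] {X : LocallyRingedSpace.{u}} (π : X ⟶ HensSch.specLRS A)

/-- restriction of abelian sheaves -/
abbrev rs (Fs : Sheaf (Opens.grothendieckTopology X.toTopCat) AddCommGrpCat.{u}) {U V : Opens X.toTopCat}
    (h : V ≤ U) : Fs.obj.obj (op U) →+ Fs.obj.obj (op V) := (Fs.obj.map (homOfLE h).op).hom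

theorem rs_rs (Fs : Sheaf (Opens.grothendieckTopology X.toTopCat) AddCommGrpCat.{u}) {U V V' : Opens X.toTopCat}
    (h : V ≤ U) (h' : V' ≤ V) (h'' : V' ≤ U) (s : Fs.obj.obj (op U)) : rs Fs h' (rs Fs h s) = rs Fs h'' s := by
  show (Fs.obj.map (homOfLE h).op ≫ Fs.obj.map (homOfLE h').op).hom s = (Fs.obj.map (homOfLE h'').op).hom s
  rw [← Functor.map_comp]
  rfl

theorem exists_glue₂ (Fs : TopCat.Sheaf AddCommGrpCat.{u} X.toTopCat) {U V D : Opens X.toTopCat} (hU : U ≤ D)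
    (hV : V ≤ D) (hD : D ≤ U ⊔ V) (s : Fs.obj.obj (op U)) (t : Fs.obj.obj (op V))
    (h : rs Fs (inf_le_left : U ⊓ V ≤ U) s = rs Fs (inf_le_right : U ⊓ V ≤ V) t) :
    ∃ z : Fs.obj.obj (op D), rs Fs hU z = s ∧ rs Fs hV z = t := by
  let f : ULift.{u} Bool → Opens X.toTopCat := fun b => if b.down then U else V
  let sf : ∀ b, Fs.obj.obj (op (f b)) := fun b => match b with
    | ⟨true⟩ => s
    | ⟨false⟩ => t
  have hle : ∀ b, f b ≤ D := fun b => match b with
    | ⟨true⟩ => hU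
    | ⟨false⟩ => hV
  have hcov : D ≤ iSup f := hD.trans (sup_le (le_iSup f ⟨true⟩) (le_iSup f ⟨false⟩))
  have hcomp : TopCat.Presheaf.IsCompatible Fs.obj f sf := by
    rintro ⟨_ | _⟩ ⟨_ | _⟩
    · rfl
    · have h' := congrArg (rs Fs (show f ⟨false⟩ ⊓ f ⟨true⟩ ≤ U ⊓ V from le_inf inf_le_right inf_le_left)) h
      rw [rs_rs Fs _ _ (show f ⟨false⟩ ⊓ f ⟨true⟩ ≤ U from inf_le_right),
        rs_rs Fs _ _ (show f ⟨false⟩ ⊓ f ⟨true⟩ ≤ V from inf_le_left)] at h'
      exact h'.symm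
    · exact h
    · rfl
  obtain ⟨z, hz, -⟩ := Fs.existsUnique_gluing' f D (fun b => homOfLE (hle b)) hcov sf hcomp
  exact ⟨z, hz ⟨true⟩, hz ⟨false⟩⟩

/-- sections over overlaps of distinguished opens split -/
def Splits (Fs : Sheaf (Opens.grothendieckTopology X.toTopCat) AddCommGrpCat.{u}) : Prop :=
  ∀ b c d : A, W π b ≤ W π d → W π c ≤ W π d → W π d ≤ W π b ⊔ W π c →
    ∀ s : Fs.obj.obj (op (W π b ⊓ W π c)), ∃ (x : Fs.obj.obj (op (W π b))) (y : Fs.obj.obj (op (W π c))),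
      rs Fs (inf_le_left : W π b ⊓ W π c ≤ W π b) x - rs Fs (inf_le_right : W π b ⊓ W π c ≤ W π c) y = s

variable {π} {I : Ideal A} (hX : HensSch.IsSph A I X π)

theorem exists_lift_of_splits (hX : HensSch.IsSph A I X π)
    {Sq : ShortComplex (Sheaf (Opens.grothendieckTopology X.toTopCat) AddCommGrpCat.{u})}
    (hS : Sq.ShortExact) (h1 : Splits π Sq.X₁) (a : A) :
    Function.Surjective (Sq.g.hom.app (op (W π a))) := by
  intro q
  suffices h : ∀ hb : W π a ≤ W π a, ∃ t, Sq.g.hom.app (op (W π a)) t = rs Sq.X₃ hb q by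
    obtain ⟨t, ht⟩ := h le_rfl
    refine ⟨t, ht.trans ?_⟩
    show (Sq.X₃.obj.map (homOfLE (le_refl (W π a))).op).hom q = q
    rw [show (homOfLE (le_refl (W π a))).op = 𝟙 _ from Subsingleton.elim _ _, CategoryTheory.Functor.map_id]
    rfl
  refine induction_local hX (fun b => ∀ hb : W π b ≤ W π a, ∃ t, Sq.g.hom.app (op (W π b)) t = rs Sq.X₃ hb q)
    (fun b hb h => ?_) (fun b c hba hcb ih h => ?_) (fun b c d hb hc hd hda ihb ihc h => ?_) fun x hx => ?_
  · refine ⟨0, ?_⟩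
    refine TopCat.Presheaf.section_ext (show TopCat.Sheaf AddCommGrpCat.{u} X.toTopCat from Sq.X₃) (W π b) _ _
      fun x hx => ?_
    rw [hb] at hx
    exact hx.elim
  · obtain ⟨t, ht⟩ := ih hba
    refine ⟨rs Sq.X₂ hcb t, ?_⟩
    rw [rs, NatTrans.naturality_apply, ht]
    exact rs_rs Sq.X₃ hba hcb h q
  · obtain ⟨tb, htb⟩ := ihb (hb.trans h)
    obtain ⟨tc, htc⟩ := ihc (hc.trans h)
    obtain ⟨s, hs⟩ := sections_exact hS (W π b ⊓ W π c)
      (rs Sq.X₂ inf_le_left tb - rs Sq.X₂ inf_le_right tc) (by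
        rw [map_sub, rs, rs, NatTrans.naturality_apply, NatTrans.naturality_apply, htb, htc, sub_eq_zero]
        exact (rs_rs Sq.X₃ _ _ (inf_le_left.trans (hb.trans h)) q).trans (rs_rs Sq.X₃ _ _ _ q).symm)
    obtain ⟨x, y, hxy⟩ := h1 b c d hb hc hd s
    let t₁ := tb - Sq.f.hom.app (op (W π b)) x
    let t₂ := tc - Sq.f.hom.app (op (W π c)) y
    have hagree : rs Sq.X₂ (inf_le_left : W π b ⊓ W π c ≤ W π b) t₁ =
        rs Sq.X₂ (inf_le_right : W π b ⊓ W π c ≤ W π c) t₂ := by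
      rw [map_sub, map_sub, rs, rs, ← NatTrans.naturality_apply, ← NatTrans.naturality_apply,
        sub_eq_sub_iff_sub_eq_sub, ← map_sub]
      exact hs.symm.trans (congrArg _ hxy.symm)
    let Fs : TopCat.Sheaf AddCommGrpCat.{u} X.toTopCat := Sq.X₂
    obtain ⟨t, ht1, ht2⟩ : ∃ t : Sq.X₂.obj.obj (op (W π d)), rs Sq.X₂ hb t = t₁ ∧ rs Sq.X₂ hc t = t₂ :=
      exists_glue₂ Fs hb hc hd t₁ t₂ hagree
    refine ⟨t, ?_⟩
    let Qs : TopCat.Sheaf AddCommGrpCat.{u} X.toTopCat := Sq.X₃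
    have hgf : ∀ (V : Opens X.toTopCat) (z : Sq.X₁.obj.obj (op V)),
        Sq.g.hom.app (op V) (Sq.f.hom.app (op V) z) = 0 := fun V z => by
      rw [← ConcreteCategory.comp_apply, ← NatTrans.comp_app]
      have := congrArg (fun φ : Sq.X₁ ⟶ Sq.X₃ => φ.hom.app (op V) z) Sq.zero
      exact this
    refine Qs.eq_of_locally_eq₂ (homOfLE hb) (homOfLE hc) hd _ _ ?_ ?_
    · refine (NatTrans.naturality_apply Sq.g.hom (homOfLE hb).op t).symm.trans ?_
      refine (congrArg (Sq.g.hom.app (op (W π b))) ht1).trans ?_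
      rw [map_sub, hgf, sub_zero, htb]
      exact (rs_rs Sq.X₃ h hb (hb.trans h) q).symm
    · refine (NatTrans.naturality_apply Sq.g.hom (homOfLE hc).op t).symm.trans ?_
      refine (congrArg (Sq.g.hom.app (op (W π c))) ht2).trans ?_
      rw [map_sub, hgf, sub_zero, htc]
      exact (rs_rs Sq.X₃ h hc (hc.trans h) q).symm
  · obtain ⟨T, hT, hl⟩ := exists_sieve_lift hS q
    obtain ⟨V, f, hf, hxV⟩ := hT x hx
    obtain ⟨b, hb, hbV⟩ := exists_W_le hX hxV
    refine ⟨b, hb, hbV.trans f.le, fun h => ?_⟩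
    obtain ⟨t, ht⟩ := hl f hf
    refine ⟨rs Sq.X₂ hbV t, ?_⟩
    rw [rs, NatTrans.naturality_apply, ht]
    exact rs_rs Sq.X₃ f.le hbV h q

theorem splits_quotient (hX : HensSch.IsSph A I X π)
    (Fs : Sheaf (Opens.grothendieckTopology X.toTopCat) AddCommGrpCat.{u}) (h : Splits π Fs) :
    Splits π (embedSeq Fs).X₃ := by
  intro b c d hb hc hd s
  obtain ⟨e, he⟩ : ∃ e, W π e = W π b ⊓ W π c := ⟨b * c, W_mul π b c⟩
  obtain ⟨t, ht⟩ : ∃ t : (embedSeq Fs).X₂.obj.obj (op (W π b ⊓ W π c)),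
      (embedSeq Fs).g.hom.app (op (W π b ⊓ W π c)) t = s := by
    have := exists_lift_of_splits hX (embedSeq_shortExact Fs) h e
    rw [he] at this
    exact this s
  have : TopCat.Sheaf.IsFlasque (embedSeq Fs).X₂ := injective_isFlasque _
  obtain ⟨u, hu⟩ := (AddCommGrpCat.epi_iff_surjective _).1
    ((injective_isFlasque (embedSeq Fs).X₂).epi (homOfLE (inf_le_left : W π b ⊓ W π c ≤ W π b)).op) t
  refine ⟨(embedSeq Fs).g.hom.app (op (W π b)) u, 0, ?_⟩
  rw [map_zero, sub_zero, rs, ← NatTrans.naturality_apply]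
  exact (congrArg _ hu).trans ht

theorem subsingleton_HU (hX : HensSch.IsSph A I X π)
    (Fs : Sheaf (Opens.grothendieckTopology X.toTopCat) AddCommGrpCat.{u}) (h : Splits π Fs) (a : A) (n : ℕ) :
    Subsingleton (CohSite.HU Fs (n + 1) (W π a)) :=
  acyclic_of_class (Set.range (W π)) (Splits π)
    (fun G hG U hU => by
      obtain ⟨b, rfl⟩ := hU
      exact exists_lift_of_splits hX (embedSeq_shortExact G) hG b)
    (fun G hG => splits_quotient hX G hG) Fs h (W π a) ⟨a, rfl⟩ n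

theorem splits_sphTilde [HenselianRing A I] (hX : HensSch.IsSph A I X π) (p : ℕ) [Fact p.Prime] [CharP A p]
    (M : ModuleCat.{u} A) : Splits π (ModSite.toAb (F π M)) := by
  intro b c d hb hc hd s
  have e : W π (b * c) = W π b ⊓ W π c := W_mul π b c
  obtain ⟨x, y, hxy⟩ := split_G M hX p hb hc hd (e.le.trans inf_le_left) (e.le.trans inf_le_right)
    (show G π M (b * c) from rs (ModSite.toAb (F π M)) e.le s)
  refine ⟨x, y, ?_⟩
  have := congrArg (rs (ModSite.toAb (F π M)) e.ge) hxy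
  change rs (ModSite.toAb (F π M)) e.ge
    (rs (ModSite.toAb (F π M)) (e.le.trans inf_le_left) x - rs (ModSite.toAb (F π M)) (e.le.trans inf_le_right) y) =
    rs (ModSite.toAb (F π M)) e.ge (rs (ModSite.toAb (F π M)) e.le s) at this
  rw [map_sub, rs_rs _ _ _ inf_le_left, rs_rs _ _ _ inf_le_right, rs_rs _ _ _ (le_refl (W π b ⊓ W π c))] at this
  exact this.trans (by rw [rs, show (homOfLE (le_refl _)).op = 𝟙 _ from Subsingleton.elim _ _,
    CategoryTheory.Functor.map_id]; rfl)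

theorem subsingleton_HC [HenselianRing A I] (hX : HensSch.IsSph A I X π) (p : ℕ) [Fact p.Prime] [CharP A p]
    (M : ModuleCat.{u} A) (n : ℕ) : Subsingleton (ModSite.HC X.sheaf (HensSch.sphTilde π M) (n + 1)) := by
  have h := subsingleton_HU hX _ (splits_sphTilde hX p M) 1 n
  have hT : IsTerminal (W π (1 : A)) := IsTerminal.ofUniqueHom (fun U => homOfLE (by rw [W_one]; exact le_top))
    fun _ _ => Subsingleton.elim _ _
  exact @Equiv.subsingleton _ _ (huTerminalEquiv (Opens.grothendieckTopology X.toTopCat) hT (ModSite.toAb (F π M)) (n + 1)).toEquiv h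

end Groth.Agent.HensSph
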