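import Groth.Agent.EtaleLocalProps.Basic
import Groth.Agent.Hensel.PairEnvelopeStage
import Groth.Prelude.Def_HensSch
import Mathlib

/-!
# Connected henselizations over normal domains are domains: homomorphisms to fields
-/

set_option autoImplicit false
set_option backward.isDefEq.respectTransparency false
set_option backward.isDefEq.respectTransparency.types false
set_option linter.style.haveILetI false
set_option linter.unusedSectionVars false
set_option maxHeartbeats 1000000

universe u

open Polynomial TensorProduct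

noncomputable section

namespace Groth.Agent.HensSph

/-- a ring with domain local rings maps to a ring without idempotents through one component -/
theorem exists_minimal_le_ker {E : Type u} [CommRing E] [IsNoetherianRing E]
    (hdom : ∀ (m : Ideal E) [m.IsMaximal], IsDomain (Localization.AtPrime m)) {S : Type u} [CommRing S]
    [Nontrivial S] (hS : ∀ e : S, e * e = e → e = 0 ∨ e = 1) (φ : E →+* S) :
    ∃ p ∈ minimalPrimes E, p ≤ RingHom.ker φ := by
  classical
  let ι := (minimalPrimes.finite_of_isNoetherianRing E).toFinset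
  let P : ι → Ideal E := fun i => i.1
  have hmin : ∀ i : ι, P i ∈ minimalPrimes E := fun i => (Set.Finite.mem_toFinset _).1 i.2
  have huniq : ∀ (m : Ideal E) [m.IsMaximal] (p q : Ideal E), p ∈ minimalPrimes E → q ∈ minimalPrimes E →
      p ≤ m → q ≤ m → p = q := by
    intro m _ p q hp hq hpm hqm
    haveI := hdom m
    haveI hb : ((⊥ : Ideal (Localization.AtPrime m)).comap (algebraMap E (Localization.AtPrime m))).IsPrime :=
      Ideal.IsPrime.comap _
    have key : ∀ r ∈ minimalPrimes E, r ≤ m →
        (⊥ : Ideal (Localization.AtPrime m)).comap (algebraMap E (Localization.AtPrime m)) = r := by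
      intro r hr hrm
      have hle : (⊥ : Ideal (Localization.AtPrime m)).comap (algebraMap E (Localization.AtPrime m)) ≤ r := by
        intro x hx
        obtain ⟨⟨s, hs⟩, hsx⟩ := (IsLocalization.map_eq_zero_iff m.primeCompl (Localization.AtPrime m) x).1 hx
        haveI := hr.1.1
        exact (Ideal.IsPrime.mem_or_mem inferInstance
          (show s * x ∈ r by rw [hsx]; exact r.zero_mem)).resolve_left fun h => hs (hrm h)
      exact le_antisymm hle (hr.2 ⟨hb, bot_le⟩ hle)
    exact (key p hp hpm).symm.trans (key q hq hqm)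
  have hco : Pairwise fun i j => IsCoprime (P i) (P j) := by
    intro i j hij
    rw [Ideal.isCoprime_iff_sup_eq]
    by_contra h
    obtain ⟨m, hm, hle⟩ := Ideal.exists_le_maximal _ h
    exact hij (Subtype.ext (huniq m _ _ (hmin i) (hmin j) (le_sup_left.trans hle) (le_sup_right.trans hle)))
  have hred : nilradical E = ⊥ := by
    rw [eq_bot_iff]
    intro x hx
    refine (Submodule.mem_bot _).2 ?_
    by_contra h0
    obtain ⟨m, hm, hle⟩ := Ideal.exists_le_maximal (Submodule.annihilator (Submodule.span E {x})) (by
      rw [Ne, Submodule.annihilator_eq_top_iff, Submodule.span_singleton_eq_bot]; exact h0)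
    haveI := hdom m
    have : algebraMap E (Localization.AtPrime m) x = 0 := ((mem_nilradical.1 hx).map _).eq_zero
    obtain ⟨⟨s, hs⟩, hsx⟩ := (IsLocalization.map_eq_zero_iff m.primeCompl _ x).1 this
    exact hs (hle ((Submodule.mem_annihilator_span_singleton x s).2 hsx))
  have hinf : ⨅ i, P i = ⊥ := by
    rw [← hred, nilradical, ← Ideal.sInf_minimalPrimes]
    refine le_antisymm (le_sInf fun p hp => ?_) (le_iInf fun i => sInf_le (hmin i))
    exact iInf_le P ⟨p, (Set.Finite.mem_toFinset _).2 hp⟩
  let q := (Ideal.quotientInfRingEquivPiQuotient P hco).symm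
  have hlift : ∀ x ∈ ⨅ i, P i, φ x = 0 := by
    rw [hinf]
    rintro x rfl
    exact map_zero φ
  let Φ : ((i : ι) → E ⧸ P i) →+* S := (Ideal.Quotient.lift _ φ hlift).comp q.toRingHom
  obtain ⟨i, hi⟩ : ∃ i, Φ (Pi.single i 1) = 1 := by
    by_contra h
    push Not at h
    have h0 : ∀ i, Φ (Pi.single i 1) = 0 := fun i => (hS _ (by rw [← map_mul, ← Pi.single_mul, one_mul])).resolve_right (h i)
    have h1 : Φ (∑ i, Pi.single i 1) = 0 := by rw [map_sum]; exact Finset.sum_eq_zero fun i _ => h0 i
    rw [show (∑ i, Pi.single i (1 : E ⧸ P i)) = 1 from Finset.univ_sum_single (1 : (i : ι) → E ⧸ P i), map_one] at h1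
    exact one_ne_zero h1
  refine ⟨P i, hmin i, fun x hx => ?_⟩
  let y : (j : ι) → E ⧸ P j := fun j => Ideal.Quotient.mk (P j) x
  have hy : Φ y = φ x := by
    have : q.symm (Ideal.Quotient.mk _ x) = y := rfl
    show Ideal.Quotient.lift _ φ hlift (q y) = φ x
    rw [← this, RingEquiv.apply_symm_apply]
    rfl
  have hyi : y * Pi.single i 1 = 0 := by
    funext j
    by_cases h : j = i
    · subst h
      rw [Pi.mul_apply, Pi.single_eq_same, mul_one]
      exact Ideal.Quotient.eq_zero_iff_mem.2 hx
    · rw [Pi.mul_apply, Pi.single_eq_of_ne h, mul_zero]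
      rfl
  have := congrArg Φ hyi
  rw [map_mul, hi, mul_one, map_zero, hy] at this
  exact this

variable {P : Type u} [CommRing P] [IsDomain P]

/-- elements of etale algebras are algebraic -/
theorem isAlgebraic_etale {E : Type u} [CommRing E] [Algebra P E] [Algebra.Etale P E] (x : E) :
    IsAlgebraic P x := by
  let F := FractionRing P
  let j : E →ₐ[P] F ⊗[P] E := Algebra.TensorProduct.includeRight
  have hj : Function.Injective j :=
    Algebra.TensorProduct.includeRight_injective (IsFractionRing.injective P F)
  haveI : Module.Finite F (F ⊗[P] E) := Algebra.FormallyUnramified.finite_of_free F (F ⊗[P] E)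
  obtain ⟨m, hm, hmx⟩ := (Algebra.IsAlgebraic.isAlgebraic (R := F) (j x))
  refine ⟨IsLocalization.integerNormalization (nonZeroDivisors P) m, ?_, hj ?_⟩
  · exact fun h => hm ((IsFractionRing.integerNormalization_eq_zero_iff).1 h)
  · rw [map_zero, ← aeval_algHom_apply]
    exact IsLocalization.integerNormalization_aeval_eq_zero (nonZeroDivisors P) m hmx

variable [IsNoetherianRing P] [IsIntegrallyClosed P] {I : Ideal P} {f : P} {S : Type u} [CommRing S] [Algebra P S]
  (hS : HensSch.IsHensAway P I f S (algebraMap P S))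

include hS

theorem exists_etale_preimage (t : S) :
    ∃ (E : Type u) (_ : CommRing E) (_ : Algebra P E) (_ : Algebra.Etale P E) (φ : E →ₐ[P] S) (t' : E), φ t' = t := by
  let l : Localization.Away f →+* S := IsLocalization.Away.lift f (g := algebraMap P S) hS.1
  have hl : l.comp (algebraMap P (Localization.Away f)) = algebraMap P S := IsLocalization.Away.lift_comp f hS.1
  letI := l.toAlgebra
  have hP : Hens2.IsPairHenselization (Localization.Away f) (I.map (algebraMap P (Localization.Away f))) S := by
    obtain ⟨hf, hH, hU⟩ := hS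
    refine ⟨?_, fun C _ J g hC hg => ?_⟩
    · rw [Ideal.map_map]
      exact hl.symm ▸ hH
    · obtain ⟨h, hh, hu⟩ := hU C J (g.comp (algebraMap P _)) hC (by rwa [← Ideal.map_map])
        ((IsLocalization.Away.algebraMap_isUnit (S := Localization.Away f) f).map g)
      refine ⟨h, IsLocalization.ringHom_ext (Submonoid.powers f) ?_, fun h' hh' => hu h' ?_⟩
      · rw [RingHom.comp_assoc]
        exact (congrArg h.comp hl).trans hh
      · have := congrArg (fun k : Localization.Away f →+* C => k.comp (algebraMap P _)) hh'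
        rw [RingHom.comp_assoc] at this
        exact (congrArg h'.comp hl).symm.trans this
  obtain ⟨E, _, _, _, -, e, t', rfl⟩ := Hensel.exists_nhd_mem hP t
  letI : Algebra P E := ((algebraMap (Localization.Away f) E).comp (algebraMap P _)).toAlgebra
  haveI : IsScalarTower P (Localization.Away f) E := IsScalarTower.of_algebraMap_eq' rfl
  haveI : Algebra.Etale P (Localization.Away f) := Algebra.Etale.of_isLocalizationAway f
  haveI : Algebra.Etale P E := Algebra.Etale.comp P (Localization.Away f) E
  exact ⟨E, inferInstance, inferInstance, inferInstance,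
    ⟨e.toRingHom, fun a => (e.commutes _).trans (RingHom.congr_fun hl a)⟩, t', rfl⟩

theorem isAlgebraic_hensAway (t : S) : IsAlgebraic P t := by
  obtain ⟨E, _, _, _, φ, t', rfl⟩ := exists_etale_preimage hS t
  exact (isAlgebraic_etale t').algHom φ

/-- no idempotents, from no idempotents modulo the ideal -/
theorem idempotent_trivial
    (hconn : ∀ (a : P) (n : ℕ), a * (f ^ n - a) ∈ I → ∃ k, f ^ k * a ∈ I ∨ f ^ k * (f ^ n - a) ∈ I)
    (hrep : ∀ s : S, ∃ (a : P) (n : ℕ), s * algebraMap P S f ^ n - algebraMap P S a ∈ I.map (algebraMap P S))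
    (hker : ∀ a : P, algebraMap P S a ∈ I.map (algebraMap P S) → ∃ k, f ^ k * a ∈ I)
    (e : S) (he : e * e = e) : e = 0 ∨ e = 1 := by
  obtain ⟨a, n, han⟩ := hrep e
  let J := I.map (algebraMap P S)
  haveI := hS.2.1
  let q := Ideal.Quotient.mk J
  let F := q (algebraMap P S f)
  have hF : IsUnit F := hS.1.map q
  have h1 : q e * F ^ n = q (algebraMap P S a) := by
    rw [← map_pow, ← map_mul]; exact Ideal.Quotient.eq.2 han
  have h2 : q (algebraMap P S (a * (f ^ n - a))) = 0 := by
    have h3 : q e * q e = q e := by rw [← map_mul, he]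
    rw [map_mul, map_mul, map_sub, map_pow, map_sub, map_pow, ← h1]
    linear_combination (-(F ^ n * F ^ n)) * h3
  obtain ⟨k, hk⟩ := hker _ (Ideal.Quotient.eq_zero_iff_mem.1 h2)
  rw [show f ^ k * (a * (f ^ n - a)) = (f ^ k * a) * (f ^ n - a) by ring] at hk
  have hk' : (f ^ k * a) * (f ^ (k + n) - f ^ k * a) ∈ I := by
    have := I.mul_mem_left (f ^ k) hk
    rwa [show f ^ k * ((f ^ k * a) * (f ^ n - a)) = (f ^ k * a) * (f ^ (k + n) - f ^ k * a) by ring] at this
  have key : ∀ (b : P) (j : ℕ), f ^ j * b ∈ I → q (algebraMap P S b) = 0 := by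
    intro b j hb
    have := Ideal.Quotient.eq_zero_iff_mem.2 (Ideal.mem_map_of_mem (algebraMap P S) hb)
    rw [map_mul, map_pow] at this
    exact (hF.pow j).mul_right_eq_zero.1 (by rw [← this, map_mul, map_pow])
  rcases hconn _ _ hk' with ⟨j, hj | hj⟩
  · left
    rw [← mul_assoc, ← pow_add] at hj
    have h4 : q e = 0 := (hF.pow n).mul_left_eq_zero.1 (by rw [h1]; exact key a _ hj)
    have hu : IsUnit (1 - e) := by
      have := (Ideal.mem_jacobson_bot.1 (HenselianRing.jac (Ideal.Quotient.eq_zero_iff_mem.1 h4))) (-1)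
      rwa [mul_neg_one, neg_add_eq_sub] at this
    exact hu.mul_left_eq_zero.1 (show e * (1 - e) = 0 by rw [mul_sub, mul_one, he, sub_self])
  · right
    rw [show f ^ (k + n) - f ^ k * a = f ^ k * (f ^ n - a) by ring, ← mul_assoc, ← pow_add] at hj
    have h4 : q e = 1 := by
      have h6 := key _ _ hj
      rw [map_sub, map_pow, map_sub, map_pow, ← h1, sub_eq_zero] at h6
      exact (hF.pow n).mul_right_cancel (h6.symm.trans (one_mul _).symm)
    have hu : IsUnit e := by
      have hmem : e - 1 ∈ J := Ideal.Quotient.eq.1 (h4.trans (map_one q).symm)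
      have := (Ideal.mem_jacobson_bot.1 (HenselianRing.jac hmem)) 1
      rwa [mul_one, sub_add_cancel] at this
    exact hu.mul_left_cancel (by rw [he, mul_one])

/-- homomorphisms to fields containing the base are injective -/
theorem injective_hom_field [Nontrivial S] (hidem : ∀ e : S, e * e = e → e = 0 ∨ e = 1) {K : Type u} [Field K]
    [Algebra P K] (hPK : Function.Injective (algebraMap P K)) (h : S →ₐ[P] K) : Function.Injective h := by
  rw [injective_iff_map_eq_zero]
  intro t ht
  obtain ⟨E, _, _, _, φ, t', rfl⟩ := exists_etale_preimage hS t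
  haveI : IsNoetherianRing E := Algebra.FiniteType.isNoetherianRing P E
  haveI : Nontrivial E := φ.toRingHom.domain_nontrivial
  have hdom : ∀ (m : Ideal E) [m.IsMaximal], IsDomain (Localization.AtPrime m) := fun m _ => by
    haveI : IsIntegrallyClosed (Localization.AtPrime (m.under P)) :=
      isIntegrallyClosed_of_isLocalization _ (m.under P).primeCompl (Ideal.primeCompl_le_nonZeroDivisors _)
    exact ((EtaleLocalProps.atPrime_ascend P E m).2 ⟨inferInstance, inferInstance⟩).1
  obtain ⟨p, hp, hpker⟩ := exists_minimal_le_ker hdom hidem φ.toRingHom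
  haveI := hp.1.1
  suffices t' ∈ p from hpker this
  by_contra hnot
  have halg : IsAlgebraic P (Ideal.Quotient.mkₐ P p t') := (isAlgebraic_etale t').algHom _
  obtain ⟨c, hc0, hc⟩ := halg.exists_nonzero_dvd
    (mem_nonZeroDivisors_of_ne_zero (fun h0 => hnot (Ideal.Quotient.eq_zero_iff_mem.1 h0)))
  let hbar : E ⧸ p →ₐ[P] K := Ideal.Quotient.liftₐ p (h.comp φ) fun a ha => by
    show h (φ a) = 0
    rw [show φ a = 0 from hpker ha, map_zero]
  obtain ⟨d, hd⟩ := hc
  have := congrArg hbar hd
  rw [AlgHom.commutes, map_mul, show hbar (Ideal.Quotient.mkₐ P p t') = 0 from ht, zero_mul] at this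
  exact hc0 (hPK (this.trans (map_zero _).symm))

end Groth.Agent.HensSph
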