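import Groth.Agent.HensSph.Exists
import Groth.Agent.HensSph.Acyc

/-!
# Vanishing of `H¹` splits elements of the henselization of the overlap of two basic opens
-/

set_option autoImplicit false
set_option backward.isDefEq.respectTransparency false
set_option backward.isDefEq.respectTransparency.types false
set_option linter.style.haveILetI false
set_option linter.unusedSectionVars false
set_option maxHeartbeats 2000000

universe u

open CategoryTheory CategoryTheory.Limits Opposite TopologicalSpace AlgebraicGeometry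

noncomputable section

namespace Groth.Agent.HensSph

variable {A : Type u} [CommRing A] {I : Ideal A} {X : LocallyRingedSpace.{u}} (π : X ⟶ HensSch.specLRS A)
  (hX : HensSch.IsSph A I X π)
include hX

theorem W_sup_eq_top {u v : A} (h : Ideal.span {u, v} ⊔ I = ⊤) : W π u ⊔ W π v = ⊤ := by
  refine eq_top_iff.2 fun p _ => ?_
  by_contra hn
  rw [← SetLike.mem_coe, Opens.coe_sup, Set.mem_union, not_or] at hn
  have h1 : (π.base p : PrimeSpectrum A).asIdeal.IsPrime := (π.base p : PrimeSpectrum A).isPrime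
  have hI : I ≤ (π.base p : PrimeSpectrum A).asIdeal := by
    have : π.base p ∈ PrimeSpectrum.zeroLocus (I : Set A) := hX.2.1 ▸ ⟨p, rfl⟩
    exact this
  refine h1.ne_top (top_le_iff.1 ?_)
  rw [← h, sup_le_iff, Ideal.span_le, Set.insert_subset_iff, Set.singleton_subset_iff]
  exact ⟨⟨not_not.1 hn.1, not_not.1 hn.2⟩, hI⟩

theorem exists_sub_hensAway {u v : A} (hcov : W π u ⊔ W π v = ⊤)
    (hsub : Subsingleton (ModSite.HC X.sheaf (ModSite.unit X.sheaf) 1))
    {Tf Tg T : Type u} [CommRing Tf] [CommRing Tg] [CommRing T] {jf : A →+* Tf} {jg : A →+* Tg} {j : A →+* T}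
    (hTf : HensSch.IsHensAway A I u Tf jf) (hTg : HensSch.IsHensAway A I v Tg jg)
    (hT : HensSch.IsHensAway A I (u * v) T j) (qf : Tf →+* T) (qg : Tg →+* T) (hqf : qf.comp jf = j)
    (hqg : qg.comp jg = j) (s : T) : ∃ (a : Tf) (b : Tg), qf a - qg b = s := by
  obtain ⟨κf, hκf, -⟩ := (hX.2.2 u).2.2 Tf _ jf hTf.2.1 le_rfl hTf.1
  obtain ⟨κg, hκg, -⟩ := (hX.2.2 v).2.2 Tg _ jg hTg.2.1 le_rfl hTg.1
  obtain ⟨κ, hκ, -⟩ := (hX.2.2 (u * v)).2.2 T _ j hT.2.1 le_rfl hT.1
  obtain ⟨lam, hlam, -⟩ := hT.2.2 _ _ (HensSch.secMap π (PrimeSpectrum.basicOpen (u * v)))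
    (hX.2.2 (u * v)).2.1 le_rfl (hX.2.2 (u * v)).1
  obtain ⟨t, -, htu⟩ := hT.2.2 T _ j hT.2.1 le_rfl hT.1
  have hκlam : ∀ s, κ (lam s) = s := fun s => RingHom.congr_fun
    ((htu (κ.comp lam) (by show (κ.comp lam).comp j = j; rw [RingHom.comp_assoc, hlam]; exact hκ)).trans
      (htu (RingHom.id T) (RingHom.id_comp j)).symm) s
  have eW : W π (u * v) = W π u ⊓ W π v := W_mul π u v
  have huu : IsUnit (j u) := isUnit_of_mul_isUnit_left (y := j v) (by rw [← map_mul]; exact hT.1)
  have huv : IsUnit (j v) := isUnit_of_mul_isUnit_right (x := j u) (by rw [← map_mul]; exact hT.1)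
  have hcompf : κ.comp (rA π (eW.le.trans inf_le_left)).toRingHom = qf.comp κf := by
    obtain ⟨k, -, hk⟩ := (hX.2.2 u).2.2 T _ j hT.2.1 le_rfl huu
    refine (hk _ ?_).trans (hk _ ?_).symm
    · refine RingHom.ext fun a => ?_
      exact (congrArg κ ((rA π (eW.le.trans inf_le_left)).commutes a)).trans (RingHom.congr_fun hκ a)
    · show (qf.comp κf).comp _ = j
      rw [RingHom.comp_assoc, hκf, hqf]
  have hcompg : κ.comp (rA π (eW.le.trans inf_le_right)).toRingHom = qg.comp κg := by
    obtain ⟨k, -, hk⟩ := (hX.2.2 v).2.2 T _ j hT.2.1 le_rfl huv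
    refine (hk _ ?_).trans (hk _ ?_).symm
    · refine RingHom.ext fun a => ?_
      exact (congrArg κ ((rA π (eW.le.trans inf_le_right)).commutes a)).trans (RingHom.congr_fun hκ a)
    · show (qg.comp κg).comp _ = j
      rw [RingHom.comp_assoc, hκg, hqg]
  let Fs : CohTop.Ab X.toTopCat := ModSite.toAb (ModSite.unit X.sheaf)
  have hU1 : Subsingleton (CohSite.HU Fs 1 (W π u ⊔ W π v)) := by
    rw [hcov]
    exact @Equiv.subsingleton _ _ (SiteCoh.huTerminalEquiv (Opens.grothendieckTopology X.toTopCat)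
      (IsTerminal.ofUniqueHom (fun _ => homOfLE le_top) fun _ _ => Subsingleton.elim _ _) Fs 1).symm.toEquiv hsub
  obtain ⟨a, b, hab⟩ := exists_sub_of_h1 Fs (W π u) (W π v) hU1
    ((X.presheaf.map (homOfLE eW.ge).op).hom (lam s))
  have r1 : ∀ {U : Opens X.toTopCat} (h : W π u ⊓ W π v ≤ U) (h' : W π (u * v) ≤ U) (s : X.presheaf.obj (op U)),
      (X.presheaf.map (homOfLE eW.le).op).hom ((X.presheaf.map (homOfLE h).op).hom s) =
        (X.presheaf.map (homOfLE h').op).hom s := fun h h' s => by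
    rw [← RingHom.comp_apply, ← CommRingCat.hom_comp, ← Functor.map_comp]; rfl
  have hab' : rA π (eW.le.trans inf_le_left) (a : S π u) - rA π (eW.le.trans inf_le_right) (b : S π v) =
      lam s := by
    have h3 := congrArg (X.presheaf.map (homOfLE eW.le).op).hom hab
    refine Eq.trans ?_ (h3.trans ?_)
    · refine Eq.trans ?_ (map_sub (X.presheaf.map (homOfLE eW.le).op).hom _ _).symm
      exact congrArg₂ (· - ·) (r1 inf_le_left (eW.le.trans inf_le_left) a).symm
        (r1 inf_le_right (eW.le.trans inf_le_right) b).symm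
    · refine (r1 eW.ge le_rfl _).trans ?_
      rw [show (homOfLE (le_refl (W π (u * v)))).op = 𝟙 _ from Subsingleton.elim _ _,
        CategoryTheory.Functor.map_id]
      rfl
  have key := congrArg κ hab'
  rw [map_sub, hκlam] at key
  have k1 : κ (rA π (eW.le.trans inf_le_left) (a : S π u)) = qf (κf a) := RingHom.congr_fun hcompf a
  have k2 : κ (rA π (eW.le.trans inf_le_right) (b : S π v)) = qg (κg b) := RingHom.congr_fun hcompg b
  rw [k1, k2] at key
  exact ⟨κf a, κg b, key⟩

end Groth.Agent.HensSph
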