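import Mathlib

/-!
# The triangle of lines
-/

set_option autoImplicit false
set_option maxHeartbeats 1000000

open MvPolynomial

noncomputable section

namespace Groth.Agent.HensSph.Triangle

/-- the coordinate ring of the plane -/
abbrev P : Type := MvPolynomial (Fin 2) ℂ

def x : P := X 0
def y : P := X 1
def z : P := X 0 + X 1 - 1

/-- the equation of the triangle -/
def c : P := X 0 * X 1 * (X 0 + X 1 - 1)

def f : P := X 0 + X 1
def g : P := 1 - X 0

/-- evaluation at a point -/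
def ev (a b : ℂ) : P →+* ℂ := MvPolynomial.eval ![a, b]

instance (priority := high) isIntegrallyClosed_P : IsIntegrallyClosed P :=
  UniqueFactorizationMonoid.instIsIntegrallyClosed

theorem prime_x : Prime x := X_prime
theorem prime_y : Prime y := X_prime

theorem prime_z : Prime z := by
  let σ : P →ₐ[ℂ] P := aeval ![X 0 + X 1 - 1, X 1]
  let τ : P →ₐ[ℂ] P := aeval ![X 0 - X 1 + 1, X 1]
  have h1 : σ.comp τ = AlgHom.id ℂ P := MvPolynomial.algHom_ext fun i => by
    fin_cases i <;> simp [σ, τ] <;> ring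
  have h2 : τ.comp σ = AlgHom.id ℂ P := MvPolynomial.algHom_ext fun i => by
    fin_cases i <;> simp [σ, τ] <;> ring
  let e : P ≃ₐ[ℂ] P := AlgEquiv.ofAlgHom σ τ h1 h2
  have h := (MulEquiv.prime_iff e.toRingEquiv.toMulEquiv).2 (show Prime (X 0 : P) from X_prime)
  have he : e (X 0) = z := by simp [e, σ, z]
  rw [← he]
  exact h

theorem eval_eq_zero {p a : P} (h : p ∣ a) {u v : ℂ} (hp : ev u v p = 0) : ev u v a = 0 := by
  obtain ⟨b, rfl⟩ := h
  rw [map_mul, hp, zero_mul]

theorem link {p q h b : P} {n : ℕ} (hp : p ∣ b) (hq : q ∣ h ^ n - b) {u v : ℂ} (hpv : ev u v p = 0)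
    (hqv : ev u v q = 0) (hh : ev u v h ≠ 0) : False := by
  have h1 := eval_eq_zero hp hpv
  have h2 := eval_eq_zero hq hqv
  rw [map_sub, h1, sub_zero, map_pow] at h2
  exact pow_ne_zero n hh h2

theorem c_dvd_of {a : P} (hx : x ∣ a) (hy : y ∣ a) (hz : z ∣ a) : c ∣ a := by
  obtain ⟨b, rfl⟩ := hx
  have hy' : y ∣ b := (prime_y.dvd_or_dvd hy).resolve_left fun h => by
    have := eval_eq_zero h (u := 1) (v := 0) (by simp [ev, y])
    simp [ev, x] at this
  obtain ⟨d, rfl⟩ := hy'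
  have hz' : z ∣ d := by
    rcases prime_z.dvd_or_dvd hz with h | h
    · have := eval_eq_zero h (u := 1) (v := 0) (by simp [ev, z])
      simp [ev, x] at this
    · refine (prime_z.dvd_or_dvd h).resolve_left fun h => ?_
      have := eval_eq_zero h (u := 0) (v := 1) (by simp [ev, z])
      simp [ev, y] at this
  obtain ⟨e, rfl⟩ := hz'
  exact ⟨e, by simp [c, x, y, z]; ring⟩

theorem dvd_c : x ∣ c ∧ y ∣ c ∧ z ∣ c :=
  ⟨Dvd.intro _ (by simp [c, x]; ring : x * (X 1 * (X 0 + X 1 - 1)) = c),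
    Dvd.intro _ (by simp [c, y]; ring : y * (X 0 * (X 0 + X 1 - 1)) = c),
    Dvd.intro_left _ (rfl : X 0 * X 1 * z = c)⟩

theorem conn_f (b : P) (n : ℕ) (h : c ∣ b * (f ^ n - b)) : c ∣ b ∨ c ∣ f ^ n - b := by
  have hx := prime_x.dvd_or_dvd (dvd_c.1.trans h)
  have hy := prime_y.dvd_or_dvd (dvd_c.2.1.trans h)
  have hz := prime_z.dvd_or_dvd (dvd_c.2.2.trans h)
  have n1 : ev 0 1 f ≠ 0 := by simp [ev, f]
  have n2 : ev 1 0 f ≠ 0 := by simp [ev, f]
  have x1 : ev 0 1 x = 0 := by simp [ev, x]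
  have z1 : ev 0 1 z = 0 := by simp [ev, z]
  have y2 : ev 1 0 y = 0 := by simp [ev, y]
  have z2 : ev 1 0 z = 0 := by simp [ev, z]
  rcases hz with hz | hz
  · exact Or.inl (c_dvd_of (hx.resolve_right fun h' => link hz h' z1 x1 n1)
      (hy.resolve_right fun h' => link hz h' z2 y2 n2) hz)
  · exact Or.inr (c_dvd_of (hx.resolve_left fun h' => link h' hz x1 z1 n1)
      (hy.resolve_left fun h' => link h' hz y2 z2 n2) hz)

theorem conn_g (b : P) (n : ℕ) (h : c ∣ b * (g ^ n - b)) : c ∣ b ∨ c ∣ g ^ n - b := by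
  have hx := prime_x.dvd_or_dvd (dvd_c.1.trans h)
  have hy := prime_y.dvd_or_dvd (dvd_c.2.1.trans h)
  have hz := prime_z.dvd_or_dvd (dvd_c.2.2.trans h)
  have n1 : ev 0 1 g ≠ 0 := by simp [ev, g]
  have n2 : ev 0 0 g ≠ 0 := by simp [ev, g]
  have x1 : ev 0 1 x = 0 := by simp [ev, x]
  have z1 : ev 0 1 z = 0 := by simp [ev, z]
  have x2 : ev 0 0 x = 0 := by simp [ev, x]
  have y2 : ev 0 0 y = 0 := by simp [ev, y]
  rcases hx with hx | hx
  · exact Or.inl (c_dvd_of hx (hy.resolve_right fun h' => link hx h' x2 y2 n2)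
      (hz.resolve_right fun h' => link hx h' x1 z1 n1))
  · exact Or.inr (c_dvd_of hx (hy.resolve_left fun h' => link h' hx y2 x2 n2)
      (hz.resolve_left fun h' => link h' hx z1 x1 n1))

theorem fg_add_xz : f * g + x * z = y := by simp [f, g, x, y, z]; ring

theorem fgc_top : Ideal.span {f, g} ⊔ Ideal.span {c} = ⊤ := by
  rw [Ideal.eq_top_iff_one]
  have hs1 : f * g ∈ Ideal.span {f, g} ⊔ Ideal.span {c} :=
    Submodule.mem_sup_left (Ideal.mul_mem_right _ _ (Ideal.subset_span (Set.mem_insert _ _)))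
  have h2 : f + g = 1 + y := by simp [f, g, y]; ring
  have hc : c = x * y * z := rfl
  -- `y ^ 2 = y * (f * g) + c`
  have hy2 : y * y ∈ Ideal.span {f, g} ⊔ Ideal.span {c} := by
    have e : y * y = y * (f * g) + c := by
      rw [hc]; nth_rewrite 2 [← fg_add_xz]; ring
    rw [e]
    exact Ideal.add_mem _ (Ideal.mul_mem_left _ _ hs1)
      (Submodule.mem_sup_right (Ideal.mem_span_singleton_self c))
  have h3 : 1 + y ∈ Ideal.span {f, g} ⊔ Ideal.span {c} := by
    rw [← h2]
    exact Submodule.mem_sup_left (Ideal.add_mem _ (Ideal.subset_span (Set.mem_insert _ _))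
      (Ideal.subset_span (Set.mem_insert_of_mem _ rfl)))
  have e1 : (1 : P) = (1 + y) * (1 - y) + y * y := by ring
  rw [e1]
  exact Ideal.add_mem _ (Ideal.mul_mem_right _ _ h3) hy2

end Groth.Agent.HensSph.Triangle
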