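import Groth.Agent.HensSph.Mod
import Groth.Agent.CohQC.Bound

/-!
# Existence of henselizations of localisations and splitting of sections from vanishing of `H¹`
-/

set_option autoImplicit false
set_option backward.isDefEq.respectTransparency false
set_option backward.isDefEq.respectTransparency.types false
set_option linter.style.haveILetI false
set_option maxHeartbeats 1000000

universe u

open CategoryTheory Category Limits Opposite TopologicalSpace Abelian
open Groth.Agent.SiteCoh

noncomputable section

namespace Groth.Agent.HensSph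

/-- henselizations of localisations exist -/
theorem exists_hensAway (A : Type u) [CommRing A] (I : Ideal A) (f : A) :
    ∃ (S : Type u) (_ : CommRing S) (_ : Algebra A S), HensSch.IsHensAway A I f S (algebraMap A S) := by
  let L := Localization.Away f
  let J := I.map (algebraMap A L)
  obtain ⟨hH, hU⟩ := Hensel.isPairHenselization_pairEnv L J
  let φ : A →+* Hensel.PairEnv L J := (algebraMap L (Hensel.PairEnv L J)).comp (algebraMap A L)
  refine ⟨Hensel.PairEnv L J, inferInstance, φ.toAlgebra,
    (IsLocalization.Away.algebraMap_isUnit (S := L) f).map (algebraMap L (Hensel.PairEnv L J)), ?_,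
    fun C _ K g hC hg hu => ?_⟩
  · show HenselianRing _ (I.map φ)
    rw [← Ideal.map_map]
    exact hH
  · let l : L →+* C := IsLocalization.Away.lift f (g := g) hu
    have hl : l.comp (algebraMap A L) = g := IsLocalization.Away.lift_comp f hu
    obtain ⟨h, hh, hhu⟩ := hU C K l hC (by rw [Ideal.map_map, hl]; exact hg)
    refine ⟨h, ?_, fun h' hh' => hhu h' (IsLocalization.ringHom_ext (Submonoid.powers f) ?_)⟩
    · show h.comp φ = g
      rw [← RingHom.comp_assoc, hh, hl]
    · show (h'.comp (algebraMap L _)).comp (algebraMap A L) = _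
      rw [RingHom.comp_assoc, hl]
      exact hh'

/-- sections on an overlap split when `H¹` of the union vanishes -/
theorem exists_sub_of_h1 {X : TopCat.{u}} (F : CohTop.Ab X) (U V : Opens X)
    (h : Subsingleton (CohSite.HU F 1 (U ⊔ V))) (s : F.obj.obj (op (U ⊓ V))) :
    ∃ (a : F.obj.obj (op U)) (b : F.obj.obj (op V)),
      F.obj.map (homOfLE (inf_le_left : U ⊓ V ≤ U)).op a - F.obj.map (homOfLE (inf_le_right : U ⊓ V ≤ V)).op b = s := by
  let S := _root_.Opens.mayerVietorisSquare U V
  have hS := S.shortComplex_shortExact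
  have h3 : Subsingleton (Ext S.shortComplex.X₃ F 1) := h
  let φ : S.shortComplex.X₁ ⟶ F := (secEquiv (U ⊓ V) F).symm s
  obtain ⟨x₂, hx⟩ := Ext.contravariant_sequence_exact₁ hS F (Ext.mk₀ φ) (rfl : 1 + 0 = 1)
    (@Subsingleton.elim _ h3 _ _)
  obtain ⟨ψ, rfl⟩ := (Ext.mk₀_bijective _ _).2 x₂
  rw [Ext.mk₀_comp_mk₀] at hx
  have e := (Ext.mk₀_bijective _ _).1 hx
  refine ⟨secEquiv U F (biprod.inl ≫ ψ), secEquiv V F (biprod.inr ≫ ψ), ?_⟩
  rw [← secEquiv_freeSheafMap, ← secEquiv_freeSheafMap, ← map_sub]
  rw [← (secEquiv (U ⊓ V) F).apply_symm_apply s]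
  refine congrArg (secEquiv (U ⊓ V) F) ?_
  show _ = φ
  rw [← e]
  show _ = biprod.lift (CohCx.freeSheafMap (Opens.grothendieckTopology X) (homOfLE inf_le_left : U ⊓ V ⟶ U))
    (-CohCx.freeSheafMap (Opens.grothendieckTopology X) (homOfLE inf_le_right : U ⊓ V ⟶ V)) ≫ ψ
  rw [biprod.lift_eq]
  simp only [Preadditive.add_comp, Category.assoc, Preadditive.neg_comp]
  exact sub_eq_add_neg _ _

end Groth.Agent.HensSph
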