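import Mathlib

/-!
# A functional on the big ring turns a splitting into conjugate algebraic elements differing by one
-/

set_option autoImplicit false
set_option linter.style.haveILetI false
set_option maxHeartbeats 1000000

universe u

open TensorProduct Polynomial

noncomputable section

namespace Groth.Agent.HensSph

variable {R : Type u} [CommRing R] [IsDomain R] {K : Type u} [Field K] [Algebra R K] [FaithfulSMul R K]

theorem exists_clear {S : Type u} [CommRing S] [Algebra R S] (z : FractionRing R ⊗[R] S) :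
    ∃ (r : R) (_ : r ≠ 0) (s : S), algebraMap R (FractionRing R) r • z = (1 : FractionRing R) ⊗ₜ[R] s := by
  induction z with
  | zero => exact ⟨1, one_ne_zero, 0, by simp⟩
  | tmul q s =>
    obtain ⟨a, r, hr, rfl⟩ := IsFractionRing.div_surjective (A := R) q
    refine ⟨r, nonZeroDivisors.ne_zero hr, a • s, ?_⟩
    have : algebraMap R (FractionRing R) r ≠ 0 :=
      IsFractionRing.to_map_ne_zero_of_mem_nonZeroDivisors hr
    rw [smul_tmul', smul_eq_mul, mul_div_cancel₀ _ this, ← smul_tmul, Algebra.smul_def, mul_one]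
  | add z w hz hw =>
    obtain ⟨r, hr, s, e⟩ := hz
    obtain ⟨r', hr', s', e'⟩ := hw
    refine ⟨r' * r, mul_ne_zero hr' hr, r' • s + r • s', ?_⟩
    have e1 : (algebraMap R (FractionRing R) r' * algebraMap R (FractionRing R) r) • z =
        (1 : FractionRing R) ⊗ₜ[R] (r' • s) := by rw [mul_smul, e, algebraMap_smul, tmul_smul]
    have e2 : (algebraMap R (FractionRing R) r' * algebraMap R (FractionRing R) r) • w =
        (1 : FractionRing R) ⊗ₜ[R] (r • s') := by rw [mul_comm, mul_smul, e', algebraMap_smul, tmul_smul]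
    rw [map_mul, smul_add, e1, e2, tmul_add]

theorem no_shift [CharZero K] {F : Type u} [Field F] [Algebra F K] (m : F[X]) (hm : m ≠ 0) (r : K)
    (h : ∀ x : K, aeval x m = 0 → aeval (x + 1) m = 0) (hr : aeval r m = 0) : False := by
  classical
  have key : ∀ n : ℕ, aeval (r + n) m = 0 := by
    intro n
    induction n with
    | zero => simpa using hr
    | succ n ih => push_cast; rw [← add_assoc]; exact h _ ih
  refine Set.infinite_range_of_injective (f := fun n : ℕ => r + (n : K))
    (fun a b hab => Nat.cast_injective (add_left_cancel hab)) ?_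
  refine ((m.map (algebraMap F K)).roots.toFinset.finite_toSet).subset ?_
  rintro _ ⟨n, rfl⟩
  rw [Finset.mem_coe, Multiset.mem_toFinset, mem_roots (Polynomial.map_ne_zero hm), IsRoot, eval_map,
    ← aeval_def]
  exact key n

variable [CharZero K]

/-- no splitting of an idempotent separating two points -/
theorem false_of_split {Sf Sg S A : Type u} [CommRing Sf] [CommRing Sg] [CommRing S] [CommRing A] [Algebra R Sf]
    [Algebra R Sg] [Algebra R S] [Algebra R A] (pf : Sf →ₐ[R] S) (pg : Sg →ₐ[R] S) (val : A →ₐ[R] K)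
    (hP hQ : S →ₐ[R] K) (hf : Function.Injective (hP.comp pf)) (hf' : Function.Injective (hQ.comp pf))
    (hg : Function.Injective (hP.comp pg)) (hg' : Function.Injective (hQ.comp pg))
    (hfalg : ∀ s : Sf, IsAlgebraic R s) (e : S) (heP : hP e = 1) (heQ : hQ e = 0)
    (a : Sf ⊗[R] A) (b : Sg ⊗[R] A)
    (hab : pf.toLinearMap.rTensor A a - pg.toLinearMap.rTensor A b = e ⊗ₜ[R] (1 : A)) : False := by
  let F := FractionRing R
  letI : Algebra F K := FractionRing.liftAlgebra R K
  obtain ⟨ψ, hψ⟩ := (Algebra.linearMap F K).exists_leftInverse_of_injective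
    (LinearMap.ker_eq_bot.2 (algebraMap F K).injective)
  let ψA : A →ₗ[R] F := (ψ.restrictScalars R).comp val.toLinearMap
  have hψ1 : ψA 1 = 1 := by
    show ψ (val 1) = 1
    rw [map_one, ← map_one (algebraMap F K)]
    exact LinearMap.congr_fun hψ 1
  let μ : ∀ (T : Type u) [CommRing T] [Algebra R T], T ⊗[R] A →ₗ[R] F ⊗[R] T := fun T _ _ =>
    (TensorProduct.comm R T F).toLinearMap.comp (ψA.lTensor T)
  let qf := Algebra.TensorProduct.map (AlgHom.id F F) pf
  let qg := Algebra.TensorProduct.map (AlgHom.id F F) pg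
  have hqf : ∀ x, μ S (pf.toLinearMap.rTensor A x) = qf (μ Sf x) := fun x => by
    induction x with
    | zero => simp
    | tmul s t => simp [μ, qf]
    | add x y hx hy => simp only [map_add, hx, hy]
  have hqg : ∀ x, μ S (pg.toLinearMap.rTensor A x) = qg (μ Sg x) := fun x => by
    induction x with
    | zero => simp
    | tmul s t => simp [μ, qg]
    | add x y hx hy => simp only [map_add, hx, hy]
  have heq : qf (μ Sf a) - qg (μ Sg b) = (1 : F) ⊗ₜ[R] e := by
    rw [← hqf, ← hqg, ← map_sub, hab]
    simp [μ, hψ1]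
  let H : ∀ {T : Type u} [CommRing T] [Algebra R T], (T →ₐ[R] K) → (F ⊗[R] T →ₐ[F] K) := fun h =>
    Algebra.TensorProduct.lift (Algebra.ofId F K) h fun _ _ => Commute.all _ _
  have hH : ∀ {T : Type u} [CommRing T] [Algebra R T] (h : T →ₐ[R] K), Function.Injective h →
      Function.Injective (H h) := by
    intro T _ _ h hh
    rw [injective_iff_map_eq_zero]
    intro z hz
    obtain ⟨r, hr, s, es⟩ := exists_clear z
    have h1 : H h ((1 : F) ⊗ₜ[R] s) = 0 := by rw [← es, map_smul, hz, smul_zero]
    rw [show H h ((1 : F) ⊗ₜ[R] s) = h s by simp [H]] at h1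
    rw [hh (h1.trans (map_zero h).symm), tmul_zero] at es
    exact ((IsUnit.mk0 _ (IsFractionRing.to_map_ne_zero_of_mem_nonZeroDivisors
      (mem_nonZeroDivisors_of_ne_zero hr))).smul_eq_zero).1 es
  have hcf : ∀ (h : S →ₐ[R] K) x, H h (qf x) = H (h.comp pf) x := fun h x =>
    AlgHom.congr_fun (show (H h).comp qf = H (h.comp pf) from
      Algebra.TensorProduct.ext (by ext) (AlgHom.ext fun s => by simp [H, qf])) x
  have hcg : ∀ (h : S →ₐ[R] K) x, H h (qg x) = H (h.comp pg) x := fun h x =>
    AlgHom.congr_fun (show (H h).comp qg = H (h.comp pg) from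
      Algebra.TensorProduct.ext (by ext) (AlgHom.ext fun s => by simp [H, qg])) x
  let a' := μ Sf a
  let b' := μ Sg b
  have eP : H (hP.comp pf) a' = H (hP.comp pg) b' + 1 := by
    have := congrArg (H hP) heq
    rw [map_sub, hcf, hcg, show H hP ((1 : F) ⊗ₜ[R] e) = 1 by simp [H, heP]] at this
    rw [← this]; ring
  have eQ : H (hQ.comp pf) a' = H (hQ.comp pg) b' := by
    have := congrArg (H hQ) heq
    rw [map_sub, hcf, hcg, show H hQ ((1 : F) ⊗ₜ[R] e) = 0 by simp [H, heQ], sub_eq_zero] at this
    exact this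
  have m1 : minpoly F (H (hP.comp pg) b' + 1) = minpoly F (H (hP.comp pg) b') := by
    rw [← eP, minpoly.algHom_eq _ (hH _ hf), ← minpoly.algHom_eq _ (hH _ hf') a', eQ,
      minpoly.algHom_eq _ (hH _ hg'), minpoly.algHom_eq _ (hH _ hg)]
  have hint : IsIntegral F (H (hP.comp pg) b') := by
    suffices IsIntegral F (H (hP.comp pf) a') by
      rw [eP] at this
      simpa using this.sub (isIntegral_one (R := F) (B := K))
    obtain ⟨r, hr, s, es⟩ := exists_clear a'
    have hs : IsIntegral F (H (hP.comp pf) ((1 : F) ⊗ₜ[R] s)) := by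
      rw [show H (hP.comp pf) ((1 : F) ⊗ₜ[R] s) = hP (pf s) by simp [H]]
      exact (((hfalg s).algHom (hP.comp pf)).extendScalars (IsFractionRing.injective R F)).isIntegral
    rw [← es, map_smul] at hs
    have hne : algebraMap R F r ≠ 0 :=
      IsFractionRing.to_map_ne_zero_of_mem_nonZeroDivisors (mem_nonZeroDivisors_of_ne_zero hr)
    have h5 := hs.smul (algebraMap R F r)⁻¹
    rwa [inv_smul_smul₀ hne] at h5
  refine no_shift (minpoly F (H (hP.comp pg) b')) (minpoly.ne_zero hint) _ (fun x hx => ?_) (minpoly.aeval _ _)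
  have hcomp : minpoly F (H (hP.comp pg) b') = (minpoly F (H (hP.comp pg) b')).comp (X - C 1) := by
    conv_lhs => rw [← m1, ← map_one (algebraMap F K), minpoly.add_algebraMap]
  rw [hcomp, aeval_comp]
  simpa using hx

end Groth.Agent.HensSph
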