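import Groth.Agent.HensSph.Branch
import Groth.Agent.HensSph.Retract
import Groth.Agent.HensSph.Curve
import Groth.Agent.HensSph.Exists
import Groth.Agent.HensSph.Cech

/-!
# Nonvanishing of `H¹` of the structure sheaf in characteristic zero
-/

set_option autoImplicit false
set_option backward.isDefEq.respectTransparency false
set_option backward.isDefEq.respectTransparency.types false
set_option linter.style.haveILetI false
set_option linter.unusedSectionVars false
set_option maxHeartbeats 2000000

universe u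

open CategoryTheory CategoryTheory.Limits Opposite TopologicalSpace AlgebraicGeometry TensorProduct

noncomputable section

namespace Groth.Agent.HensSph

section Residue

variable {A : Type u} [CommRing A] {I : Ideal A} {f : A} {B : Type u} [CommRing B] [Algebra A B]
  (hB : HensSch.IsHensAway A I f B (algebraMap A B))
include hB

theorem exists_pow_mul_mem (a : A) (ha : algebraMap A B a ∈ I.map (algebraMap A B)) : ∃ k, f ^ k * a ∈ I := by
  obtain ⟨h, -, hh, -, -⟩ := exists_residue hB
  have h0 : (I.map (algebraMap A B)).map h ≤ ⊥ := by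
    rw [Ideal.map_map, hh, ← Ideal.map_map, Ideal.map_quotient_self, Ideal.map_bot]
  have e : algebraMap (A ⧸ I) (LF I f) (Ideal.Quotient.mk I a) = 0 :=
    (RingHom.congr_fun hh a).symm.trans ((Submodule.mem_bot _).1 (h0 (Ideal.mem_map_of_mem h ha)))
  obtain ⟨⟨_, k, rfl⟩, hk⟩ :=
    (IsLocalization.map_eq_zero_iff (Submonoid.powers (Ideal.Quotient.mk I f)) _ _).1 e
  exact ⟨k, Ideal.Quotient.eq_zero_iff_mem.1 (by simpa using hk)⟩

theorem exists_rep_mod (s : B) :
    ∃ (a : A) (n : ℕ), s * algebraMap A B f ^ n - algebraMap A B a ∈ I.map (algebraMap A B) := by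
  obtain ⟨h, ν, -, hν, hνh⟩ := exists_residue hB
  obtain ⟨n, x, hx⟩ := IsLocalization.Away.surj (Ideal.Quotient.mk I f) (h s)
  obtain ⟨a, rfl⟩ := Ideal.Quotient.mk_surjective x
  refine ⟨a, n, Ideal.Quotient.eq.1 ?_⟩
  rw [map_mul, map_pow]
  have e := congrArg ν hx
  rw [map_mul, map_pow] at e
  have e1 : ∀ b, ν (algebraMap (A ⧸ I) (LF I f) (Ideal.Quotient.mk I b)) =
      Ideal.Quotient.mk (I.map (algebraMap A B)) (algebraMap A B b) := fun b => RingHom.congr_fun hν _
  rw [e1, e1, show ν (h s) = Ideal.Quotient.mk _ s from RingHom.congr_fun hνh s] at e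
  exact e

theorem nontrivial_of_point {L : Type u} [Field L] (g : A →+* L) (hI : I.map g ≤ ⊥) (hf : g f ≠ 0) :
    ∃ χ : B →+* L, χ.comp (algebraMap A B) = g :=
  (hB.2.2 L ⊥ g Hensel.henselianRing_bot hI (IsUnit.mk0 _ hf)).exists

end Residue

section Homs

variable {P R : Type u} [CommRing P] [IsDomain P] [CommRing R] [Algebra P R] {K : Type u} [Field K] [IsAlgClosed K]
  [Algebra P K] [Algebra R K] [IsScalarTower P R K]

theorem exists_hom_field (hPR : Function.Injective (algebraMap P R)) (hRK : Function.Injective (algebraMap R K))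
    (halgR : ∀ r : R, IsAlgebraic P r) {S : Type u} [CommRing S] [Algebra P S] [Algebra R S]
    [IsScalarTower P R S] [Module.Flat P S] (halg : ∀ s : S, IsAlgebraic P s) {L : Type u} [Field L]
    (χ : S →+* L) (e : S) (he : e * e = e) :
    ∃ h : S →ₐ[R] K, (χ e = 1 → h e = 1) ∧ (χ e = 0 → h e = 0) := by
  haveI : IsDomain R := hRK.isDomain
  haveI := RingHom.ker_isPrime χ
  obtain ⟨q, hq, hqp, hql⟩ := Ideal.exists_ideal_le_liesOver_of_le (p := (⊥ : Ideal P))
    (q := (RingHom.ker χ).under P) (RingHom.ker χ) bot_le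
  have hq0 : ∀ a : P, algebraMap P S a ∈ q → a = 0 := fun a ha => by
    have : a ∈ q.under P := ha
    rw [← hql.over] at this
    exact this
  have hinj : Function.Injective (algebraMap R (S ⧸ q)) := by
    rw [injective_iff_map_eq_zero]
    intro r hr
    by_contra hr0
    obtain ⟨c, hc0, d, hd⟩ := (halgR r).exists_nonzero_dvd (mem_nonZeroDivisors_of_ne_zero hr0)
    have := congrArg (algebraMap R (S ⧸ q)) hd
    rw [map_mul, hr, zero_mul, IsScalarTower.algebraMap_apply R S (S ⧸ q), ← IsScalarTower.algebraMap_apply P R S] at this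
    exact hc0 (hq0 c (Ideal.Quotient.eq_zero_iff_mem.1 this))
  haveI : FaithfulSMul R (S ⧸ q) := (faithfulSMul_iff_algebraMap_injective _ _).2 hinj
  haveI : FaithfulSMul R K := (faithfulSMul_iff_algebraMap_injective _ _).2 hRK
  haveI : Algebra.IsAlgebraic R (S ⧸ q) := ⟨fun t => by
    obtain ⟨s, rfl⟩ := Ideal.Quotient.mk_surjective t
    exact ((halg s).extendScalars hPR).algHom (Ideal.Quotient.mkₐ R q)⟩
  let h : S →ₐ[R] K := (IsAlgClosed.lift : S ⧸ q →ₐ[R] K).comp (Ideal.Quotient.mkₐ R q)
  have hq' : ∀ t ∈ q, h t = 0 := fun t ht => by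
    show (IsAlgClosed.lift : S ⧸ q →ₐ[R] K) (Ideal.Quotient.mk q t) = 0
    rw [Ideal.Quotient.eq_zero_iff_mem.2 ht, map_zero]
  have hor : e ∈ q ∨ 1 - e ∈ q := by
    refine Ideal.IsPrime.mem_or_mem ‹q.IsPrime› ?_
    rw [mul_sub, mul_one, he, sub_self]
    exact q.zero_mem
  refine ⟨h, fun h1 => ?_, fun h0 => ?_⟩
  · rcases hor with h' | h'
    · exact absurd (RingHom.mem_ker.1 (hq h')) (by rw [h1]; exact one_ne_zero)
    · have := hq' _ h'
      rw [map_sub, map_one, sub_eq_zero] at this
      exact this.symm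
  · rcases hor with h' | h'
    · exact hq' _ h'
    · have := RingHom.mem_ker.1 (hq h')
      rw [map_sub, map_one, h0, sub_zero] at this
      exact absurd this one_ne_zero

end Homs

namespace Triangle

abbrev I₀ : Ideal P := Ideal.span {c}

theorem c_mem (a b : ℂ) (h : a * b * (a + b - 1) = 0) : (I₀).map (ev a b) ≤ ⊥ := by
  rw [Ideal.map_span, Set.image_singleton, Ideal.span_le, Set.singleton_subset_iff, SetLike.mem_coe, Submodule.mem_bot]
  simpa [ev, c] using h

theorem idem_trivial {S : Type} [CommRing S] [Algebra P S] {h : P}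
    (hconn : ∀ (b : P) (n : ℕ), c ∣ b * (h ^ n - b) → c ∣ b ∨ c ∣ h ^ n - b)
    (hS : HensSch.IsHensAway P I₀ h S (algebraMap P S)) (e : S) (he : e * e = e) : e = 0 ∨ e = 1 := by
  refine idempotent_trivial hS (fun a n hn => ⟨0, ?_⟩) (exists_rep_mod hS) (exists_pow_mul_mem hS) e he
  rw [pow_zero, one_mul, one_mul]
  rcases hconn a n (Ideal.mem_span_singleton.1 hn) with h' | h'
  · exact Or.inl (Ideal.mem_span_singleton.2 h')
  · exact Or.inr (Ideal.mem_span_singleton.2 h')

theorem exists_idem {S : Type} [CommRing S] [Algebra P S] (hS : HensSch.IsHensAway P I₀ (f * g) S (algebraMap P S)) :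
    ∃ e : S, e * e = e ∧ ∀ (χ : S →+* ℂ) (a b : ℂ), χ.comp (algebraMap P S) = ev a b →
      a * b * (a + b - 1) = 0 → χ e * ev a b (f * g) = -(ev a b (x * z)) := by
  obtain ⟨hu, hH, -⟩ := hS
  haveI := hH
  let J := I₀.map (algebraMap P S)
  obtain ⟨w, hw⟩ := hu.exists_right_inv
  let u0 : S := -algebraMap P S (x * z) * w
  have hc : algebraMap P S c ∈ J := Ideal.mem_map_of_mem _ (Ideal.mem_span_singleton_self c)
  have hy : algebraMap P S (f * g) * u0 - algebraMap P S (f * g) = -algebraMap P S y := by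
    rw [show algebraMap P S y = algebraMap P S (f * g) + algebraMap P S (x * z) by rw [← map_add, fg_add_xz]]
    linear_combination (-algebraMap P S (x * z)) * hw
  have hmem : u0 * u0 - u0 ∈ J := by
    have e1 : u0 * u0 - u0 = w * w * algebraMap P S c := by
      have hcc : algebraMap P S c = algebraMap P S (x * z) * algebraMap P S y := by
        rw [← map_mul]; exact congrArg _ (by simp [c, x, y, z]; ring)
      have : algebraMap P S y = algebraMap P S (f * g) + algebraMap P S (x * z) := by rw [← map_add, fg_add_xz]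
      rw [hcc, this]
      linear_combination (-(algebraMap P S (x * z) * w)) * hw
    rw [e1]
    exact Ideal.mul_mem_left _ _ hc
  obtain ⟨e, he, hew⟩ := HenselianRing.is_henselian (I := J) (Polynomial.X ^ 2 - Polynomial.X)
    (Polynomial.monic_X_pow_sub (Polynomial.degree_X_le.trans_lt (by norm_num))) u0
    (by rw [Polynomial.eval_sub, Polynomial.eval_pow, Polynomial.eval_X, sq]; exact hmem)
    (by
      refine isUnit_iff_exists_inv.2 ⟨Ideal.Quotient.mk J (Polynomial.eval u0 (Polynomial.derivative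
        (Polynomial.X ^ 2 - Polynomial.X))), ?_⟩
      rw [← map_mul, ← map_one (Ideal.Quotient.mk J), Ideal.Quotient.eq]
      have : Polynomial.eval u0 (Polynomial.derivative ((Polynomial.X : Polynomial S) ^ 2 - Polynomial.X)) = 2 * u0 - 1 := by
        simp; ring
      rw [this]
      convert Ideal.mul_mem_left J 4 hmem using 1
      ring)
  refine ⟨e, by simpa [Polynomial.IsRoot, sub_eq_zero, pow_two] using he, fun χ a b hχ hab => ?_⟩
  have hJ : J.map χ ≤ ⊥ := by rw [Ideal.map_map, hχ]; exact c_mem a b hab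
  have h0 : χ e = χ u0 := by
    have := (Submodule.mem_bot _).1 (hJ (Ideal.mem_map_of_mem χ hew))
    rwa [map_sub, sub_eq_zero] at this
  rw [h0, ← hχ, RingHom.comp_apply, RingHom.comp_apply, ← map_mul, ← map_neg]
  refine congrArg χ ?_
  show -algebraMap P S (x * z) * w * algebraMap P S (f * g) = _
  linear_combination (-algebraMap P S (x * z)) * hw

variable (R : Type) [CommRing R] [Algebra P R] (hR : Hens2.IsPairHenselization P I₀ R)

include hR in
theorem hensAway_R : HensSch.IsHensAway P I₀ 1 R (algebraMap P R) :=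
  ⟨by simp, hR.1, fun C _ J g hC hg _ => hR.2 C J g hC hg⟩

include hR in
theorem exists_setup (h : P) : ∃ (S : Type) (_ : CommRing S) (_ : Algebra P S) (_ : Algebra R S)
    (_ : IsScalarTower P R S), HensSch.IsHensAway P I₀ h S (algebraMap P S) ∧
      HensSch.IsHensAway R (I₀.map (algebraMap P R)) (algebraMap P R h) S (algebraMap R S) := by
  obtain ⟨S, _, _, hS⟩ := exists_hensAway P I₀ h
  obtain ⟨r, hr, -⟩ := hR.2 S _ (algebraMap P S) hS.2.1 le_rfl
  letI := r.toAlgebra
  haveI : IsScalarTower P R S := IsScalarTower.of_algebraMap_eq' hr.symm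
  exact ⟨S, inferInstance, inferInstance, inferInstance, inferInstance, hS,
    hensAway_localise r hr (hensAway_R R hR) hS⟩

theorem exists_tensor_split {A : Type} [CommRing A] [Algebra R A] [Algebra.IsIntegral R A] (X : LocallyRingedSpace.{0})
    (π : X ⟶ HensSch.specLRS A) (hX : HensSch.IsSph A ((I₀.map (algebraMap P R)).map (algebraMap R A)) X π)
    (hsub : Subsingleton (ModSite.HC X.sheaf (ModSite.unit X.sheaf) 1)) {Sf Sg S : Type} [CommRing Sf] [CommRing Sg]
    [CommRing S] [Algebra R Sf] [Algebra R Sg] [Algebra R S]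
    (hfR : HensSch.IsHensAway R (I₀.map (algebraMap P R)) (algebraMap P R f) Sf (algebraMap R Sf))
    (hgR : HensSch.IsHensAway R (I₀.map (algebraMap P R)) (algebraMap P R g) Sg (algebraMap R Sg))
    (hsR : HensSch.IsHensAway R (I₀.map (algebraMap P R)) (algebraMap P R (f * g)) S (algebraMap R S))
    (pf : Sf →ₐ[R] S) (pg : Sg →ₐ[R] S) (e : S) :
    ∃ (a : Sf ⊗[R] A) (b : Sg ⊗[R] A), pf.toLinearMap.rTensor A a - pg.toLinearMap.rTensor A b = e ⊗ₜ[R] (1 : A) := by
  let u : A := algebraMap R A (algebraMap P R f)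
  let v : A := algebraMap R A (algebraMap P R g)
  have hT := hensAway_baseChange hsR A
  rw [map_mul (algebraMap P R) f g, map_mul (algebraMap R A)] at hT
  have hcov : W π u ⊔ W π v = ⊤ := by
    refine W_sup_eq_top π hX ?_
    have h2 := congrArg (fun J => (Ideal.map (algebraMap P R) J).map (algebraMap R A)) fgc_top
    simp only [Ideal.map_sup, Ideal.map_top, Ideal.map_span (algebraMap P R), Set.image_pair,
      Ideal.map_span (algebraMap R A)] at h2
    rw [← h2]
    show _ ⊔ (Ideal.map (algebraMap P R) (Ideal.span {c})).map (algebraMap R A) = _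
    rw [Ideal.map_span, Set.image_singleton, Ideal.map_span, Set.image_singleton]
  obtain ⟨a, b, hab⟩ := exists_sub_hensAway π hX hcov hsub (hensAway_baseChange hfR A) (hensAway_baseChange hgR A)
    hT (Algebra.TensorProduct.map pf (AlgHom.id R A)).toRingHom
    (Algebra.TensorProduct.map pg (AlgHom.id R A)).toRingHom
    (RingHom.ext fun a => by simp) (RingHom.ext fun a => by simp) (e ⊗ₜ[R] (1 : A))
  refine ⟨a, b, Eq.trans (congrArg₂ (· - ·) ?_ ?_) hab⟩
  · clear hab
    induction a with
    | zero => simp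
    | tmul s t => simp
    | add x y hx hy => rw [map_add, map_add, hx, hy]
  · clear hab
    induction b with
    | zero => simp
    | tmul s t => simp
    | add x y hx hy => rw [map_add, map_add, hx, hy]

include hR in
theorem exists_homs (K : Type) [Field K] [IsAlgClosed K] [Algebra P K] [Algebra R K] [IsScalarTower P R K]
    (hPR : Function.Injective (algebraMap P R)) (hinj : Function.Injective (algebraMap R K))
    {S : Type} [CommRing S] [Algebra P S] [Algebra R S] [IsScalarTower P R S]
    (hs : HensSch.IsHensAway P I₀ (f * g) S (algebraMap P S)) :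
    ∃ (e : S) (hP hQ : S →ₐ[R] K), hP e = 1 ∧ hQ e = 0 := by
  haveI : Module.Flat P S := RingHom.flat_algebraMap_iff.1 (flat_hensAway hs)
  obtain ⟨e, he, heχ⟩ := exists_idem hs
  have halgR : ∀ r : R, IsAlgebraic P r := isAlgebraic_hensAway (hensAway_R R hR)
  have halgS : ∀ s : S, IsAlgebraic P s := isAlgebraic_hensAway hs
  obtain ⟨χP, hχP⟩ := nontrivial_of_point hs (ev 2 0) (c_mem 2 0 (by norm_num)) (by norm_num [ev, f, g])
  obtain ⟨χQ, hχQ⟩ := nontrivial_of_point hs (ev 0 2) (c_mem 0 2 (by norm_num)) (by norm_num [ev, f, g])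
  have hP1 : χP e = 1 := by
    have := heχ χP 2 0 hχP (by norm_num)
    norm_num [ev, f, g, x, z] at this
    exact this
  have hQ0 : χQ e = 0 := by
    have := heχ χQ 0 2 hχQ (by norm_num)
    norm_num [ev, f, g, x, z] at this
    exact this
  obtain ⟨hP, hPe, -⟩ := exists_hom_field (K := K) hPR hinj halgR halgS χP e he
  obtain ⟨hQ, -, hQe⟩ := exists_hom_field (K := K) hPR hinj halgR halgS χQ e he
  exact ⟨e, hP, hQ, hPe hP1, hQe hQ0⟩

theorem injective_hom {h : P} (hconn : ∀ (b : P) (n : ℕ), c ∣ b * (h ^ n - b) → c ∣ b ∨ c ∣ h ^ n - b)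
    (K : Type) [Field K] [Algebra P K] [Algebra R K] [IsScalarTower P R K]
    (hPK : Function.Injective (algebraMap P K)) {S : Type} [CommRing S] [Algebra P S] [Algebra R S]
    [IsScalarTower P R S] (hS : HensSch.IsHensAway P I₀ h S (algebraMap P S)) (φ : S →ₐ[R] K) :
    Function.Injective φ := by
  haveI : Nontrivial S := φ.toRingHom.domain_nontrivial
  exact injective_hom_field hS (idem_trivial hconn hS) hPK (φ.restrictScalars P)

include hR in
theorem nontrivial_H1 (K : Type) [Field K] [IsAlgClosed K] [Algebra P K] (hPK : Function.Injective (algebraMap P K))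
    [Algebra R K] [IsScalarTower P R K] (hinj : Function.Injective (algebraMap R K))
    (X : LocallyRingedSpace.{0}) (π : X ⟶ HensSch.specLRS (integralClosure R K))
    (hX : HensSch.IsSph (integralClosure R K)
      ((I₀.map (algebraMap P R)).map (algebraMap R (integralClosure R K))) X π) :
    Nontrivial (ModSite.HC X.sheaf (ModSite.unit X.sheaf) 1) := by
  rw [← not_subsingleton_iff_nontrivial]
  intro hsub
  haveI : IsDomain R := hinj.isDomain
  haveI : FaithfulSMul R K := (faithfulSMul_iff_algebraMap_injective _ _).2 hinj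
  have hPR : Function.Injective (algebraMap P R) := fun a b hab => hPK (by
    rw [IsScalarTower.algebraMap_apply P R K, hab, ← IsScalarTower.algebraMap_apply])
  haveI : CharZero K := charZero_of_injective_algebraMap hPK
  obtain ⟨Sf, _, _, _, _, hf, hfR⟩ := exists_setup R hR f
  obtain ⟨Sg, _, _, _, _, hg, hgR⟩ := exists_setup R hR g
  obtain ⟨S, _, _, _, _, hs, hsR⟩ := exists_setup R hR (f * g)
  obtain ⟨pf₀, hpf₀, -⟩ := hfR.2.2 S _ (algebraMap R S) hsR.2.1 le_rfl (by
    have := hsR.1; rw [map_mul, map_mul] at this; exact isUnit_of_mul_isUnit_left this)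
  obtain ⟨pg₀, hpg₀, -⟩ := hgR.2.2 S _ (algebraMap R S) hsR.2.1 le_rfl (by
    have := hsR.1; rw [map_mul, map_mul] at this; exact isUnit_of_mul_isUnit_right this)
  let pf : Sf →ₐ[R] S := ⟨pf₀, RingHom.congr_fun hpf₀⟩
  let pg : Sg →ₐ[R] S := ⟨pg₀, RingHom.congr_fun hpg₀⟩
  obtain ⟨e, hP, hQ, hPe, hQe⟩ := exists_homs R hR K hPR hinj hs
  obtain ⟨a, b, hab⟩ := exists_tensor_split R X π hX hsub hfR hgR hsR pf pg e
  exact false_of_split pf pg (integralClosure R K).val hP hQ (injective_hom R conn_f K hPK hf _)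
    (injective_hom R conn_f K hPK hf _) (injective_hom R conn_g K hPK hg _) (injective_hom R conn_g K hPK hg _)
    (fun s => (isAlgebraic_hensAway hf s).extendScalars hPR) e hPe hQe a b hab

end Triangle

end Groth.Agent.HensSph
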