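import Groth.Agent.EtH0Pair.Basic
import Groth.Agent.EtFLC.Site
import Groth.Prelude.Def_EtGm
import Mathlib

/-!
# Comparing sections of the pulled back structure sheaf with functions

For `i : Z ⟶ X` and a section `σ` of `i⁻¹ 𝒪` over an étale `Z`-scheme, a function `c` on an `X`-scheme `X'`
with `i' : Z' ⟶ X'` is *compatible* with `σ` if it has the same germs along `Z'` as the local
representatives of `σ`.
-/

set_option autoImplicit false
set_option backward.isDefEq.respectTransparency false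
set_option backward.isDefEq.respectTransparency.types false
set_option linter.style.haveILetI false
set_option linter.auxLemma false
set_option linter.unusedSectionVars false
set_option maxHeartbeats 1000000

universe u

open CategoryTheory CategoryTheory.Limits AlgebraicGeometry Opposite

noncomputable section

namespace Groth.Agent.HensSph

open EtH0Pair

/-- a function as a section -/
def gs {X : Scheme.{u}} {U : X.Etale} (f : Γ(U.left, ⊤)) : EtCoh.sect (EtCoh.Ga X) U :=
  (ULift.up f : ULift.{u + 1} Γ(U.left, ⊤))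

theorem gs_map {X : Scheme.{u}} {U V : X.Etale} (g : V ⟶ U) (f : Γ(U.left, ⊤)) :
    (EtCoh.Ga X).obj.map g.op (gs f) = gs (g.left.appTop f) := rfl

theorem gs_sub {X : Scheme.{u}} {U : X.Etale} (f f' : Γ(U.left, ⊤)) :
    gs (U := U) (f - f') = gs f - gs f' := rfl

variable {X X' Z Z' : Scheme.{u}} (i : Z ⟶ X) (i' : Z' ⟶ X')

/-- the pulled back structure sheaf -/
abbrev HGa : EtCoh.Ab Z := (EtCoh.pull i).obj (EtCoh.Ga X)

/-- the image of a function on an étale scheme -/
abbrev img {P : X.Etale} {W : Z.Etale} (a : W ⟶ (EtCoh.bc i).obj P) (f : Γ(P.left, ⊤)) : EtCoh.sect (HGa i) W :=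
  (HGa i).obj.map a.op (unitSec i (EtCoh.Ga X) P (gs f))

theorem img_map {P Q : X.Etale} (q : Q ⟶ P) {W : Z.Etale} (a : W ⟶ (EtCoh.bc i).obj Q) (f : Γ(P.left, ⊤)) :
    img i (a ≫ (EtCoh.bc i).map q) f = img i a (q.left.appTop f) := by
  rw [img, img, ← gs_map q f, ← unitSec_map, op_comp, Functor.map_comp]
  rfl

theorem img_res {P : X.Etale} {W W' : Z.Etale} (g : W' ⟶ W) (a : W ⟶ (EtCoh.bc i).obj P) (f : Γ(P.left, ⊤)) :
    (HGa i).obj.map g.op (img i a f) = img i (g ≫ a) f := by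
  rw [img, img, op_comp, Functor.map_comp]
  rfl

theorem img_sub {P : X.Etale} {W : Z.Etale} (a : W ⟶ (EtCoh.bc i).obj P) (f f' : Γ(P.left, ⊤)) :
    img i a (f - f') = img i a f - img i a f' := by
  rw [img, img, img, gs_sub, map_sub, map_sub]

theorem img_eq_zero_iff {P : X.Etale} {W : Z.Etale} (a : W ⟶ (EtCoh.bc i).obj P) (f : Γ(P.left, ⊤)) :
    img i a f = 0 ↔ ∀ w : W.left, pullback.fst P.hom i (a.left w) ∉ EtShriek.sectSupp (EtCoh.Ga X) P (gs f) := by
  have h := unitSec_res_eq_iff (i := i) (F := EtCoh.Ga X) (gs f) 0 a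
  rw [map_zero, map_zero, sub_zero] at h
  exact h

/-- vanishing along `Z` pulls back -/
theorem transfer {P : X.Etale} {P' : X'.Etale} (π : P'.left ⟶ P.left) (d : Γ(P.left, ⊤)) {W : Z.Etale}
    (a : W ⟶ (EtCoh.bc i).obj P) (h : img i a d = 0) {T : Z'.Etale} (α : T ⟶ (EtCoh.bc i').obj P')
    (β : T.left ⟶ W.left) (w : α.left ≫ pullback.fst P'.hom i' ≫ π = β ≫ a.left ≫ pullback.fst P.hom i) :
    img i' α (π.appTop d) = 0 := by
  rw [img_eq_zero_iff] at h ⊢
  intro t
  have ht := congrArg (fun m => m t) w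
  simp only [Scheme.Hom.comp_apply] at ht
  have hx := h (β t)
  rw [EtSect.mem_iff] at hx
  obtain ⟨W', g, ⟨w', hw'⟩, h0⟩ := hx
  haveI := EtSect.etale_left g
  haveI : Etale P'.hom := P'.prop
  let P'' : X'.Etale := Scheme.Etale.mk (pullback.fst π g.left ≫ P'.hom)
  let q : P'' ⟶ P' := MorphismProperty.Over.homMk (pullback.fst π g.left) rfl
  obtain ⟨z, hz, -⟩ := Scheme.Pullback.exists_preimage_pullback (f := π) (g := g.left) (pullback.fst P'.hom i' (α.left t)) w' (ht.trans hw'.symm)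
  rw [EtSect.mem_iff]
  refine ⟨P'', q, ⟨z, hz⟩, ?_⟩
  have h1 : g.left.appTop d = 0 := congrArg ULift.down (show (gs (g.left.appTop d) : ULift.{u + 1} _) = 0 from h0)
  have h2 : (pullback.fst π g.left).appTop (π.appTop d) = 0 := by
    rw [← ConcreteCategory.comp_apply, ← Scheme.Hom.comp_appTop, pullback.condition, Scheme.Hom.comp_appTop,
      ConcreteCategory.comp_apply, h1, map_zero]
  exact (gs_map q _).trans (congrArg (gs (U := P'')) h2)

/-- products with their universal property -/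
theorem exists_bc_product' {U V : X.Etale} {W : Z.Etale} (φ : W ⟶ (EtCoh.bc i).obj U)
    (ψ : W ⟶ (EtCoh.bc i).obj V) :
    ∃ (P : X.Etale) (a : P ⟶ U) (b : P ⟶ V) (χ : W ⟶ (EtCoh.bc i).obj P),
      χ ≫ (EtCoh.bc i).map a = φ ∧ χ ≫ (EtCoh.bc i).map b = ψ ∧
      χ.left ≫ pullback.fst P.hom i ≫ a.left = φ.left ≫ pullback.fst U.hom i ∧
      χ.left ≫ pullback.fst P.hom i ≫ b.left = ψ.left ≫ pullback.fst V.hom i ∧
      (∀ {T : Scheme.{u}} (f : T ⟶ U.left) (g : T ⟶ V.left), f ≫ U.hom = g ≫ V.hom →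
        ∃ h : T ⟶ P.left, h ≫ a.left = f ∧ h ≫ b.left = g) ∧
      (∀ {T : Scheme.{u}} (h h' : T ⟶ P.left), h ≫ a.left = h' ≫ a.left → h ≫ b.left = h' ≫ b.left → h = h') := by
  have := U.prop
  have := V.prop
  let P : X.Etale := Scheme.Etale.mk (pullback.fst U.hom V.hom ≫ U.hom)
  let a : P ⟶ U := MorphismProperty.Over.homMk (pullback.fst U.hom V.hom) rfl
  let b : P ⟶ V := MorphismProperty.Over.homMk (pullback.snd U.hom V.hom) pullback.condition.symm
  have hφ : φ.left ≫ pullback.snd U.hom i = W.hom := Over.w φ.hom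
  have hψ : ψ.left ≫ pullback.snd V.hom i = W.hom := Over.w ψ.hom
  have h1 : (φ.left ≫ pullback.fst U.hom i) ≫ U.hom = (ψ.left ≫ pullback.fst V.hom i) ≫ V.hom := by
    rw [Category.assoc, Category.assoc, pullback.condition, pullback.condition, ← Category.assoc, ← Category.assoc,
      hφ, hψ]
  let f : W.left ⟶ P.left := pullback.lift (φ.left ≫ pullback.fst U.hom i) (ψ.left ≫ pullback.fst V.hom i) h1
  have h2 : f ≫ P.hom = W.hom ≫ i := by
    change f ≫ pullback.fst U.hom V.hom ≫ U.hom = W.hom ≫ i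
    rw [pullback.lift_fst_assoc]
    exact (Category.assoc _ _ _).trans ((congrArg (φ.left ≫ ·) pullback.condition).trans
      ((Category.assoc _ _ _).symm.trans (congrArg (· ≫ i) hφ)))
  let χ : W ⟶ (EtCoh.bc i).obj P := MorphismProperty.Over.homMk (pullback.lift f W.hom h2) (pullback.lift_snd _ _ _)
  have key : ∀ {U' : X.Etale} (c : P ⟶ U') (θ : W ⟶ (EtCoh.bc i).obj U'), f ≫ c.left = θ.left ≫ pullback.fst U'.hom i →
      χ ≫ (EtCoh.bc i).map c = θ := fun {U'} c θ hc => by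
    refine MorphismProperty.Over.Hom.ext ?_
    change pullback.lift f W.hom h2 ≫ ((EtCoh.bc i).map c).left = θ.left
    apply pullback.hom_ext
    · erw [Category.assoc, (EtCoh.isPullback_bc_map i c).w, pullback.lift_fst_assoc]
      exact hc
    · have e1 : ((EtCoh.bc i).map c).left ≫ pullback.snd U'.hom i = pullback.snd P.hom i := by
        dsimp [EtCoh.bc]
        exact pullback.lift_snd _ _ _
      erw [Category.assoc, e1, pullback.lift_snd]
      exact (Over.w θ.hom).symm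
  refine ⟨P, a, b, χ, key a φ (pullback.lift_fst _ _ _), key b ψ (pullback.lift_snd _ _ _), ?_, ?_,
    fun f g h => ⟨pullback.lift f g h, pullback.lift_fst _ _ _, pullback.lift_snd _ _ _⟩,
    fun h h' ha hb => pullback.hom_ext ha hb⟩
  · show pullback.lift f W.hom h2 ≫ pullback.fst P.hom i ≫ pullback.fst U.hom V.hom = _
    rw [pullback.lift_fst_assoc]
    exact pullback.lift_fst _ _ _
  · show pullback.lift f W.hom h2 ≫ pullback.fst P.hom i ≫ pullback.snd U.hom V.hom = _
    rw [pullback.lift_fst_assoc]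
    exact pullback.lift_snd _ _ _

/-- a local representative of a section -/
structure Datum {W₀ : Z.Etale} (σ : EtCoh.sect (HGa i) W₀) where
  E : X.Etale
  t : Γ(E.left, ⊤)
  W : Z.Etale
  a : W ⟶ (EtCoh.bc i).obj E
  b : W ⟶ W₀
  eq : (HGa i).obj.map b.op σ = img i a t

variable {i}

/-- every section has local representatives -/
theorem exists_datum {W₀ : Z.Etale} (σ : EtCoh.sect (HGa i) W₀) (p : W₀.left) :
    ∃ (D : Datum i σ) (w : D.W.left), D.b.left w = p := by
  let F := EtCoh.Ga X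
  obtain ⟨Ω, _, _, η, -, hη⟩ := EtStalk.covers_all (X := W₀.left) p
  let ξ : Spec (CommRingCat.of Ω) ⟶ Z := η ≫ W₀.hom
  let v₀ : Over.mk ξ ⟶ (Scheme.Etale.forget Z).obj W₀ := Over.homMk η rfl
  obtain ⟨z, hz⟩ := ((ConcreteCategory.isIso_iff_bijective ((EtStalk.stalkPullIso i ξ).hom.app F)).mp inferInstance).2
    ((Scheme.pointSmallEtale ξ).toPresheafFiber W₀ v₀ (HGa i).obj σ)
  obtain ⟨U, v, t, rfl⟩ := (Scheme.pointSmallEtale (ξ ≫ i)).toPresheafFiber_jointly_surjective (P := F.obj) z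
  let vU := EtPushStalk.up i ξ v
  let B := (EtCoh.bc i).obj U
  haveI : Etale W₀.hom := W₀.prop
  haveI : Etale B.hom := B.prop
  let Q : Z.Etale := Scheme.Etale.mk (pullback.fst W₀.hom B.hom ≫ W₀.hom)
  let q₁ : Q ⟶ W₀ := MorphismProperty.Over.homMk (pullback.fst W₀.hom B.hom) rfl
  let q₂ : Q ⟶ B := MorphismProperty.Over.homMk (pullback.snd W₀.hom B.hom) pullback.condition.symm
  let vQ : Over.mk ξ ⟶ (Scheme.Etale.forget Z).obj Q :=
    Over.homMk (pullback.lift η vU.left (Over.w vU).symm) (by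
      show pullback.lift η vU.left _ ≫ pullback.fst W₀.hom B.hom ≫ W₀.hom = ξ
      rw [pullback.lift_fst_assoc])
  have e1 : vQ ≫ (Scheme.Etale.forget Z).map q₁ = v₀ := Over.OverMorphism.ext (pullback.lift_fst _ _ _)
  have e2 : vQ ≫ (Scheme.Etale.forget Z).map q₂ = vU := Over.OverMorphism.ext (pullback.lift_snd _ _ _)
  let δ := (HGa i).obj.map q₁.op σ - img i q₂ (t : ULift.{u + 1} Γ(U.left, ⊤)).down
  have h0 : (Scheme.pointSmallEtale ξ).toPresheafFiber Q vQ (HGa i).obj δ = 0 := by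
    rw [map_sub, sub_eq_zero]
    refine (ConcreteCategory.congr_hom ((Scheme.pointSmallEtale ξ).toPresheafFiber_w q₁ vQ (HGa i).obj) σ).trans ?_
    refine Eq.trans ?_ (ConcreteCategory.congr_hom
      ((Scheme.pointSmallEtale ξ).toPresheafFiber_w q₂ vQ (HGa i).obj) (unitSec i F U t)).symm
    show (Scheme.pointSmallEtale ξ).toPresheafFiber W₀ (vQ ≫ (Scheme.Etale.forget Z).map q₁) (HGa i).obj σ =
      (Scheme.pointSmallEtale ξ).toPresheafFiber B (vQ ≫ (Scheme.Etale.forget Z).map q₂) (HGa i).obj _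
    rw [e1, e2]
    exact hz.symm.trans (stalkPullIso_germ i F ξ U v t)
  have hsupp := (EtPushStalk.germ_eq_zero_iff _ ξ Q vQ δ).mp h0
  obtain ⟨W, g, ⟨w, hw⟩, hδ⟩ := (EtSect.mem_iff _ δ _).mp hsupp
  refine ⟨⟨U, (t : ULift.{u + 1} Γ(U.left, ⊤)).down, W, g ≫ q₂, g ≫ q₁, ?_⟩, w, ?_⟩
  · rw [map_sub, sub_eq_zero, img_res] at hδ
    rw [← hδ, op_comp, Functor.map_comp]
    rfl
  · show q₁.left (g.left w) = p
    rw [hw, ← hη]
    exact (Scheme.Hom.comp_apply _ _ _).symm.trans (congrArg (fun m => m (default : Spec (CommRingCat.of Ω)))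
      (congrArg (fun m => m.left) e1))

/-- a global function on an étale scheme -/
def res₀ {X : Scheme.{u}} (P : X.Etale) : Γ(X, ⊤) →+* Γ(P.left, ⊤) := P.hom.appTop.hom

variable (i) (j : X' ⟶ X) {W₀ : Z.Etale} (l : Z' ⟶ W₀.left)

/-- a function compatible with a section -/
def Compat (σ : EtCoh.sect (HGa i) W₀) (c : Γ(X', ⊤)) : Prop :=
  ∀ (D : Datum i σ) (P : X'.Etale) (π : P.left ⟶ D.E.left), π ≫ D.E.hom = P.hom ≫ j →
    ∀ (T : Z'.Etale) (α : T ⟶ (EtCoh.bc i').obj P) (β : T.left ⟶ D.W.left),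
      α.left ≫ pullback.fst P.hom i' ≫ π = β ≫ D.a.left ≫ pullback.fst D.E.hom i →
        β ≫ D.b.left = T.hom ≫ l → img i' α (π.appTop D.t - res₀ P c) = 0

variable {i}

/-- two representatives agree -/
theorem pairs {σ : EtCoh.sect (HGa i) W₀} (D D' : Datum i σ) {P : X'.Etale} (π : P.left ⟶ D.E.left)
    (π' : P.left ⟶ D'.E.left) (hπ : π ≫ D.E.hom = π' ≫ D'.E.hom) {T : Z'.Etale}
    (α : T ⟶ (EtCoh.bc i').obj P) (β : T.left ⟶ D.W.left) (β' : T.left ⟶ D'.W.left)
    (h : α.left ≫ pullback.fst P.hom i' ≫ π = β ≫ D.a.left ≫ pullback.fst D.E.hom i)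
    (h' : α.left ≫ pullback.fst P.hom i' ≫ π' = β' ≫ D'.a.left ≫ pullback.fst D'.E.hom i)
    (hb : β ≫ D.b.left = β' ≫ D'.b.left) :
    img i' α (π.appTop D.t) = img i' α (π'.appTop D'.t) := by
  haveI := EtSect.etale_left D.b
  haveI := EtSect.etale_left D'.b
  haveI : Etale D.W.hom := D.W.prop
  let W : Z.Etale := Scheme.Etale.mk (pullback.fst D.b.left D'.b.left ≫ D.W.hom)
  let p₁ : W ⟶ D.W := MorphismProperty.Over.homMk (pullback.fst D.b.left D'.b.left) rfl
  have hbw : ∀ {A : Z.Etale} (b : A ⟶ W₀), b.left ≫ W₀.hom = A.hom := fun b => Over.w b.hom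
  let p₂ : W ⟶ D'.W := MorphismProperty.Over.homMk (pullback.snd D.b.left D'.b.left) (by
    show _ ≫ D'.W.hom = pullback.fst D.b.left D'.b.left ≫ D.W.hom
    rw [← hbw D.b, ← hbw D'.b, ← Category.assoc, ← Category.assoc, pullback.condition])
  obtain ⟨Q, qa, qb, χ, ha, hb', ha', hb'', hlift, huniq⟩ := exists_bc_product' i (p₁ ≫ D.a) (p₂ ≫ D'.a)
  have hd : img i χ (qa.left.appTop D.t - qb.left.appTop D'.t) = 0 := by
    have hp : p₁ ≫ D.b = p₂ ≫ D'.b := MorphismProperty.Over.Hom.ext pullback.condition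
    rw [img_sub, ← img_map, ← img_map, ha, hb', ← img_res, ← img_res, ← D.eq, ← D'.eq, sub_eq_zero]
    refine (ConcreteCategory.comp_apply _ _ _).symm.trans (Eq.trans ?_ (ConcreteCategory.comp_apply _ _ _))
    rw [← Functor.map_comp, ← Functor.map_comp, ← op_comp, ← op_comp, hp]
  obtain ⟨ϖ, hϖa, hϖb⟩ := hlift π π' hπ
  have w : α.left ≫ pullback.fst P.hom i' ≫ ϖ =
      pullback.lift β β' hb ≫ χ.left ≫ pullback.fst Q.hom i := by
    apply huniq
    · simp only [Category.assoc]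
      rw [hϖa, h, ha']
      show _ = pullback.lift β β' hb ≫ (pullback.fst D.b.left D'.b.left ≫ D.a.left) ≫ _
      rw [Category.assoc, pullback.lift_fst_assoc]
    · simp only [Category.assoc]
      rw [hϖb, h', hb'']
      show _ = pullback.lift β β' hb ≫ (pullback.snd D.b.left D'.b.left ≫ D'.a.left) ≫ _
      rw [Category.assoc, pullback.lift_snd_assoc]
  have h2 := transfer i i' ϖ _ χ hd α (pullback.lift β β' hb) w
  rw [map_sub, img_sub, sub_eq_zero, ← ConcreteCategory.comp_apply, ← Scheme.Hom.comp_appTop, hϖa,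
    ← ConcreteCategory.comp_apply, ← Scheme.Hom.comp_appTop, hϖb] at h2
  exact h2

end Groth.Agent.HensSph
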