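import Groth.Agent.HensSph.Pair

/-!
# The sheaf condition of henselizations of localisations for arbitrary families of basic opens
-/

set_option autoImplicit false
set_option backward.isDefEq.respectTransparency false
set_option backward.isDefEq.respectTransparency.types false
set_option linter.style.haveILetI false
set_option linter.auxLemma false
set_option linter.unusedSectionVars false
set_option maxHeartbeats 1000000

universe u

open CategoryTheory CategoryTheory.Limits AlgebraicGeometry Opposite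

noncomputable section

namespace Groth.Agent.HensSph

open EtH0Pair
open EtMV (oo res)

section GlueOpens

variable {X : Scheme.{u}} (F : EtCoh.Ab X) {ι : Type*} (U : ι → X.Opens) {W : X.Opens} (hle : ∀ i, U i ≤ W)
  (hcov : ∀ x ∈ W, ∃ i, x ∈ U i)

include hcov

/-- sections agreeing on the members of an open cover are equal -/
theorem ext_opens (s t : EtCoh.sect F (oo W)) (h : ∀ i, F.obj.map (res (hle i)).op s = F.obj.map (res (hle i)).op t) :
    s = t := by
  refine EtFLC.sect_ext _ fun v => ?_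
  obtain ⟨i, hi⟩ := hcov (W.ι v) (Scheme.Opens.range_ι W ▸ ⟨v, rfl⟩ : W.ι v ∈ (W : Set X))
  exact ⟨oo (U i), res (hle i), ⟨W.ι v, hi⟩, (Scheme.Opens.ι W).injective
    ((Scheme.Hom.comp_apply _ _ _).symm.trans (congrArg (fun m => m (⟨W.ι v, hi⟩ : (U i : Scheme.{u})))
      (X.homOfLE_ι (hle i)))), h i⟩

/-- sections agreeing on the overlaps glue -/
theorem glue_opens (s : ∀ i, EtCoh.sect F (oo (U i)))
    (h : ∀ i j, F.obj.map (res (inf_le_left : U i ⊓ U j ≤ U i)).op (s i) =
      F.obj.map (res (inf_le_right : U i ⊓ U j ≤ U j)).op (s j)) :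
    ∃ t : EtCoh.sect F (oo W), ∀ i, F.obj.map (res (hle i)).op t = s i := by
  let π : ∀ i, oo (U i) ⟶ oo W := fun i => res (hle i)
  have hmem : Sieve.generate (Presieve.ofArrows _ π) ∈ X.smallEtaleTopology (oo W) :=
    (EtFLC.mem_iff _).2 fun v => by
      obtain ⟨i, hi⟩ := hcov (W.ι v) (Scheme.Opens.range_ι W ▸ ⟨v, rfl⟩ : W.ι v ∈ (W : Set X))
      exact ⟨oo (U i), π i, ⟨W.ι v, hi⟩, ⟨_, 𝟙 _, π i, Presieve.ofArrows.mk i, Category.id_comp _⟩,
        (Scheme.Opens.ι W).injective ((Scheme.Hom.comp_apply _ _ _).symm.trans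
          (congrArg (fun m => m (⟨W.ι v, hi⟩ : (U i : Scheme.{u}))) (X.homOfLE_ι (hle i))))⟩
  have hsh := (((isSheaf_iff_isSheaf_of_type _ _).1 (Presheaf.isSheaf_comp_of_isSheaf X.smallEtaleTopology F.obj
      (CategoryTheory.forget AddCommGrpCat) F.property)).isSheafFor _ hmem)
  obtain ⟨t, ht, -⟩ := (Presieve.isSheafFor_arrows_iff _ π).1 hsh s fun i j T a b _ => by
    have ha : a.left ≫ (U i).ι = T.hom := Over.w a.hom
    have hb : b.left ≫ (U j).ι = T.hom := Over.w b.hom
    have hr : Set.range T.hom ⊆ Set.range (U i ⊓ U j).ι := by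
      rw [Scheme.Opens.range_ι]
      rintro _ ⟨p, rfl⟩
      exact ⟨Scheme.Opens.range_ι (U i) ▸ ⟨a.left p, congrArg (fun m => m p) ha⟩,
        Scheme.Opens.range_ι (U j) ▸ ⟨b.left p, congrArg (fun m => m p) hb⟩⟩
    let c : T ⟶ oo (U i ⊓ U j) := MorphismProperty.Over.homMk (IsOpenImmersion.lift (U i ⊓ U j).ι T.hom hr)
      (IsOpenImmersion.lift_fac _ _ _)
    have hc : c.left ≫ (U i ⊓ U j).ι = T.hom := IsOpenImmersion.lift_fac _ _ _
    have e1 : c ≫ res (inf_le_left : U i ⊓ U j ≤ U i) = a := MorphismProperty.Over.Hom.ext (by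
      rw [← cancel_mono (U i).ι, ha]
      show (c.left ≫ X.homOfLE (inf_le_left : U i ⊓ U j ≤ U i)) ≫ _ = _
      rw [Category.assoc, X.homOfLE_ι, hc])
    have e2 : c ≫ res (inf_le_right : U i ⊓ U j ≤ U j) = b := MorphismProperty.Over.Hom.ext (by
      rw [← cancel_mono (U j).ι, hb]
      show (c.left ≫ X.homOfLE (inf_le_right : U i ⊓ U j ≤ U j)) ≫ _ = _
      rw [Category.assoc, X.homOfLE_ι, hc])
    show F.obj.map a.op (s i) = F.obj.map b.op (s j)
    rw [← e1, ← e2, op_comp, op_comp, Functor.map_comp, Functor.map_comp, ConcreteCategory.comp_apply,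
      ConcreteCategory.comp_apply, h i j]
  exact ⟨t, ht⟩

end GlueOpens

variable {A : Type u} [CommRing A] {I : Ideal A}

theorem hensAway_of_pairHenselization {f : A} {L B : Type u} [CommRing L] [Algebra A L] [IsLocalization.Away f L]
    [CommRing B] [Algebra L B] [Algebra A B] [IsScalarTower A L B]
    (h : Hens2.IsPairHenselization L (I.map (algebraMap A L)) B) :
    HensSch.IsHensAway A I f B (algebraMap A B) := by
  have he : algebraMap A B = (algebraMap L B).comp (algebraMap A L) := IsScalarTower.algebraMap_eq A L B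
  refine ⟨?_, ?_, fun C _ J g hC hg hu => ?_⟩
  · rw [he]
    exact (IsLocalization.Away.algebraMap_isUnit (S := L) f).map (algebraMap L B)
  · rw [he, ← Ideal.map_map]
    exact h.1
  · let l : L →+* C := IsLocalization.Away.lift f (g := g) hu
    have hl : l.comp (algebraMap A L) = g := IsLocalization.Away.lift_comp f hu
    obtain ⟨r, hr, hru⟩ := h.2 C J l hC (by rw [Ideal.map_map, hl]; exact hg)
    refine ⟨r, ?_, fun r' hr' => hru r' (IsLocalization.ringHom_ext (Submonoid.powers f) ?_)⟩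
    · show r.comp _ = g
      rw [he, ← RingHom.comp_assoc, hr, hl]
    · rw [RingHom.comp_assoc, ← he, hl]
      exact hr'

theorem hensAway_one {H : Type u} [CommRing H] [Algebra A H] (h : Hens2.IsPairHenselization A I H) :
    HensSch.IsHensAway A I 1 H (algebraMap A H) :=
  ⟨by simp, h.1, fun C _ J g hC hg _ => h.2 C J g hC hg⟩

/-- the sheaf condition -/
theorem family_equalizer {ι : Type*} (g : ι → A) (hcov : I ⊔ Ideal.span (Set.range g) = ⊤)
    {H : Type u} [CommRing H] {φ : A →+* H} (hH : HensSch.IsHensAway A I 1 H φ)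
    {Hi : ι → Type u} [∀ i, CommRing (Hi i)] {φi : ∀ i, A →+* Hi i}
    (hHi : ∀ i, HensSch.IsHensAway A I (g i) (Hi i) (φi i))
    {Hij : ι → ι → Type u} [∀ i j, CommRing (Hij i j)] {φij : ∀ i j, A →+* Hij i j}
    (hHij : ∀ i j, HensSch.IsHensAway A I (g i * g j) (Hij i j) (φij i j))
    (ρ : ∀ i, H →+* Hi i) (σ : ∀ i j, Hi i →+* Hij i j) (τ : ∀ i j, Hi j →+* Hij i j)
    (eρ : ∀ i, (ρ i).comp φ = φi i) (eσ : ∀ i j, (σ i j).comp (φi i) = φij i j)
    (eτ : ∀ i j, (τ i j).comp (φi j) = φij i j) :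
    (∀ x y : H, (∀ i, ρ i x = ρ i y) → x = y) ∧
      ∀ s : ∀ i, Hi i, (∀ i j, σ i j (s i) = τ i j (s j)) → ∃ x : H, ∀ i, ρ i x = s i := by
  let Z := Spec (CommRingCat.of (A ⧸ I))
  have hc : ∀ z ∈ (⊤ : Z.Opens), ∃ i, z ∈ zOpen I (g i) := by
    intro z _
    by_contra hn
    push Not at hn
    refine (iI I z).isPrime.ne_top (top_le_iff.1 (hcov ▸ sup_le ?_ ?_))
    · intro a ha
      show Ideal.Quotient.mk I a ∈ z.asIdeal
      rw [Ideal.Quotient.eq_zero_iff_mem.2 ha]
      exact z.asIdeal.zero_mem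
    · rw [Ideal.span_le]
      rintro _ ⟨i, rfl⟩
      exact not_not.1 (hn i)
  refine ⟨fun x y hxy => ?_, fun s hs => ?_⟩
  · obtain ⟨w, hw⟩ := exists_sect hH ⊤ (range_qmap_top φ)
      (fun z _ hn => (iI I z).isPrime.ne_top ((Ideal.eq_top_iff_one _).2 hn)) (x - y)
    have hz : w = 0 := by
      refine ext_opens _ (fun i => zOpen I (g i)) (fun _ => le_top) hc w 0 fun i => ?_
      have h := hw.res (ρ i) (eρ i) (le_top : zOpen I (g i) ≤ ⊤) (range_qmap (φi i) (g i) (hHi i).1)
      rw [map_sub (ρ i), hxy i, sub_self] at h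
      rw [map_zero]
      exact Comp.eq_zero (flat_hensAway (hHi i)) (range_qmap_ge (hHi i) _ le_rfl) h
    have h0 := hw.sub hw
    rw [sub_self, sub_self, ← hz] at h0
    exact sub_eq_zero.1 (hw.unique hH.2.1 h0)
  · choose t ht using fun i => exists_sect (hHi i) (zOpen I (g i)) (range_qmap (φi i) (g i) (hHi i).1) le_rfl (s i)
    have hov : ∀ i j, (HGa (iI I)).obj.map (res (inf_le_left : zOpen I (g i) ⊓ zOpen I (g j) ≤ _)).op (t i) =
        (HGa (iI I)).obj.map (res (inf_le_right : zOpen I (g i) ⊓ zOpen I (g j) ≤ _)).op (t j) := by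
      intro i j
      have hu := (hHij i j).1
      rw [map_mul] at hu
      have hr := range_qmap_inf I (φij i j) (g i) (g j) (isUnit_of_mul_isUnit_left hu) (isUnit_of_mul_isUnit_right hu)
      have hd := ((ht i).res (σ i j) (eσ i j) (inf_le_left : zOpen I (g i) ⊓ zOpen I (g j) ≤ _) hr).sub
        ((ht j).res (τ i j) (eτ i j) (inf_le_right : zOpen I (g i) ⊓ zOpen I (g j) ≤ _) hr)
      rw [hs i j, sub_self] at hd
      have hsub : zOpen I (g i) ⊓ zOpen I (g j) ≤ zOpen I (g i * g j) := fun z hz hn =>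
        ((iI I z).isPrime.mem_or_mem hn).elim hz.1 hz.2
      exact sub_eq_zero.1 (Comp.eq_zero (flat_hensAway (hHij i j)) (range_qmap_ge (hHij i j) _ hsub) hd)
    obtain ⟨w, hw⟩ := glue_opens _ (fun i => zOpen I (g i)) (fun _ => le_top) hc t hov
    obtain ⟨x, hx⟩ := exists_comp hH.2.1 ⊤ (range_qmap_top φ) w
    refine ⟨x, fun i => ?_⟩
    have h := hx.res (ρ i) (eρ i) (le_top : zOpen I (g i) ≤ ⊤) (range_qmap (φi i) (g i) (hHi i).1)
    rw [hw i] at h
    exact h.unique (hHi i).2.1 (ht i)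

end Groth.Agent.HensSph
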