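import Groth.Agent.HensSph.Sheaf

/-!
# Global sections of `M~` and full faithfulness
-/

set_option autoImplicit false
set_option backward.isDefEq.respectTransparency false
set_option backward.isDefEq.respectTransparency.types false
set_option linter.style.haveILetI false
set_option linter.auxLemma false
set_option linter.unusedSectionVars false
set_option maxHeartbeats 1000000

universe u

open CategoryTheory Opposite TopologicalSpace AlgebraicGeometry TensorProduct

noncomputable section

namespace Groth.Agent.HensSph

variable {A : Type u} [CommRing A] {I : Ideal A} [HenselianRing A I] {X : LocallyRingedSpace.{u}}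
  {π : X ⟶ HensSch.specLRS A} (hX : HensSch.IsSph A I X π) (M : ModuleCat.{u} A)
include hX

/-- a henselian pair is its own henselization -/
theorem bijective_secMap_one : Function.Bijective (algebraMap A (S π (1 : A))) := by
  obtain ⟨-, hH, hU⟩ := hX.2.2 1
  obtain ⟨k, hk, -⟩ := hU A I (RingHom.id A) inferInstance (Ideal.map_id I).le isUnit_one
  obtain ⟨t, -, htu⟩ := hU _ _ (HensSch.secMap π (PrimeSpectrum.basicOpen (1 : A))) hH le_rfl (hX.2.2 1).1
  have e1 := htu ((HensSch.secMap π (PrimeSpectrum.basicOpen (1 : A))).comp k) (by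
    show ((HensSch.secMap π _).comp k).comp _ = _
    rw [RingHom.comp_assoc, hk, RingHom.comp_id])
  have e2 := htu (RingHom.id _) (RingHom.id_comp _)
  exact ⟨fun a b h => by simpa using (RingHom.congr_fun hk a).symm.trans ((congrArg k h).trans (RingHom.congr_fun hk b)),
    fun s => ⟨k s, RingHom.congr_fun (e1.trans e2.symm) s⟩⟩

theorem bijective_θ_one : Function.Bijective (θ π M (1 : A)) := by
  have h1 : Function.Bijective (fun m : M => (1 : S π (1 : A)) ⊗ₜ[A] m) := by
    let e : A ≃ₗ[A] S π (1 : A) := LinearEquiv.ofBijective (Algebra.linearMap A _) (bijective_secMap_one hX)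
    have := ((TensorProduct.lid A M).symm.trans (TensorProduct.congr e (LinearEquiv.refl A M))).bijective
    have e2 : (fun m : M => (1 : S π (1 : A)) ⊗ₜ[A] m) =
        ((TensorProduct.lid A M).symm.trans (TensorProduct.congr e (LinearEquiv.refl A M))) := funext fun m => by
      show _ = TensorProduct.congr e (LinearEquiv.refl A M) ((1 : A) ⊗ₜ[A] m)
      rw [TensorProduct.congr_tmul]
      show _ = algebraMap A (S π (1 : A)) 1 ⊗ₜ[A] m
      rw [map_one]
    rw [e2]; exact this
  have h2 : θ π M (1 : A) = θT π M 1 ∘ fun m => (1 : S π (1 : A)) ⊗ₜ[A] m :=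
    funext fun m => ((θT_tmul π M 1 1 m).trans (one_smul _ _)).symm
  rw [h2]
  exact (θT_bijective M hX 1).comp h1

theorem bijective_θ₀ : Function.Bijective (θ₀ π M) := by
  let i := ((Opens.map π.base).map (homOfLE (le_top : PrimeSpectrum.basicOpen (1 : A) ≤ ⊤))).op
  haveI : IsIso i := by
    have : IsIso (homOfLE (le_top : PrimeSpectrum.basicOpen (1 : A) ≤ ⊤)) :=
      ⟨homOfLE PrimeSpectrum.basicOpen_one.ge, Subsingleton.elim _ _, Subsingleton.elim _ _⟩
    infer_instance
  have hb : Function.Bijective ((F π M).val.map i).hom := by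
    have := ConcreteCategory.bijective_of_isIso ((F π M).val.presheaf.map i)
    exact this
  exact (Function.Bijective.of_comp_iff' hb (θ₀ π M)).1 (bijective_θ_one hX M)

theorem full_and_faithful : (HensSch.sphTildeFunctor π).Full ∧ (HensSch.sphTildeFunctor π).Faithful := by
  let adj := (tilde.adjunction (R := CommRingCat.of A)).comp (HensSch.pullPushAdj π)
  haveI : ∀ M : ModuleCat.{u} A, IsIso (adj.unit.app M) := fun M =>
    (ConcreteCategory.isIso_iff_bijective _).2 (bijective_θ₀ hX M)
  haveI : IsIso adj.unit := NatIso.isIso_of_isIso_app _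
  let ff := adj.fullyFaithfulLOfIsIsoUnit
  exact ⟨ff.full, ff.faithful⟩

end Groth.Agent.HensSph
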