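import Groth.Agent.HensSph.Datum
import Mathlib

/-!
# Compatible functions exist when the unit is bijective, and pull back
-/

set_option autoImplicit false
set_option backward.isDefEq.respectTransparency false
set_option backward.isDefEq.respectTransparency.types false
set_option linter.style.haveILetI false
set_option linter.auxLemma false
set_option linter.unusedSectionVars false
set_option maxHeartbeats 1000000

universe u

open CategoryTheory CategoryTheory.Limits AlgebraicGeometry Opposite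

noncomputable section

namespace Groth.Agent.HensSph

open EtH0Pair

variable {X X' Z Z' : Scheme.{u}} {i : Z ⟶ X} (i' : Z' ⟶ X') (j : X' ⟶ X) {W₀ : Z.Etale} (l : Z' ⟶ W₀.left)
  (hl : l ≫ W₀.hom ≫ i = i' ≫ j)

include hl in
theorem chart_condition {σ : EtCoh.sect (HGa i) W₀} (D : Datum i σ) {T : Scheme.{u}} (f : T ⟶ Z')
    (β : T ⟶ D.W.left) (hβ : β ≫ D.b.left = f ≫ l) :
    (β ≫ D.a.left ≫ pullback.fst D.E.hom i) ≫ D.E.hom = (f ≫ i') ≫ j := by
  have ha : D.a.left ≫ pullback.snd D.E.hom i = D.W.hom := Over.w D.a.hom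
  have hb : D.b.left ≫ W₀.hom = D.W.hom := Over.w D.b.hom
  simp only [Category.assoc, pullback.condition]
  rw [← hl, ← Category.assoc D.a.left, ha, ← hb, Category.assoc, reassoc_of% hβ]

theorem app₂ {A B C : Scheme.{u}} (f : A ⟶ B) (g : B ⟶ C) (k : A ⟶ C) (h : f ≫ g = k) (x : Γ(C, ⊤)) :
    f.appTop (g.appTop x) = k.appTop x := by
  subst h
  rw [Scheme.Hom.comp_appTop]
  rfl

/-- the point map to the final object -/
def toT (T : Z'.Etale) : T ⟶ (EtCoh.bc i').obj (EtCoh.top X') :=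
  MorphismProperty.Over.homMk (pullback.lift (T.hom ≫ i') T.hom (Category.comp_id _)) (pullback.lift_snd _ _ _)

theorem hom_toT {T : Z'.Etale} (f g : T ⟶ (EtCoh.bc i').obj (EtCoh.top X')) : f = g := by
  refine MorphismProperty.Over.Hom.ext ?_
  have hf : f.left ≫ pullback.snd (EtCoh.top X').hom i' = T.hom := Over.w f.hom
  have hg : g.left ≫ pullback.snd (EtCoh.top X').hom i' = T.hom := Over.w g.hom
  apply pullback.hom_ext
  · have e : pullback.fst (EtCoh.top X').hom i' = pullback.snd (EtCoh.top X').hom i' ≫ i' :=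
      (Category.comp_id _).symm.trans pullback.condition
    rw [e, reassoc_of% hf, reassoc_of% hg]
  · rw [hf, hg]

theorem img_res₀ {P : X'.Etale} {T : Z'.Etale} (α : T ⟶ (EtCoh.bc i').obj P) (c : Γ(X', ⊤)) :
    img i' α (res₀ P c) =
      (HGa i').obj.map (toT i' T).op (unitSec i' (EtCoh.Ga X') (EtCoh.top X') (gs (U := EtCoh.top X') c)) := by
  rw [hom_toT i' (toT i' T) (α ≫ (EtCoh.bc i').map (toTopX P))]
  exact (img_map i' (toTopX P) α c).symm

include hl in
/-- the standard chart of a datum, on the base change -/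
theorem exists_chart_bc {σ : EtCoh.sect (HGa i) W₀} (D : Datum i σ) (z : Z') (w : D.W.left) (hw : D.b.left w = l z) :
    ∃ (T : Z'.Etale) (α : T ⟶ (EtCoh.bc i').obj ((EtCoh.bc j).obj D.E)) (β : T.left ⟶ D.W.left),
        α.left ≫ pullback.fst ((EtCoh.bc j).obj D.E).hom i' ≫ pullback.fst D.E.hom j =
          β ≫ D.a.left ≫ pullback.fst D.E.hom i ∧
        β ≫ D.b.left = T.hom ≫ l ∧ ∃ t : T.left, T.hom t = z ∧ β t = w := by
  haveI := EtSect.etale_left D.b
  let T : Z'.Etale := Scheme.Etale.mk (pullback.fst l D.b.left)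
  let β : T.left ⟶ D.W.left := pullback.snd l D.b.left
  have hβ : β ≫ D.b.left = T.hom ≫ l := pullback.condition.symm
  let P : X'.Etale := (EtCoh.bc j).obj D.E
  have hc := chart_condition i' j l hl D T.hom β hβ
  let α : T ⟶ (EtCoh.bc i').obj P := MorphismProperty.Over.homMk
    (pullback.lift (pullback.lift (β ≫ D.a.left ≫ pullback.fst D.E.hom i) (T.hom ≫ i') hc) T.hom
      (pullback.lift_snd _ _ _)) (pullback.lift_snd _ _ _)
  obtain ⟨t, ht, ht'⟩ := Scheme.Pullback.exists_preimage_pullback (f := l) (g := D.b.left) z w hw.symm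
  refine ⟨T, α, β, ?_, hβ, t, ht, ht'⟩
  show pullback.lift (pullback.lift (β ≫ D.a.left ≫ pullback.fst D.E.hom i) (T.hom ≫ i') hc) T.hom _ ≫ _ = _
  rw [pullback.lift_fst_assoc, pullback.lift_fst]

include hl in
/-- the standard chart of a datum -/
theorem exists_chart {σ : EtCoh.sect (HGa i) W₀} (D : Datum i σ) (z : Z') (w : D.W.left) (hw : D.b.left w = l z) :
    ∃ (P : X'.Etale) (π : P.left ⟶ D.E.left) (_ : π ≫ D.E.hom = P.hom ≫ j) (T : Z'.Etale)
      (α : T ⟶ (EtCoh.bc i').obj P) (β : T.left ⟶ D.W.left),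
        α.left ≫ pullback.fst P.hom i' ≫ π = β ≫ D.a.left ≫ pullback.fst D.E.hom i ∧
        β ≫ D.b.left = T.hom ≫ l ∧ ∃ t : T.left, T.hom t = z ∧ β t = w := by
  obtain ⟨T, α, β, h⟩ := exists_chart_bc i' j l hl D z w hw
  exact ⟨(EtCoh.bc j).obj D.E, pullback.fst D.E.hom j, pullback.condition, T, α, β, h⟩

include hl in
/-- compatible functions exist -/
theorem exists_compat (σ : EtCoh.sect (HGa i) W₀)
    (hbij : Function.Bijective (unitSec i' (EtCoh.Ga X') (EtCoh.top X'))) :
    ∃ c, Compat i i' j l σ c := by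
  let V := (EtCoh.bc i').obj (EtCoh.top X')
  choose D w hw using fun z : Z' => exists_datum σ (l z)
  choose P π hπ T α β hαβ hβ t ht ht' using fun z : Z' => exists_chart i' j l hl (D z) z (w z) (hw z)
  let f : ∀ z, T z ⟶ V := fun z => toT i' (T z)
  have hS : Sieve.ofArrows T f ∈ Z'.smallEtaleTopology V := by
    refine (EtFLC.mem_iff _).2 fun v => ?_
    let z := pullback.snd (EtCoh.top X').hom i' v
    refine ⟨T z, f z, t z, Sieve.ofArrows_mk T f z, ?_⟩
    haveI : IsIso (pullback.snd (EtCoh.top X').hom i') :=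
      inferInstanceAs (IsIso (pullback.snd (𝟙 X') i'))
    apply (pullback.snd (EtCoh.top X').hom i').homeomorph.injective
    show pullback.snd (EtCoh.top X').hom i' ((f z).left (t z)) = z
    exact ((Scheme.Hom.comp_apply _ _ _).symm.trans
      (congrArg (fun m : (T z).left ⟶ Z' => m (t z))
        (show (f z).left ≫ pullback.snd (EtCoh.top X').hom i' = (T z).hom from pullback.lift_snd _ _ _))).trans (ht z)
  have hsheaf : Presieve.IsSheafFor ((HGa i').obj ⋙ forget AddCommGrpCat) (Presieve.ofArrows T f) := by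
    rw [Presieve.isSheafFor_iff_generate]
    exact ((isSheaf_iff_isSheaf_of_type _ _).1 (GrothendieckTopology.HasSheafCompose.isSheaf
      (F := forget AddCommGrpCat) (HGa i').obj (HGa i').property)) _ hS
  let x : ∀ z, EtCoh.sect (HGa i') (T z) := fun z => img i' (α z) ((π z).appTop (D z).t)
  have hxc : Presieve.Arrows.Compatible ((HGa i').obj ⋙ forget AddCommGrpCat) f x := by
    intro a b R ga gb hg
    obtain ⟨Q, qa, qb, χ, hχa, hχb, ha', hb', -, -⟩ := exists_bc_product' i' (ga ≫ α a) (gb ≫ α b)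
    have hga : ga.left ≫ (T a).hom = R.hom := Over.w ga.hom
    have hgb : gb.left ≫ (T b).hom = R.hom := Over.w gb.hom
    have hqa : qa.left ≫ (P a).hom = Q.hom := Over.w qa.hom
    have hqb : qb.left ≫ (P b).hom = Q.hom := Over.w qb.hom
    have h := pairs i' (D a) (D b) (qa.left ≫ π a) (qb.left ≫ π b)
      (by rw [Category.assoc, Category.assoc, hπ, hπ, reassoc_of% hqa, reassoc_of% hqb]) χ
      (ga.left ≫ β a) (gb.left ≫ β b)
      (by
        rw [reassoc_of% ha', Category.assoc, ← hαβ a]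
        show (ga.left ≫ (α a).left) ≫ _ = _
        rw [Category.assoc])
      (by
        rw [reassoc_of% hb', Category.assoc, ← hαβ b]
        show (gb.left ≫ (α b).left) ≫ _ = _
        rw [Category.assoc])
      (by rw [Category.assoc, Category.assoc, hβ, hβ, reassoc_of% hga, reassoc_of% hgb])
    show (HGa i').obj.map ga.op (x a) = (HGa i').obj.map gb.op (x b)
    rw [img_res, img_res, ← hχa, ← hχb, img_map, img_map, ← ConcreteCategory.comp_apply, ← Scheme.Hom.comp_appTop,
      ← ConcreteCategory.comp_apply, ← Scheme.Hom.comp_appTop]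
    exact h
  obtain ⟨τ, hτ, -⟩ := (Presieve.isSheafFor_arrows_iff _ _).1 hsheaf x hxc
  obtain ⟨c₀, hc₀⟩ := hbij.2 τ
  refine ⟨(c₀ : ULift.{u + 1} Γ(X', ⊤)).down, ?_⟩
  intro D₁ P₁ π₁ hπ₁ T₁ α₁ β₁ hα₁ hβ₁
  rw [img_sub, sub_eq_zero, img_res₀]
  refine Eq.trans ?_ (congrArg (fun s => (HGa i').obj.map (toT i' T₁).op s) hc₀.symm)
  refine EtFLC.sect_ext _ fun v => ?_
  let z := T₁.hom v
  haveI : Etale (T z).hom := (T z).prop
  haveI : Etale T₁.hom := T₁.prop
  let R : Z'.Etale := Scheme.Etale.mk (pullback.fst T₁.hom (T z).hom ≫ T₁.hom)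
  let g₁ : R ⟶ T₁ := MorphismProperty.Over.homMk (pullback.fst T₁.hom (T z).hom) rfl
  let g₂ : R ⟶ T z := MorphismProperty.Over.homMk (pullback.snd T₁.hom (T z).hom) pullback.condition.symm
  obtain ⟨r, hr, -⟩ := Scheme.Pullback.exists_preimage_pullback (f := T₁.hom) (g := (T z).hom) v (t z) (ht z).symm
  refine ⟨R, g₁, r, hr, ?_⟩
  obtain ⟨Q, qa, qb, χ, hχa, hχb, ha', hb', -, -⟩ := exists_bc_product' i' (g₁ ≫ α₁) (g₂ ≫ α z)
  have hg1 : g₁.left ≫ T₁.hom = R.hom := Over.w g₁.hom
  have hg2 : g₂.left ≫ (T z).hom = R.hom := Over.w g₂.hom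
  have hqa : qa.left ≫ P₁.hom = Q.hom := Over.w qa.hom
  have hqb : qb.left ≫ (P z).hom = Q.hom := Over.w qb.hom
  have h := pairs i' D₁ (D z) (qa.left ≫ π₁) (qb.left ≫ π z)
    (by rw [Category.assoc, Category.assoc, hπ₁, hπ, reassoc_of% hqa, reassoc_of% hqb]) χ
    (g₁.left ≫ β₁) (g₂.left ≫ β z)
    (by
      rw [reassoc_of% ha', Category.assoc, ← hα₁]
      show (g₁.left ≫ α₁.left) ≫ _ = _
      rw [Category.assoc])
    (by
      rw [reassoc_of% hb', Category.assoc, ← hαβ z]
      show (g₂.left ≫ (α z).left) ≫ _ = _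
      rw [Category.assoc])
    (by rw [Category.assoc, Category.assoc, hβ₁, hβ, reassoc_of% hg1, reassoc_of% hg2])
  show (HGa i').obj.map g₁.op (img i' α₁ _) = (HGa i').obj.map g₁.op ((HGa i').obj.map (toT i' T₁).op τ)
  rw [img_res, ← hχa, img_map, ← ConcreteCategory.comp_apply, ← Scheme.Hom.comp_appTop]
  refine h.trans ?_
  rw [Scheme.Hom.comp_appTop, ConcreteCategory.comp_apply, ← img_map, hχb, ← img_res]
  refine (congrArg (fun s => (HGa i').obj.map g₂.op s) (hτ z).symm).trans ?_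
  refine (ConcreteCategory.comp_apply _ _ _).symm.trans (Eq.trans ?_ (ConcreteCategory.comp_apply _ _ _))
  rw [← Functor.map_comp, ← Functor.map_comp, ← op_comp, ← op_comp, hom_toT i' (g₂ ≫ f z) (g₁ ≫ toT i' T₁)]

variable {i'} {j} {l}

include hl in
/-- compatible functions pull back -/
theorem Compat.pull {σ : EtCoh.sect (HGa i) W₀} {c : Γ(X', ⊤)} (hc : Compat i i' j l σ c)
    {X'' Z'' : Scheme.{u}} (i'' : Z'' ⟶ X'') (g : X'' ⟶ X') (gb : Z'' ⟶ Z') (hgb : gb ≫ i' = i'' ≫ g)
    {W₁ : Z.Etale} (r : W₁ ⟶ W₀) (l' : Z'' ⟶ W₁.left) (hl' : l' ≫ r.left = gb ≫ l) :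
    Compat i i'' (g ≫ j) l' ((HGa i).obj.map r.op σ) (g.appTop c) := by
  intro D' P'' π'' hπ'' T'' α'' β'' hα'' hβ''
  let D : Datum i σ := ⟨D'.E, D'.t, D'.W, D'.a, D'.b ≫ r, by
    rw [← D'.eq, op_comp, Functor.map_comp]; rfl⟩
  haveI : Etale (D'.b.left ≫ r.left) := by
    haveI := EtSect.etale_left D'.b
    haveI := EtSect.etale_left r
    infer_instance
  let T : Z'.Etale := Scheme.Etale.mk (pullback.fst l (D'.b.left ≫ r.left))
  let β : T.left ⟶ D.W.left := pullback.snd l (D'.b.left ≫ r.left)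
  have hβ : β ≫ D.b.left = T.hom ≫ l := pullback.condition.symm
  let P : X'.Etale := (EtCoh.bc j).obj D.E
  have hc' := chart_condition i' j l hl D T.hom β hβ
  let α : T ⟶ (EtCoh.bc i').obj P := MorphismProperty.Over.homMk
    (pullback.lift (pullback.lift (β ≫ D.a.left ≫ pullback.fst D.E.hom i) (T.hom ≫ i') hc') T.hom
      (pullback.lift_snd _ _ _)) (pullback.lift_snd _ _ _)
  have hα : α.left ≫ pullback.fst P.hom i' = pullback.lift (β ≫ D.a.left ≫ pullback.fst D.E.hom i) (T.hom ≫ i') hc' :=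
    pullback.lift_fst _ _ _
  have h0 := hc D P (pullback.fst D.E.hom j) pullback.condition T α β
    (by rw [← Category.assoc, hα]; exact pullback.lift_fst _ _ _) hβ
  let π₀ : P''.left ⟶ P.left := pullback.lift π'' (P''.hom ≫ g) (by rw [Category.assoc]; exact hπ'')
  let β₀ : T''.left ⟶ T.left := pullback.lift (T''.hom ≫ gb) β'' (by
    rw [Category.assoc, ← hl', reassoc_of% hβ''])
  have hα2 : α''.left ≫ pullback.snd P''.hom i'' = T''.hom := Over.w α''.hom
  have w : α''.left ≫ pullback.fst P''.hom i'' ≫ π₀ = β₀ ≫ α.left ≫ pullback.fst P.hom i' := by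
    rw [hα]
    apply pullback.hom_ext
    · simp only [Category.assoc, π₀, pullback.lift_fst]
      rw [hα'']
      show _ = β₀ ≫ β ≫ D'.a.left ≫ _
      rw [pullback.lift_snd_assoc]
    · simp only [Category.assoc, π₀, pullback.lift_snd]
      rw [pullback.condition_assoc, reassoc_of% hα2, ← hgb]
      show _ = β₀ ≫ pullback.fst l _ ≫ i'
      rw [pullback.lift_fst_assoc, Category.assoc]
  have h1 := transfer i' i'' π₀ _ α h0 α'' β₀ w
  have e1 : π₀.appTop ((pullback.fst D.E.hom j).appTop D.t) = π''.appTop D'.t := by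
    exact app₂ π₀ _ π'' (pullback.lift_fst _ _ _) _
  have e2 : π₀.appTop (res₀ P c) = res₀ P'' (g.appTop c) := by
    show π₀.appTop (P.hom.appTop c) = P''.hom.appTop (g.appTop c)
    exact (app₂ π₀ _ _ (pullback.lift_snd _ _ _) c).trans (app₂ P''.hom g _ rfl c).symm
  have e3 := (congrArg (img i'' α'') (map_sub π₀.appTop.hom _ _)).symm.trans h1
  exact (congrArg (img i'' α'') (congrArg₂ (· - ·) e1 e2)).symm.trans e3

end Groth.Agent.HensSph
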