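import Groth.Agent.HensSph.Pair
import Mathlib

/-!
# Modules: tensor products with henselizations of localisations glue
-/

set_option autoImplicit false
set_option backward.isDefEq.respectTransparency false
set_option backward.isDefEq.respectTransparency.types false
set_option linter.style.haveILetI false
set_option linter.auxLemma false
set_option linter.unusedSectionVars false
set_option maxHeartbeats 1000000

universe u

open TensorProduct

noncomputable section

namespace Groth.Agent.HensSph

variable {A : Type u} [CommRing A] {I : Ideal A}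

/-- localising at a smaller open -/
theorem hensAway_localise {c a : A} {Bc B : Type u} [CommRing Bc] [CommRing B] {φc : A →+* Bc} {φ : A →+* B}
    (r : Bc →+* B) (hr : r.comp φc = φ) (hc : HensSch.IsHensAway A I c Bc φc)
    (h : HensSch.IsHensAway A I a B φ) : HensSch.IsHensAway Bc (I.map φc) (φc a) B r := by
  subst hr
  refine ⟨h.1, by rw [Ideal.map_map]; exact h.2.1, fun D _ J g hJ hIg hu => ?_⟩
  rw [Ideal.map_map] at hIg
  obtain ⟨k, hk, hku⟩ := h.2.2 D J (g.comp φc) hJ hIg hu
  obtain ⟨k', -, hk'⟩ := hc.2.2 D J (g.comp φc) hJ hIg (hc.1.map g)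
  refine ⟨k, ?_, fun k'' h'' => hku k'' (by show k''.comp (r.comp φc) = g.comp φc; rw [← RingHom.comp_assoc]; exact congrArg (fun e => RingHom.comp e φc) h'')⟩
  exact (hk' _ (by show (k.comp r).comp φc = _; rw [RingHom.comp_assoc]; exact hk)).trans (hk' g rfl).symm

/-- henselization commutes with integral extensions -/
theorem hensAway_baseChange {f : A} {B : Type u} [CommRing B] [Algebra A B]
    (h : HensSch.IsHensAway A I f B (algebraMap A B)) (C : Type u) [CommRing C] [Algebra A C]
    [Algebra.IsIntegral A C] :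
    HensSch.IsHensAway C (I.map (algebraMap A C)) (algebraMap A C f) (B ⊗[A] C)
      (Algebra.TensorProduct.includeRight (R := A) (A := B) (B := C)).toRingHom := by
  let inR : C →ₐ[A] B ⊗[A] C := Algebra.TensorProduct.includeRight
  let inL : B →ₐ[A] B ⊗[A] C := Algebra.TensorProduct.includeLeft
  have hI : (I.map (algebraMap A C)).map inR.toRingHom = (I.map (algebraMap A B)).map (algebraMap B (B ⊗[A] C)) := by
    rw [Ideal.map_map, Ideal.map_map]
    congr 1
    exact (inR.comp_algebraMap).trans (inL.comp_algebraMap).symm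
  refine ⟨?_, ?_, fun D _ J g hJ hIg hu => ?_⟩
  · show IsUnit (inR (algebraMap A C f))
    rw [inR.commutes, ← inL.commutes]
    exact h.1.map inL
  · rw [hI]
    haveI : HenselianRing B (I.map (algebraMap A B)) := h.2.1
    exact Hensel.henselianRing_integral B _ (B ⊗[A] C)
  · obtain ⟨k, hk, hku⟩ := h.2.2 D J (g.comp (algebraMap A C)) hJ (by rw [← Ideal.map_map]; exact hIg) hu
    letI : Algebra A D := (g.comp (algebraMap A C)).toAlgebra
    let kA : B →ₐ[A] D := ⟨k, RingHom.congr_fun hk⟩
    let gA : C →ₐ[A] D := ⟨g, fun _ => rfl⟩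
    let e : B ⊗[A] C →ₐ[A] D := Algebra.TensorProduct.lift kA gA fun x y => Commute.all _ _
    refine ⟨e.toRingHom, RingHom.ext fun c => ?_, fun e' he' => ?_⟩
    · show e (1 ⊗ₜ c) = g c
      rw [Algebra.TensorProduct.lift_tmul, map_one, one_mul]
      rfl
    · have hA : ∀ a, e' (inR (algebraMap A C a)) = algebraMap A D a := fun a =>
        RingHom.congr_fun he' (algebraMap A C a)
      let eA : B ⊗[A] C →ₐ[A] D := ⟨e', fun a => by
        show e' (algebraMap A (B ⊗[A] C) a) = algebraMap A D a
        rw [← inR.commutes a]; exact hA a⟩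
      suffices eA = e from congrArg AlgHom.toRingHom this
      apply Algebra.TensorProduct.ext
      · refine AlgHom.ext fun b => ?_
        refine (RingHom.congr_fun (hku (eA.comp inL).toRingHom (RingHom.ext fun a => (eA.comp inL).commutes a)) b).trans ?_
        show k b = e (b ⊗ₜ 1)
        rw [Algebra.TensorProduct.lift_tmul, map_one, mul_one]
        rfl
      · refine AlgHom.ext fun c => ?_
        refine (RingHom.congr_fun he' c).trans ?_
        show g c = e (1 ⊗ₜ c)
        rw [Algebra.TensorProduct.lift_tmul, map_one, one_mul]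
        rfl

section Glue

variable [HenselianRing A I] {f g : A} {Bf Bg B : Type u} [CommRing Bf] [CommRing Bg] [CommRing B]
  [Algebra A Bf] [Algebra A Bg] [Algebra A B] (pf : Bf →ₐ[A] B) (pg : Bg →ₐ[A] B)
  (hf : HensSch.IsHensAway A I f Bf (algebraMap A Bf)) (hg : HensSch.IsHensAway A I g Bg (algebraMap A Bg))
  (h : HensSch.IsHensAway A I (f * g) B (algebraMap A B))
  (hfg : Ideal.span {f, g} ⊔ I = ⊤)

include hf hg h hfg

theorem glue_algebra (C : Type u) [CommRing C] [Algebra A C] [Algebra.IsIntegral A C] :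
    (∀ (a : Bf ⊗[A] C) (b : Bg ⊗[A] C),
      pf.toLinearMap.rTensor C a = pg.toLinearMap.rTensor C b → ∃ c : C, 1 ⊗ₜ c = a ∧ 1 ⊗ₜ c = b) ∧
    (∀ c : C, (1 : Bf) ⊗ₜ[A] c = 0 → (1 : Bg) ⊗ₜ[A] c = 0 → c = 0) := by
  haveI := Hensel.henselianRing_integral A I C
  let qf := Algebra.TensorProduct.map pf (AlgHom.id A C)
  let qg := Algebra.TensorProduct.map pg (AlgHom.id A C)
  have hh := hensAway_baseChange h C
  rw [map_mul] at hh
  have hfg' : Ideal.span {algebraMap A C f, algebraMap A C g} ⊔ I.map (algebraMap A C) = ⊤ := by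
    have := congrArg (Ideal.map (algebraMap A C)) hfg
    rwa [Ideal.map_sup, Ideal.map_span, Ideal.map_top, Set.image_pair] at this
  have hef : qf.toRingHom.comp (Algebra.TensorProduct.includeRight (R := A) (A := Bf) (B := C)).toRingHom =
      (Algebra.TensorProduct.includeRight (R := A) (A := B) (B := C)).toRingHom :=
    RingHom.ext fun c => by
      show qf (1 ⊗ₜ c) = 1 ⊗ₜ c
      rw [Algebra.TensorProduct.map_tmul, map_one]
      rfl
  have heg : qg.toRingHom.comp (Algebra.TensorProduct.includeRight (R := A) (A := Bg) (B := C)).toRingHom =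
      (Algebra.TensorProduct.includeRight (R := A) (A := B) (B := C)).toRingHom :=
    RingHom.ext fun c => by
      show qg (1 ⊗ₜ c) = 1 ⊗ₜ c
      rw [Algebra.TensorProduct.map_tmul, map_one]
      rfl
  have key : ∀ {B' : Type u} [CommRing B'] [Algebra A B'] (p : B' →ₐ[A] B) (z : B' ⊗[A] C),
      p.toLinearMap.rTensor C z = Algebra.TensorProduct.map p (AlgHom.id A C) z := by
    intro B' _ _ p z
    induction z with
    | zero => simp
    | tmul x y => simp
    | add x y hx hy => rw [map_add, map_add, hx, hy]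
  refine ⟨fun a b hab => ?_, fun c h1 h2 => ?_⟩
  · rw [key, key] at hab
    exact exists_glue_elt (hensAway_baseChange hf C) (hensAway_baseChange hg C) hh hef heg hfg' a b hab
  · exact eq_zero_of_glue (hensAway_baseChange hf C) (hensAway_baseChange hg C) hh hef heg hfg' c h1 h2

variable {M : Type u} [AddCommGroup M] [Module A M]

theorem glue_module :
    (∀ (a : Bf ⊗[A] M) (b : Bg ⊗[A] M),
      pf.toLinearMap.rTensor M a = pg.toLinearMap.rTensor M b → ∃ m : M, 1 ⊗ₜ m = a ∧ 1 ⊗ₜ m = b) ∧
    (∀ m : M, (1 : Bf) ⊗ₜ[A] m = 0 → (1 : Bg) ⊗ₜ[A] m = 0 → m = 0) := by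
  letI : Module Aᵐᵒᵖ M := Module.compHom M ((RingHom.id A).fromOpposite mul_comm)
  haveI : IsCentralScalar A M := ⟨fun _ _ => rfl⟩
  haveI : Algebra.IsIntegral A (TrivSqZeroExt A M) := ⟨fun x => by
    rw [← TrivSqZeroExt.inl_fst_add_inr_snd_eq x]
    refine IsIntegral.add isIntegral_algebraMap ?_
    exact IsIntegral.of_pow two_pos (by rw [pow_two, TrivSqZeroExt.inr_mul_inr]; exact isIntegral_zero)⟩
  obtain ⟨h1, h2⟩ := glue_algebra pf pg hf hg h hfg (TrivSqZeroExt A M)
  let inr : M →ₗ[A] TrivSqZeroExt A M :=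
    { toFun := TrivSqZeroExt.inr, map_add' := TrivSqZeroExt.inr_add A, map_smul' := TrivSqZeroExt.inr_smul A }
  let snd : TrivSqZeroExt A M →ₗ[A] M :=
    { toFun := TrivSqZeroExt.snd, map_add' := TrivSqZeroExt.snd_add, map_smul' := fun r x => TrivSqZeroExt.snd_smul r x }
  refine ⟨fun a b hab => ?_, fun m hm hm' => ?_⟩
  · have hsi : snd.comp inr = LinearMap.id := LinearMap.ext fun m => TrivSqZeroExt.snd_inr A m
    obtain ⟨c, hc, hc'⟩ := h1 (inr.lTensor Bf a) (inr.lTensor Bg b) (by
      have e := congrArg (inr.lTensor B) hab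
      rwa [← LinearMap.comp_apply, ← LinearMap.comp_apply, LinearMap.lTensor_comp_rTensor,
        LinearMap.lTensor_comp_rTensor, ← LinearMap.rTensor_comp_lTensor, ← LinearMap.rTensor_comp_lTensor,
        LinearMap.comp_apply, LinearMap.comp_apply] at e)
    refine ⟨snd c, ?_, ?_⟩
    · have e := congrArg (snd.lTensor Bf) hc
      rwa [LinearMap.lTensor_tmul, ← LinearMap.comp_apply, ← LinearMap.lTensor_comp, hsi,
        LinearMap.lTensor_id, LinearMap.id_apply] at e
    · have e := congrArg (snd.lTensor Bg) hc'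
      rwa [LinearMap.lTensor_tmul, ← LinearMap.comp_apply, ← LinearMap.lTensor_comp, hsi,
        LinearMap.lTensor_id, LinearMap.id_apply] at e
  · have e := h2 (inr m) (by rw [← LinearMap.lTensor_tmul, hm, map_zero])
      (by rw [← LinearMap.lTensor_tmul, hm', map_zero])
    exact (TrivSqZeroExt.snd_inr A m).symm.trans (congrArg TrivSqZeroExt.snd e)

end Glue

section Localised

open AlgebraTensorModule (cancelBaseChange)

variable {c a b : A} {Bc Bf Bg B : Type u} [CommRing Bc] [CommRing Bf] [CommRing Bg] [CommRing B]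
  [Algebra A Bc] [Algebra A Bf] [Algebra A Bg] [Algebra A B]
  (rf : Bc →ₐ[A] Bf) (rg : Bc →ₐ[A] Bg) (pf : Bf →ₐ[A] B) (pg : Bg →ₐ[A] B)
  (hr : pf.comp rf = pg.comp rg)
  (hc : HensSch.IsHensAway A I c Bc (algebraMap A Bc)) (hf : HensSch.IsHensAway A I a Bf (algebraMap A Bf))
  (hg : HensSch.IsHensAway A I b Bg (algebraMap A Bg))
  (h : HensSch.IsHensAway A I (a * b) B (algebraMap A B))
  (hab : Ideal.span {algebraMap A Bc a, algebraMap A Bc b} ⊔ I.map (algebraMap A Bc) = ⊤)
  {M : Type u} [AddCommGroup M] [Module A M]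

include hr hc hf hg h hab

theorem glue_localised :
    (∀ (x : Bf ⊗[A] M) (y : Bg ⊗[A] M),
      pf.toLinearMap.rTensor M x = pg.toLinearMap.rTensor M y →
        ∃ z : Bc ⊗[A] M, rf.toLinearMap.rTensor M z = x ∧ rg.toLinearMap.rTensor M z = y) ∧
    (∀ z : Bc ⊗[A] M, rf.toLinearMap.rTensor M z = 0 → rg.toLinearMap.rTensor M z = 0 → z = 0) := by
  letI : Algebra Bc Bf := rf.toRingHom.toAlgebra
  letI : Algebra Bc Bg := rg.toRingHom.toAlgebra
  letI : Algebra Bc B := (pf.comp rf).toRingHom.toAlgebra
  haveI : IsScalarTower A Bc Bf := IsScalarTower.of_algebraMap_eq fun x => (rf.commutes x).symm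
  haveI : IsScalarTower A Bc Bg := IsScalarTower.of_algebraMap_eq fun x => (rg.commutes x).symm
  haveI : IsScalarTower A Bc B := IsScalarTower.of_algebraMap_eq fun x => ((pf.comp rf).commutes x).symm
  haveI : HenselianRing Bc (I.map (algebraMap A Bc)) := hc.2.1
  let qf : Bf →ₐ[Bc] B := ⟨pf.toRingHom, fun _ => rfl⟩
  let qg : Bg →ₐ[Bc] B := ⟨pg.toRingHom, fun x => (AlgHom.congr_fun hr x).symm⟩
  have h' := hensAway_localise (pf.comp rf).toRingHom (pf.comp rf).comp_algebraMap hc h
  rw [map_mul] at h'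
  obtain ⟨g1, g2⟩ := glue_module (A := Bc) (M := Bc ⊗[A] M) qf qg
    (hensAway_localise rf.toRingHom rf.comp_algebraMap hc hf)
    (hensAway_localise rg.toRingHom rg.comp_algebraMap hc hg) h' hab
  let ef := cancelBaseChange A Bc Bf Bf M
  let eg := cancelBaseChange A Bc Bg Bg M
  let e := cancelBaseChange A Bc B B M
  have hef : ∀ z : Bc ⊗[A] M, ef (1 ⊗ₜ z) = rf.toLinearMap.rTensor M z := fun z => by
    induction z with
    | zero => rw [tmul_zero, map_zero, map_zero]
    | tmul s m => rw [AlgebraTensorModule.cancelBaseChange_tmul, Algebra.smul_def, mul_one]; rfl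
    | add x y hx hy => rw [tmul_add, map_add, map_add, hx, hy]
  have heg : ∀ z : Bc ⊗[A] M, eg (1 ⊗ₜ z) = rg.toLinearMap.rTensor M z := fun z => by
    induction z with
    | zero => rw [tmul_zero, map_zero, map_zero]
    | tmul s m => rw [AlgebraTensorModule.cancelBaseChange_tmul, Algebra.smul_def, mul_one]; rfl
    | add x y hx hy => rw [tmul_add, map_add, map_add, hx, hy]
  have hqf : ∀ x, e (qf.toLinearMap.rTensor (Bc ⊗[A] M) x) = pf.toLinearMap.rTensor M (ef x) := fun x => by
    induction x with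
    | zero => simp
    | tmul s w =>
      induction w with
      | zero => simp
      | tmul t m =>
        rw [LinearMap.rTensor_tmul, AlgebraTensorModule.cancelBaseChange_tmul,
          AlgebraTensorModule.cancelBaseChange_tmul, LinearMap.rTensor_tmul]
        exact congrArg (· ⊗ₜ m) (map_smul qf t s).symm
      | add x y hx hy => rw [tmul_add, map_add, map_add, map_add, map_add, hx, hy]
    | add x y hx hy => rw [map_add, map_add, map_add, map_add, hx, hy]
  have hqg : ∀ x, e (qg.toLinearMap.rTensor (Bc ⊗[A] M) x) = pg.toLinearMap.rTensor M (eg x) := fun x => by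
    induction x with
    | zero => simp
    | tmul s w =>
      induction w with
      | zero => simp
      | tmul t m =>
        rw [LinearMap.rTensor_tmul, AlgebraTensorModule.cancelBaseChange_tmul,
          AlgebraTensorModule.cancelBaseChange_tmul, LinearMap.rTensor_tmul]
        exact congrArg (· ⊗ₜ m) (map_smul qg t s).symm
      | add x y hx hy => rw [tmul_add, map_add, map_add, map_add, map_add, hx, hy]
    | add x y hx hy => rw [map_add, map_add, map_add, map_add, hx, hy]
  refine ⟨fun x y hxy => ?_, fun z hz hz' => ?_⟩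
  · obtain ⟨z, hz, hz'⟩ := g1 (ef.symm x) (eg.symm y) (e.injective (by
      rw [hqf, hqg, LinearEquiv.apply_symm_apply, LinearEquiv.apply_symm_apply, hxy]))
    exact ⟨z, by rw [← hef, hz, LinearEquiv.apply_symm_apply], by rw [← heg, hz', LinearEquiv.apply_symm_apply]⟩
  · exact g2 z (ef.injective (by rw [hef, hz, map_zero])) (eg.injective (by rw [heg, hz', map_zero]))

theorem split_localised (p : ℕ) [Fact p.Prime] [CharP Bc p] (w : B ⊗[A] M) :
    ∃ (x : Bf ⊗[A] M) (y : Bg ⊗[A] M), pf.toLinearMap.rTensor M x - pg.toLinearMap.rTensor M y = w := by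
  have h' := hensAway_localise (pf.comp rf).toRingHom (pf.comp rf).comp_algebraMap hc h
  rw [map_mul] at h'
  haveI : HenselianRing Bc (I.map (algebraMap A Bc)) := hc.2.1
  induction w with
  | zero => exact ⟨0, 0, by simp⟩
  | tmul s m =>
    obtain ⟨x, y, e⟩ := exists_split (hensAway_localise rf.toRingHom rf.comp_algebraMap hc hf)
      (hensAway_localise rg.toRingHom rg.comp_algebraMap hc hg) h' (pf := pf.toRingHom) (pg := pg.toRingHom)
      rfl (congrArg AlgHom.toRingHom hr).symm hab p s
    exact ⟨x ⊗ₜ m, y ⊗ₜ m, by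
      rw [LinearMap.rTensor_tmul, LinearMap.rTensor_tmul, ← sub_tmul]; exact congrArg (· ⊗ₜ m) e⟩
  | add x y hx hy =>
    obtain ⟨a, b, e⟩ := hx
    obtain ⟨a', b', e'⟩ := hy
    exact ⟨a + a', b + b', by rw [map_add, map_add, ← e, ← e']; abel⟩

end Localised

end Groth.Agent.HensSph
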