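import Groth.Agent.HensSph.Split
import Groth.Agent.Hensel.PairEnvelopeStage
import Groth.Agent.Hensel.Ops
import Groth.Prelude.Def_HensSch
import Mathlib

/-!
# The sheaf property of the henselizations of localisations of a henselian pair
-/

set_option autoImplicit false
set_option backward.isDefEq.respectTransparency false
set_option backward.isDefEq.respectTransparency.types false
set_option linter.style.haveILetI false
set_option linter.auxLemma false
set_option linter.unusedSectionVars false
set_option maxHeartbeats 1000000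

universe u

open CategoryTheory AlgebraicGeometry Opposite TensorProduct
noncomputable section

namespace Groth.Agent.HensSph

open EtMV (oo res)

variable {A : Type u} [CommRing A] {I : Ideal A} {f : A} {B : Type u} [CommRing B] {φ : A →+* B}

theorem away_pairHenselization (hB : HensSch.IsHensAway A I f B φ) [Algebra (Localization.Away f) B]
    (hl : (algebraMap (Localization.Away f) B).comp (algebraMap A _) = φ) :
    Hens2.IsPairHenselization (Localization.Away f) (I.map (algebraMap A (Localization.Away f))) B := by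
  obtain ⟨hf, hH, hU⟩ := hB
  refine ⟨?_, fun C _ J g hC hg => ?_⟩
  · rw [Ideal.map_map, hl]
    exact hH
  · obtain ⟨h, hh, hu⟩ := hU C J (g.comp (algebraMap A _)) hC (by rwa [← Ideal.map_map])
      ((IsLocalization.Away.algebraMap_isUnit (S := Localization.Away f) f).map g)
    refine ⟨h, IsLocalization.ringHom_ext (Submonoid.powers f) ?_, fun h' hh' => hu h' ?_⟩
    · rw [RingHom.comp_assoc]
      exact (congrArg h.comp hl).trans hh
    · have := congrArg (fun k : Localization.Away f →+* C => k.comp (algebraMap A _)) hh'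
      rw [RingHom.comp_assoc] at this
      exact (congrArg h'.comp hl).symm.trans this

theorem flat_hensAway (hB : HensSch.IsHensAway A I f B φ) : φ.Flat := by
  let l : Localization.Away f →+* B := IsLocalization.Away.lift f (g := φ) hB.1
  have hl : l.comp (algebraMap A (Localization.Away f)) = φ := IsLocalization.Away.lift_comp f hB.1
  letI := l.toAlgebra
  letI := φ.toAlgebra
  haveI : IsScalarTower A (Localization.Away f) B := IsScalarTower.of_algebraMap_eq' hl.symm
  haveI : Module.Flat (Localization.Away f) B := Hensel.pairHenselization_flat (away_pairHenselization hB hl)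
  haveI : Module.Flat A (Localization.Away f) := IsLocalization.flat _ (Submonoid.powers f)
  exact Module.Flat.trans A (Localization.Away f) _

variable (I f) in
/-- the localised residue ring -/
abbrev LF : Type u := Localization.Away (Ideal.Quotient.mk I f)

theorem exists_residue (hB : HensSch.IsHensAway A I f B φ) :
    ∃ (h : B →+* LF I f) (ν : LF I f →+* B ⧸ I.map φ),
      h.comp φ = (algebraMap (A ⧸ I) (LF I f)).comp (Ideal.Quotient.mk I) ∧
      ν.comp (algebraMap (A ⧸ I) (LF I f)) = qmap φ I ∧ ν.comp h = Ideal.Quotient.mk (I.map φ) := by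
  obtain ⟨hf, -, hU⟩ := hB
  let g : A →+* LF I f := (algebraMap (A ⧸ I) (LF I f)).comp (Ideal.Quotient.mk I)
  have hg : I.map g ≤ ⊥ := by
    rw [← Ideal.map_map, Ideal.map_quotient_self, Ideal.map_bot]
  obtain ⟨h, hh, -⟩ := hU (LF I f) ⊥ g Hensel.henselianRing_bot hg
    (IsLocalization.Away.algebraMap_isUnit (Ideal.Quotient.mk I f) : IsUnit (algebraMap (A ⧸ I) (LF I f) _))
  have hqu : IsUnit (qmap φ I (Ideal.Quotient.mk I f)) := hf.map (Ideal.Quotient.mk (I.map φ))
  let ν : LF I f →+* B ⧸ I.map φ := IsLocalization.Away.lift _ (g := qmap φ I) hqu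
  have hν : ν.comp (algebraMap (A ⧸ I) (LF I f)) = qmap φ I := IsLocalization.Away.lift_comp _ hqu
  refine ⟨h, ν, hh, hν, ?_⟩
  obtain ⟨k, -, hk⟩ := hU (B ⧸ I.map φ) ⊥ ((Ideal.Quotient.mk (I.map φ)).comp φ) Hensel.henselianRing_bot
    (by rw [← Ideal.map_map, Ideal.map_quotient_self]) (hf.map (Ideal.Quotient.mk (I.map φ)))
  refine (hk _ ?_).trans (hk _ rfl).symm
  show (ν.comp h).comp φ = _
  rw [RingHom.comp_assoc, hh, ← RingHom.comp_assoc, hν]
  rfl

theorem range_qmap_ge (hB : HensSch.IsHensAway A I f B φ) (O : (Spec (CommRingCat.of (A ⧸ I))).Opens)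
    (hO : O ≤ zOpen I f) : Set.range O.ι ⊆ Set.range (Spec.map (CommRingCat.ofHom (qmap φ I))) := by
  obtain ⟨h, -, hh, -, -⟩ := exists_residue hB
  rw [Scheme.Opens.range_ι]
  intro z hz
  have hz' : z ∈ Set.range (PrimeSpectrum.comap (algebraMap (A ⧸ I) (LF I f))) := by
    rw [PrimeSpectrum.localization_away_comap_range (LF I f) (Ideal.Quotient.mk I f)]
    exact hO hz
  obtain ⟨y, rfl⟩ := hz'
  have hk : ∀ b ∈ I.map φ, h b = 0 := fun b hb => by
    have : (I.map φ).map h ≤ ⊥ := by
      rw [Ideal.map_map, hh, ← Ideal.map_map, Ideal.map_quotient_self, Ideal.map_bot]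
    exact (Submodule.mem_bot _).1 (this (Ideal.mem_map_of_mem h hb))
  have e : (Ideal.Quotient.lift (I.map φ) h hk).comp (qmap φ I) = algebraMap (A ⧸ I) (LF I f) :=
    Ideal.Quotient.ringHom_ext (by exact hh)
  exact ⟨PrimeSpectrum.comap (Ideal.Quotient.lift (I.map φ) h hk) y,
    (PrimeSpectrum.comap_comp_apply _ _ y).symm.trans (congrArg (fun r => PrimeSpectrum.comap r y) e)⟩

/-- every element is the value of a section -/
theorem exists_sect (hB : HensSch.IsHensAway A I f B φ) (O : (Spec (CommRingCat.of (A ⧸ I))).Opens)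
    (h : Set.range (Spec.map (CommRingCat.ofHom (qmap φ I))) ⊆ Set.range O.ι) (hO : O ≤ zOpen I f) (b : B) :
    ∃ s, Comp I φ O h s b := by
  obtain ⟨r, ν, hr, hν, hνr⟩ := exists_residue hB
  let l : Localization.Away f →+* B := IsLocalization.Away.lift f (g := φ) hB.1
  have hl : l.comp (algebraMap A (Localization.Away f)) = φ := IsLocalization.Away.lift_comp f hB.1
  letI := l.toAlgebra
  obtain ⟨E, _, _, _, -, e, t, rfl⟩ := Hensel.exists_nhd_mem (away_pairHenselization hB hl) b
  letI : Algebra A E := ((algebraMap (Localization.Away f) E).comp (algebraMap A _)).toAlgebra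
  haveI : IsScalarTower A (Localization.Away f) E := IsScalarTower.of_algebraMap_eq' rfl
  haveI : Algebra.Etale A (Localization.Away f) := Algebra.Etale.of_isLocalizationAway f
  haveI : Algebra.Etale A E := Algebra.Etale.comp A (Localization.Away f) E
  have he : e.toRingHom.comp (algebraMap A E) = φ := by
    rw [← hl]
    exact RingHom.ext fun a => e.commutes _
  exact exists_comp_rep f O h hO t e.toRingHom (r.comp e.toRingHom) ν he
    (by rw [RingHom.comp_assoc, he, hr]) hν (by rw [← RingHom.comp_assoc, hνr])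

theorem isHensAway_id (A : Type u) [CommRing A] (I : Ideal A) [hA : HenselianRing A I] :
    HensSch.IsHensAway A I 1 A (RingHom.id A) :=
  ⟨by simp, by rw [Ideal.map_id]; exact hA, fun _ _ _ g _ _ _ => ⟨g, g.comp_id, fun h hh => (h.comp_id.symm.trans hh)⟩⟩

section Glue

variable [HenselianRing A I] {g : A} {Bf Bg : Type u} [CommRing Bf] [CommRing Bg]
  {φf : A →+* Bf} {φg : A →+* Bg} {pf : Bf →+* B} {pg : Bg →+* B}
  (hf : HensSch.IsHensAway A I f Bf φf) (hg : HensSch.IsHensAway A I g Bg φg)
  (h : HensSch.IsHensAway A I (f * g) B φ) (ef : pf.comp φf = φ) (eg : pg.comp φg = φ)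
  (hfg : Ideal.span {f, g} ⊔ I = ⊤)

include hf hg h ef eg hfg

/-- sections agreeing on the overlap come from the whole -/
theorem exists_glue_elt (a : Bf) (b : Bg) (hab : pf a = pg b) : ∃ x : A, φf x = a ∧ φg x = b := by
  have hu : IsUnit (φ f) := isUnit_of_mul_isUnit_left (y := φ g) (by rw [← map_mul]; exact h.1)
  have hu' : IsUnit (φ g) := isUnit_of_mul_isUnit_right (x := φ f) (by rw [← map_mul]; exact h.1)
  have hH : HenselianRing A (I.map (RingHom.id A)) := (isHensAway_id A I).2.1
  obtain ⟨sa, hsa⟩ := exists_sect hf (zOpen I f) (range_qmap φf f hf.1) le_rfl a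
  obtain ⟨sb, hsb⟩ := exists_sect hg (zOpen I g) (range_qmap φg g hg.1) le_rfl b
  have hr := range_qmap_inf I φ f g hu hu'
  have ha := hsa.res pf ef (inf_le_left : zOpen I f ⊓ zOpen I g ≤ zOpen I f) hr
  have hb := hsb.res pg eg (inf_le_right : zOpen I f ⊓ zOpen I g ≤ zOpen I g) hr
  have hd := ha.sub hb
  rw [hab, sub_self] at hd
  have hsub : zOpen I f ⊓ zOpen I g ≤ zOpen I (f * g) := fun z hz hn =>
    ((iI I z).isPrime.mem_or_mem hn).elim hz.1 hz.2
  have e := sub_eq_zero.1 (Comp.eq_zero (flat_hensAway h) (range_qmap_ge h _ hsub) hd)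
  obtain ⟨σ, hσa, hσb⟩ := exists_glue le_top le_top (le_sup_of_span I f g hfg) sa sb e
  obtain ⟨x, hx⟩ := exists_comp hH ⊤ (range_qmap_top (RingHom.id A)) σ
  refine ⟨x, ?_, ?_⟩
  · have h1 := hx.res φf φf.comp_id le_top (range_qmap φf f hf.1)
    rw [hσa] at h1
    exact h1.unique hf.2.1 hsa
  · have h1 := hx.res φg φg.comp_id le_top (range_qmap φg g hg.1)
    rw [hσb] at h1
    exact h1.unique hg.2.1 hsb

/-- elements are detected on the two pieces -/
theorem eq_zero_of_glue (x : A) (h1 : φf x = 0) (h2 : φg x = 0) : x = 0 := by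
  have hH : HenselianRing A (I.map (RingHom.id A)) := (isHensAway_id A I).2.1
  obtain ⟨s, hs⟩ := exists_sect (isHensAway_id A I) ⊤ (range_qmap_top (RingHom.id A))
    (fun z _ hn => (iI I z).isPrime.ne_top ((Ideal.eq_top_iff_one _).2 hn)) x
  have ha := hs.res φf φf.comp_id le_top (range_qmap φf f hf.1)
  have hb := hs.res φg φg.comp_id le_top (range_qmap φg g hg.1)
  rw [h1] at ha
  rw [h2] at hb
  have e1 := Comp.eq_zero (flat_hensAway hf) (range_qmap_ge hf _ le_rfl) ha
  have e2 := Comp.eq_zero (flat_hensAway hg) (range_qmap_ge hg _ le_rfl) hb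
  have es : s = 0 := by
    refine EtFLC.sect_ext _ fun v => ?_
    rcases le_sup_of_span I f g hfg (show (Scheme.Opens.ι _ v) ∈ (⊤ : (Spec (CommRingCat.of (A ⧸ I))).Opens) from trivial) with hv | hv
    · exact ⟨oo (zOpen I f), res le_top, ⟨_, hv⟩, (Scheme.Opens.ι _).injective ((Scheme.Hom.comp_apply _ _ _).symm.trans (congrArg (fun m => m (⟨_, hv⟩ : ((_ : (Spec (CommRingCat.of (A ⧸ I))).Opens) : Scheme.{u}))) ((Spec (CommRingCat.of (A ⧸ I))).homOfLE_ι le_top))), e1.trans (map_zero _).symm⟩
    · exact ⟨oo (zOpen I g), res le_top, ⟨_, hv⟩, (Scheme.Opens.ι _).injective ((Scheme.Hom.comp_apply _ _ _).symm.trans (congrArg (fun m => m (⟨_, hv⟩ : ((_ : (Spec (CommRingCat.of (A ⧸ I))).Opens) : Scheme.{u}))) ((Spec (CommRingCat.of (A ⧸ I))).homOfLE_ι le_top))), e2.trans (map_zero _).symm⟩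
  have h0 := hs.sub hs
  rw [sub_self, sub_self, ← es] at h0
  exact hs.unique hH h0

/-- in characteristic `p` the sections on the overlap split -/
theorem exists_split (p : ℕ) [Fact p.Prime] [CharP A p] (c : B) : ∃ (a : Bf) (b : Bg), pf a - pg b = c := by
  have hu : IsUnit (φ f) := isUnit_of_mul_isUnit_left (y := φ g) (by rw [← map_mul]; exact h.1)
  have hu' : IsUnit (φ g) := isUnit_of_mul_isUnit_right (x := φ f) (by rw [← map_mul]; exact h.1)
  have hr := range_qmap_inf I φ f g hu hu'
  have hsub : zOpen I f ⊓ zOpen I g ≤ zOpen I (f * g) := fun z hz hn =>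
    ((iI I z).isPrime.mem_or_mem hn).elim hz.1 hz.2
  obtain ⟨s, hs⟩ := exists_sect h _ hr hsub c
  obtain ⟨sa, sb, hab⟩ := exists_sub_eq (F := HGa (iI I)) (U := zOpen I f) (V := zOpen I g) le_top le_top
    (le_sup_of_span I f g hfg) (fun x => ext_one_eq_zero p x) s
  obtain ⟨a, ha⟩ := exists_comp hf.2.1 (zOpen I f) (range_qmap φf f hf.1) sa
  obtain ⟨b, hb⟩ := exists_comp hg.2.1 (zOpen I g) (range_qmap φg g hg.1) sb
  have hd := (ha.res pf ef inf_le_left hr).sub (hb.res pg eg inf_le_right hr)
  rw [← eq_sub_of_add_eq hab.symm] at hd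
  exact ⟨a, b, hd.unique h.2.1 hs⟩

end Glue

end Groth.Agent.HensSph
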