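import Groth.Agent.HensSph.Sheaf
import Groth.Agent.RSStalk.Pull

/-!
# Direct images of `M~` along finite maps of henselian pairs
-/

set_option autoImplicit false
set_option backward.isDefEq.respectTransparency false
set_option backward.isDefEq.respectTransparency.types false
set_option linter.style.haveILetI false
set_option linter.auxLemma false
set_option linter.unusedSectionVars false
set_option maxHeartbeats 1000000

universe u

open CategoryTheory Opposite TopologicalSpace AlgebraicGeometry TensorProduct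
open Groth.Agent.HensSchLib (appLE res_secMap)
open Groth.Agent.KFlat (pgerm pgerm_res exists_pgerm)

noncomputable section

namespace Groth.Agent.HensSph

variable {A B : Type u} [CommRing A] [CommRing B] [Algebra A B] {X Y : LocallyRingedSpace.{u}}
  {πA : X ⟶ HensSch.specLRS A} {πB : Y ⟶ HensSch.specLRS B} {φ : Y ⟶ X}
  (hφ : φ ≫ πA = πB ≫ (Spec.map (CommRingCat.ofHom (algebraMap A B))).toLRSHom)

include hφ

theorem base_eq (y : Y.toTopCat) :
    (πA.base (φ.base y) : PrimeSpectrum A) = PrimeSpectrum.comap (algebraMap A B) (πB.base y) := by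
  have h := congrArg (fun m => m.base y) hφ
  exact h

theorem preimage_W (a : A) : (Opens.map φ.base).obj (W πA a) = W πB (algebraMap A B a) := by
  ext y
  show a ∉ (πA.base (φ.base y) : PrimeSpectrum A).asIdeal ↔ _
  rw [base_eq hφ]
  rfl

/-- the map on rings of sections over a pair of opens -/
def kk (a : A) : S πA a →+* S πB (algebraMap A B a) :=
  (appLE φ (W πA a) (W πB (algebraMap A B a)) (preimage_W hφ a).ge).hom

theorem kk_secMap (a r : A) :
    kk hφ a (algebraMap A (S πA a) r) = algebraMap B (S πB (algebraMap A B a)) (algebraMap A B r) := by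
  let g := (Spec.map (CommRingCat.ofHom (algebraMap A B))).toLRSHom
  have e1 : algebraMap A (S πA a) r =
      (X.presheaf.map (homOfLE (show W πA a ≤ (Opens.map πA.base).obj ⊤ from fun _ _ => trivial)).op).hom
        ((πA.c.app (op ⊤)).hom ((Scheme.ΓSpecIso (CommRingCat.of A)).inv r)) := rfl
  have e2 : algebraMap B (S πB (algebraMap A B a)) (algebraMap A B r) =
      (Y.presheaf.map (homOfLE (show W πB (algebraMap A B a) ≤ (Opens.map πB.base).obj ⊤ from fun _ _ => trivial)).op).hom
        ((πB.c.app (op ⊤)).hom (g.c.app (op ⊤) ((Scheme.ΓSpecIso (CommRingCat.of A)).inv r))) := by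
    refine congrArg (fun t => (Y.presheaf.map _).hom ((πB.c.app (op ⊤)).hom t)) ?_
    exact ConcreteCategory.congr_hom (Scheme.ΓSpecIso_inv_naturality (CommRingCat.ofHom (algebraMap A B))) r
  rw [e1, e2]
  let x₀ := (Scheme.ΓSpecIso (CommRingCat.of A)).inv r
  have h1 : appLE (φ ≫ πA) ⊤ (W πB (algebraMap A B a)) (fun _ _ => trivial) =
      appLE (πB ≫ g) ⊤ (W πB (algebraMap A B a)) (fun _ _ => trivial) := HensSchLib.appLE_congr hφ _ _ _
  rw [HensSchLib.appLE_comp φ πA ⊤ (W πA a) _ (fun _ _ => trivial) (preimage_W hφ a).ge,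
    HensSchLib.appLE_comp πB g ⊤ ((⊤ : Opens (PrimeSpectrum B))) _ (fun _ _ => trivial) (fun _ _ => trivial)] at h1
  have h2 := ConcreteCategory.congr_hom h1 x₀
  refine h2.trans ?_
  show (Y.presheaf.map _).hom ((πB.c.app (op ⊤)).hom (appLE g ⊤ ⊤ _ x₀)) = _
  refine congrArg (fun t => (Y.presheaf.map _).hom ((πB.c.app (op ⊤)).hom t)) ?_
  show ((Spec (CommRingCat.of B)).presheaf.map _).hom (g.c.app (op ⊤) x₀) = _
  rw [show (homOfLE (show (⊤ : (Spec (CommRingCat.of B)).Opens) ≤ (Opens.map g.base).obj ⊤ from fun _ _ => trivial)).op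
    = 𝟙 _ from Subsingleton.elim _ _]
  exact ConcreteCategory.congr_hom ((Spec (CommRingCat.of B)).presheaf.map_id _) _

variable {I : Ideal A} (hA : HensSch.IsSph A I X πA) (hB : HensSch.IsSph B (I.map (algebraMap A B)) Y πB)
include hA hB

theorem bijective_kk [Algebra.IsIntegral A B] (a : A) :
    ∃ j : B ⊗[A] S πA a ≃ₐ[B] S πB (algebraMap A B a), ∀ b s,
      j (b ⊗ₜ s) = algebraMap B (S πB (algebraMap A B a)) b * kk hφ a s := by
  let T := S πA a ⊗[A] B
  let inR : B →+* T := (Algebra.TensorProduct.includeRight (R := A) (A := S πA a) (B := B)).toRingHom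
  have hT : HensSch.IsHensAway B (I.map (algebraMap A B)) (algebraMap A B a) T inR :=
    hensAway_baseChange (hA.2.2 a) B
  have hS := hB.2.2 (algebraMap A B a)
  letI : Algebra A (S πB (algebraMap A B a)) :=
    ((algebraMap B (S πB (algebraMap A B a))).comp (algebraMap A B)).toAlgebra
  haveI : IsScalarTower A B (S πB (algebraMap A B a)) := IsScalarTower.of_algebraMap_eq' rfl
  let kA : S πA a →ₐ[A] S πB (algebraMap A B a) := ⟨kk hφ a, kk_secMap hφ a⟩
  let j : B ⊗[A] S πA a →ₐ[B] S πB (algebraMap A B a) :=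
    Algebra.TensorProduct.lift (Algebra.ofId B _) kA fun _ _ => Commute.all _ _
  let c : T ≃ₐ[A] B ⊗[A] S πA a := Algebra.TensorProduct.comm A (S πA a) B
  let j' : T →+* S πB (algebraMap A B a) := j.toRingHom.comp c.toRingHom
  have hj' : j'.comp inR = algebraMap B (S πB (algebraMap A B a)) := RingHom.ext fun b => by
    show j (c (1 ⊗ₜ b)) = _
    rw [Algebra.TensorProduct.comm_tmul, Algebra.TensorProduct.lift_tmul, map_one, mul_one]
    rfl
  obtain ⟨k, hk, -⟩ := hS.2.2 T _ inR hT.2.1 le_rfl hT.1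
  obtain ⟨u, -, hu⟩ := hT.2.2 T _ inR hT.2.1 le_rfl hT.1
  obtain ⟨v, -, hv⟩ := hS.2.2 (S πB (algebraMap A B a)) _
    (HensSch.secMap πB (PrimeSpectrum.basicOpen (algebraMap A B a))) hS.2.1 le_rfl hS.1
  have e1 : k.comp j' = RingHom.id T := (hu _ (by
    show (k.comp j').comp inR = _
    rw [RingHom.comp_assoc, hj']; exact hk)).trans (hu _ inR.id_comp).symm
  have e2 : j'.comp k = RingHom.id _ := (hv _ (by
    show (j'.comp k).comp _ = _
    rw [RingHom.comp_assoc, hk]; exact hj')).trans (hv _ (RingHom.id_comp _)).symm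
  have hb : Function.Bijective j' :=
    ⟨Function.LeftInverse.injective (RingHom.congr_fun e1), Function.RightInverse.surjective (RingHom.congr_fun e2)⟩
  have hbj : Function.Bijective j := (Function.Bijective.of_comp_iff _ c.bijective).1 hb
  exact ⟨AlgEquiv.ofBijective j hbj, fun b s =>
    Algebra.TensorProduct.lift_tmul (Algebra.ofId B _) kA (fun _ _ => Commute.all _ _) b s⟩

variable (N : ModuleCat.{u} B)

omit hφ hA hB in
variable (A) in
/-- the underlying module over the smaller ring -/
def NA : ModuleCat.{u} A := (ModuleCat.restrictScalars (algebraMap A B)).obj N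

/-- comparison of the tensor products -/
theorem exists_lam [Algebra.IsIntegral A B] (a : A) :
    ∃ L : S πA a ⊗[A] (NA A N) → S πB (algebraMap A B a) ⊗[B] N, Function.Bijective L ∧
      (∀ z w, L (z + w) = L z + L w) ∧ ∀ (s : S πA a) (n : N), L (s ⊗ₜ (show NA A N from n)) = kk hφ a s ⊗ₜ n := by
  letI : Module A N := Module.compHom N (algebraMap A B)
  haveI : IsScalarTower A B N := IsScalarTower.of_algebraMap_smul fun _ _ => rfl
  obtain ⟨j, hj⟩ := bijective_kk hφ hA hB a
  let e1 : S πA a ⊗[A] N ≃+ N ⊗[A] S πA a := (TensorProduct.comm A _ _).toAddEquiv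
  let e2 : N ⊗[A] S πA a ≃+ N ⊗[B] (B ⊗[A] S πA a) :=
    (AlgebraTensorModule.cancelBaseChange A B B N (S πA a)).symm.toAddEquiv
  let e3 : N ⊗[B] (B ⊗[A] S πA a) ≃+ N ⊗[B] S πB (algebraMap A B a) :=
    (TensorProduct.congr (LinearEquiv.refl B N) j.toLinearEquiv).toAddEquiv
  let e4 : N ⊗[B] S πB (algebraMap A B a) ≃+ S πB (algebraMap A B a) ⊗[B] N := (TensorProduct.comm B _ _).toAddEquiv
  let E : S πA a ⊗[A] N ≃+ S πB (algebraMap A B a) ⊗[B] N := e1.trans (e2.trans (e3.trans e4))
  refine ⟨E, E.bijective, E.map_add, fun s n => ?_⟩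
  show e4 (e3 (e2 (e1 (s ⊗ₜ[A] n)))) = _
  simp only [e1, e2, e3, e4, LinearEquiv.coe_addEquiv_apply, TensorProduct.comm_tmul,
    AlgebraTensorModule.cancelBaseChange_symm_tmul, TensorProduct.congr_tmul, LinearEquiv.refl_apply]
  refine congrArg (· ⊗ₜ[B] n) ?_
  show j (1 ⊗ₜ s) = _
  rw [hj, map_one, one_mul]

omit hA hB in
theorem θ₀_linear (r : A) (n : N) :
    θ₀ πB N (algebraMap A B r • n) =
      HSMul.hSMul (α := ((ModSite.ringSh Y.sheaf).obj.obj (op ((Opens.map φ.base).obj ((Opens.map πA.base).obj ⊤))) : Type u))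
        ((φ.c.app (op ((Opens.map πA.base).obj ⊤))).hom
          ((πA.c.app (op ⊤)).hom ((Scheme.ΓSpecIso (CommRingCat.of A)).inv r))) (θ₀ πB N n) := by
  rw [θ₀_smul]
  refine congrArg (· • θ₀ πB N n) ?_
  let g := (Spec.map (CommRingCat.ofHom (algebraMap A B))).toLRSHom
  let x₀ := (Scheme.ΓSpecIso (CommRingCat.of A)).inv r
  have h1 : appLE (φ ≫ πA) ⊤ ((Opens.map πB.base).obj ⊤) (fun _ _ => trivial) =
      appLE (πB ≫ g) ⊤ ((Opens.map πB.base).obj ⊤) (fun _ _ => trivial) := HensSchLib.appLE_congr hφ _ _ _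
  have h2 := ConcreteCategory.congr_hom h1 x₀
  simp only [appLE, LocallyRingedSpace.comp_c_app] at h2
  rw [show (homOfLE (show (Opens.map πB.base).obj ⊤ ≤ (Opens.map (φ ≫ πA).base).obj ⊤ from fun _ _ => trivial)).op
    = 𝟙 _ from Subsingleton.elim _ _] at h2
  erw [CategoryTheory.Functor.map_id, Category.comp_id, Category.comp_id] at h2
  refine Eq.trans ?_ h2.symm
  exact congrArg (πB.c.app (op ⊤)).hom
    (ConcreteCategory.congr_hom (Scheme.ΓSpecIso_inv_naturality (CommRingCat.ofHom (algebraMap A B))) r)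

omit hA hB in
/-- the canonical map to the sections of the direct image -/
def toPush : NA A N ⟶ (moduleSpecΓFunctor (R := CommRingCat.of A)).obj
    ((HensSch.pushMod πA).obj ((HensSch.pushMod φ).obj (F πB N))) :=
  ModuleCat.ofHom (R := (CommRingCat.of A : Type u)) (X := NA A N)
    (Y := (moduleSpecΓFunctor (R := CommRingCat.of A)).obj ((HensSch.pushMod πA).obj ((HensSch.pushMod φ).obj (F πB N))))
    { toFun := fun n => θ₀ πB N (show N from n)
      map_add' := fun m n => θ₀_add πB N m n
      map_smul' := fun r n => θ₀_linear hφ N r n }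

omit hA hB in
/-- the natural map -/
def homN : F πA (NA A N) ⟶ (HensSch.pushMod φ).obj (F πB N) :=
  (((tilde.adjunction (R := CommRingCat.of A)).comp (HensSch.pullPushAdj πA)).homEquiv _ _).symm (toPush hφ N)

omit hA hB in
theorem homN_θ₀ (n : N) :
    ((homN hφ N).val.app (op ((Opens.map πA.base).obj ⊤))).hom (θ₀ πA (NA A N) n) = θ₀ πB N n := by
  have h : (((tilde.adjunction (R := CommRingCat.of A)).comp (HensSch.pullPushAdj πA)).homEquiv _ _) (homN hφ N) =
      toPush hφ N := Equiv.apply_symm_apply _ _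
  rw [Adjunction.homEquiv_unit] at h
  exact congrArg (fun f => f.hom (show NA A N from n)) h

omit hA hB in
/-- transport to the distinguished open upstairs -/
def ρ (a : A) : ((HensSch.pushMod φ).obj (F πB N)).val.obj (op (W πA a)) →+ G πB N (algebraMap A B a) :=
  AddMonoidHom.mk' (fun t => ((F πB N).val.map (homOfLE (preimage_W hφ a).ge).op).hom t) fun _ _ => map_add _ _ _

omit hA hB in
theorem ρ_homN_θ (a : A) (n : N) :
    ρ hφ N a (((homN hφ N).val.app (op (W πA a))).hom (θ πA (NA A N) a n)) = θ πB N (algebraMap A B a) n := by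
  rw [θ_eq]
  have h := ConcreteCategory.congr_hom ((homN hφ N).val.naturality
    ((Opens.map πA.base).map (homOfLE (le_top : PrimeSpectrum.basicOpen a ≤ ⊤))).op) (θ₀ πA (NA A N) n)
  refine (congrArg (ρ hφ N a) h).trans ?_
  have h2 : ((F πB N).val.presheaf.map ((Opens.map φ.base).map ((Opens.map πA.base).map
      (homOfLE (le_top : PrimeSpectrum.basicOpen a ≤ ⊤)))).op ≫
      (F πB N).val.presheaf.map (homOfLE (preimage_W hφ a).ge).op).hom (θ₀ πB N n) =
      ((F πB N).val.presheaf.map ((Opens.map πB.base).map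
        (homOfLE (le_top : PrimeSpectrum.basicOpen (algebraMap A B a) ≤ ⊤))).op).hom (θ₀ πB N n) := by
    rw [← Functor.map_comp]
    rfl
  rw [← homN_θ₀ hφ N n] at h2
  exact h2.trans (by rw [homN_θ₀]; rfl)

omit hA hB in
theorem ρ_bijective (a : A) : Function.Bijective (ρ hφ N a) := by
  haveI : IsIso (homOfLE (preimage_W hφ a).ge).op :=
    ⟨(homOfLE (preimage_W hφ a).le).op, Subsingleton.elim _ _, Subsingleton.elim _ _⟩
  exact ConcreteCategory.bijective_of_isIso ((F πB N).val.presheaf.map (homOfLE (preimage_W hφ a).ge).op)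

theorem bijective_homN_app [Algebra.IsIntegral A B] [HenselianRing A I]
    [HenselianRing B (I.map (algebraMap A B))] (a : A) :
    Function.Bijective ((homN hφ N).val.app (op (W πA a))).hom := by
  obtain ⟨L, hL, hLadd, hLt⟩ := exists_lam hφ hA hB N a
  have e : ∀ z, ρ hφ N a (((homN hφ N).val.app (op (W πA a))).hom (θT πA (NA A N) a z)) =
      θT πB N (algebraMap A B a) (L z) := by
    intro z
    induction z with
    | zero =>
      have h0 : L 0 = 0 := by simpa using hLadd 0 0
      rw [h0]; simp only [map_zero]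
    | tmul s n =>
      rw [hLt s (show N from n), θT_tmul, θT_tmul]
      refine (congrArg (ρ hφ N a) (map_smul ((homN hφ N).val.app (op (W πA a))).hom s _)).trans ?_
      refine (PresheafOfModules.map_smul _ _ _ _).trans ?_
      exact congrArg (kk hφ a s • ·) (ρ_homN_θ hφ N a n)
    | add x y hx hy => simp only [hLadd, map_add, hx, hy]
  have hc : Function.Bijective (ρ hφ N a ∘ ((homN hφ N).val.app (op (W πA a))).hom ∘ θT πA (NA A N) a) := by
    rw [show ρ hφ N a ∘ ((homN hφ N).val.app (op (W πA a))).hom ∘ θT πA (NA A N) a =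
      θT πB N (algebraMap A B a) ∘ L from funext e]
    exact (θT_bijective N hB _).comp hL
  exact (Function.Bijective.of_comp_iff _ (θT_bijective (NA A N) hA a)).1
    ((Function.Bijective.of_comp_iff' (ρ_bijective hφ N a) _).1 hc)

omit hφ hB in
/-- bijectivity on distinguished opens gives isomorphisms -/
theorem isIso_of_bijective_W {P Q : ModSite.Mod X.sheaf} (f : P ⟶ Q)
    (h : ∀ a, Function.Bijective (f.val.app (op (W πA a))).hom) : IsIso f := by
  refine RSStalk.isIso_of_stalks f fun x => ?_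
  rw [ConcreteCategory.isIso_iff_bijective]
  let P' := (RSStalk.toP X.sheaf).obj P
  let Q' := (RSStalk.toP X.sheaf).obj Q
  have hf : ∀ (U : Opens X.toTopCat) (hU : x ∈ U) (s : P'.obj (op U)),
      ((RSStalk.st X.sheaf x).map f).hom (pgerm P' x U hU s) = pgerm Q' x U hU ((f.val.app (op U)).hom s) :=
    fun U hU s => RSStalk.pstMap_germ ((RSStalk.toP X.sheaf).map f) x hU s
  refine ⟨(injective_iff_map_eq_zero ((RSStalk.st X.sheaf x).map f).hom).2 fun z hz => ?_, fun z => ?_⟩
  · obtain ⟨U, hU, s, rfl⟩ := exists_pgerm P' x z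
    rw [hf U hU s] at hz
    obtain ⟨V, hV, i₁, i₂, he⟩ := TopCat.Presheaf.germ_eq Q'.presheaf x hU hU
      (show ↑(Q'.presheaf.obj (op U)) from (f.val.app (op U)).hom s) (0 : ↑(Q'.presheaf.obj (op U)))
      (hz.trans (map_zero (pgerm Q' x U hU)).symm)
    rw [map_zero] at he
    obtain ⟨a, ha, haV⟩ := exists_W_le hA hV
    rw [← pgerm_res P' x (haV.trans i₁.le) ha s]
    have h0 : (f.val.app (op (W πA a))).hom ((P.val.map (homOfLE (haV.trans i₁.le)).op).hom s) = 0 := by
      refine (ConcreteCategory.congr_hom (f.val.naturality (homOfLE (haV.trans i₁.le)).op) s).trans ?_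
      have e' := congrArg (Q'.presheaf.map (homOfLE haV).op).hom he
      rw [map_zero] at e'
      change (Q'.presheaf.map i₁.op ≫ Q'.presheaf.map (homOfLE haV).op).hom _ = 0 at e'
      rw [← Functor.map_comp] at e'
      exact e'
    exact (congrArg (pgerm P' x (W πA a) ha) ((h a).1 (h0.trans (map_zero _).symm))).trans
      (map_zero (pgerm P' x (W πA a) ha))
  · obtain ⟨U, hU, t, rfl⟩ := exists_pgerm Q' x z
    obtain ⟨a, ha, haU⟩ := exists_W_le hA hU
    obtain ⟨s, hs⟩ := (h a).2 ((Q.val.map (homOfLE haU).op).hom t)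
    exact ⟨pgerm P' x (W πA a) ha s, (hf _ ha s).trans ((congrArg (pgerm Q' x (W πA a) ha) hs).trans
      (pgerm_res Q' x haU ha t))⟩

theorem exists_iso [Algebra.IsIntegral A B] [HenselianRing A I] [HenselianRing B (I.map (algebraMap A B))] :
    ∃ e : F πA (NA A N) ≅ (HensSch.pushMod φ).obj (F πB N), ∀ n : N,
      (e.hom.val.app (op ((Opens.map πA.base).obj ⊤))).hom (θ₀ πA (NA A N) n) = θ₀ πB N n :=
  haveI := isIso_of_bijective_W hA (homN hφ N) (bijective_homN_app hφ hA hB N)
  ⟨asIso (homN hφ N), homN_θ₀ hφ N⟩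

end Groth.Agent.HensSph
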