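import Groth.Agent.HensSph.Glue
import Groth.Agent.EtMV.MVOpens
import Mathlib

/-!
# Compatible functions: sums, uniqueness and detection of sections
-/

set_option autoImplicit false
set_option backward.isDefEq.respectTransparency false
set_option backward.isDefEq.respectTransparency.types false
set_option linter.style.haveILetI false
set_option linter.auxLemma false
set_option linter.unusedSectionVars false
set_option maxHeartbeats 1000000

universe u

open CategoryTheory CategoryTheory.Limits AlgebraicGeometry Opposite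

noncomputable section

namespace Groth.Agent.HensSph

open EtH0Pair

section Compat

variable {X X' Z Z' : Scheme.{u}} {i : Z ⟶ X} {i' : Z' ⟶ X'} {j : X' ⟶ X} {W₀ : Z.Etale} {l : Z' ⟶ W₀.left}
  (hl : l ≫ W₀.hom ≫ i = i' ≫ j)

/-- compatibility is checked on one chart at each point -/
theorem compat_of_local {σ : EtCoh.sect (HGa i) W₀} {c : Γ(X', ⊤)}
    (h : ∀ z : Z', ∃ (D : Datum i σ) (P : X'.Etale) (π : P.left ⟶ D.E.left) (_ : π ≫ D.E.hom = P.hom ≫ j)
      (T : Z'.Etale) (α : T ⟶ (EtCoh.bc i').obj P) (β : T.left ⟶ D.W.left) (t : T.left),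
        α.left ≫ pullback.fst P.hom i' ≫ π = β ≫ D.a.left ≫ pullback.fst D.E.hom i ∧
        β ≫ D.b.left = T.hom ≫ l ∧ T.hom t = z ∧ img i' α (π.appTop D.t - res₀ P c) = 0) :
    Compat i i' j l σ c := by
  choose D P π hπ T α β t hαβ hβ ht h0 using h
  intro D₁ P₁ π₁ hπ₁ T₁ α₁ β₁ hα₁ hβ₁
  refine EtFLC.sect_ext _ fun v => ?_
  let z := T₁.hom v
  haveI : Etale (T z).hom := (T z).prop
  haveI : Etale T₁.hom := T₁.prop
  let R : Z'.Etale := Scheme.Etale.mk (pullback.fst T₁.hom (T z).hom ≫ T₁.hom)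
  let g₁ : R ⟶ T₁ := MorphismProperty.Over.homMk (pullback.fst T₁.hom (T z).hom) rfl
  let g₂ : R ⟶ T z := MorphismProperty.Over.homMk (pullback.snd T₁.hom (T z).hom) pullback.condition.symm
  obtain ⟨r, hr, -⟩ := Scheme.Pullback.exists_preimage_pullback (f := T₁.hom) (g := (T z).hom) v (t z) (ht z).symm
  refine ⟨R, g₁, r, hr, ?_⟩
  obtain ⟨Q, qa, qb, χ, hχa, hχb, ha', hb', -, -⟩ := exists_bc_product' i' (g₁ ≫ α₁) (g₂ ≫ α z)
  have hg1 : g₁.left ≫ T₁.hom = R.hom := Over.w g₁.hom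
  have hg2 : g₂.left ≫ (T z).hom = R.hom := Over.w g₂.hom
  have hqa : qa.left ≫ P₁.hom = Q.hom := Over.w qa.hom
  have hqb : qb.left ≫ (P z).hom = Q.hom := Over.w qb.hom
  have h := pairs i' D₁ (D z) (qa.left ≫ π₁) (qb.left ≫ π z)
    (by rw [Category.assoc, Category.assoc, hπ₁, hπ, reassoc_of% hqa, reassoc_of% hqb]) χ
    (g₁.left ≫ β₁) (g₂.left ≫ β z)
    (by
      rw [reassoc_of% ha', Category.assoc, ← hα₁]
      show (g₁.left ≫ α₁.left) ≫ _ = _
      rw [Category.assoc])
    (by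
      rw [reassoc_of% hb', Category.assoc, ← hαβ z]
      show (g₂.left ≫ (α z).left) ≫ _ = _
      rw [Category.assoc])
    (by rw [Category.assoc, Category.assoc, hβ₁, hβ, reassoc_of% hg1, reassoc_of% hg2])
  show (HGa i').obj.map g₁.op (img i' α₁ _) = (HGa i').obj.map g₁.op 0
  have h0' : img i' (α z) ((π z).appTop (D z).t) = img i' (α z) (res₀ (P z) c) :=
    sub_eq_zero.1 ((img_sub i' _ _ _).symm.trans (h0 z))
  rw [map_zero, img_res, ← hχa, img_map, map_sub, img_sub, sub_eq_zero]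
  refine ((congrArg (img i' χ) (app₂ qa.left π₁ _ rfl D₁.t)).trans h).trans ?_
  rw [← app₂ qb.left (π z) _ rfl (D z).t, ← img_map, hχb, ← img_res, h0', img_res, img_res₀, ← img_map, hχa,
    img_res₀]

include hl in
/-- compatible functions subtract -/
theorem Compat.sub {σ τ : EtCoh.sect (HGa i) W₀} {c d : Γ(X', ⊤)} (hc : Compat i i' j l σ c)
    (hd : Compat i i' j l τ d) : Compat i i' j l (σ - τ) (c - d) := by
  refine compat_of_local fun z => ?_
  obtain ⟨Da, wa, hwa⟩ := exists_datum σ (l z)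
  obtain ⟨Db, wb, hwb⟩ := exists_datum τ (l z)
  haveI := EtSect.etale_left Da.b
  haveI := EtSect.etale_left Db.b
  haveI : Etale Da.W.hom := Da.W.prop
  let W' : Z.Etale := Scheme.Etale.mk (pullback.fst Da.b.left Db.b.left ≫ Da.W.hom)
  let p₁ : W' ⟶ Da.W := MorphismProperty.Over.homMk (pullback.fst Da.b.left Db.b.left) rfl
  let p₂ : W' ⟶ Db.W := MorphismProperty.Over.homMk (pullback.snd Da.b.left Db.b.left) (by
    show _ ≫ Db.W.hom = pullback.fst Da.b.left Db.b.left ≫ Da.W.hom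
    rw [← (show Da.b.left ≫ W₀.hom = Da.W.hom from Over.w Da.b.hom),
      ← (show Db.b.left ≫ W₀.hom = Db.W.hom from Over.w Db.b.hom), pullback.condition_assoc])
  have hp : p₁ ≫ Da.b = p₂ ≫ Db.b := MorphismProperty.Over.Hom.ext pullback.condition
  obtain ⟨Q, qa, qb, χ, hχa, hχb, ha', hb', -, -⟩ := exists_bc_product' i (p₁ ≫ Da.a) (p₂ ≫ Db.a)
  let D : Datum i (σ - τ) := ⟨Q, qa.left.appTop Da.t - qb.left.appTop Db.t, W', χ, p₁ ≫ Da.b, by
    rw [map_sub, img_sub, ← img_map, ← img_map, hχa, hχb, ← img_res, ← img_res, ← Da.eq, ← Db.eq]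
    refine congrArg₂ (· - ·) ?_ ?_
    · rw [op_comp, Functor.map_comp]; rfl
    · rw [hp, op_comp, Functor.map_comp]; rfl⟩
  obtain ⟨w, hw₁, -⟩ := Scheme.Pullback.exists_preimage_pullback (f := Da.b.left) (g := Db.b.left) wa wb
    (hwa.trans hwb.symm)
  have hw : D.b.left w = l z := by
    show Da.b.left (p₁.left w) = _
    rw [show p₁.left w = wa from hw₁, hwa]
  obtain ⟨P, π, hπ, T, α, β, hα, hβ, t', ht', -⟩ := exists_chart i' j l hl D z w hw
  have hqa : qa.left ≫ Da.E.hom = Q.hom := Over.w qa.hom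
  have hqb : qb.left ≫ Db.E.hom = Q.hom := Over.w qb.hom
  have h1 := hc Da P (π ≫ qa.left) (by rw [Category.assoc, hqa]; exact hπ) T α (β ≫ p₁.left)
    (by
      rw [reassoc_of% hα, Category.assoc]
      show β ≫ χ.left ≫ pullback.fst Q.hom i ≫ qa.left = _
      rw [ha']
      show β ≫ (p₁.left ≫ Da.a.left) ≫ _ = _
      rw [Category.assoc]) (by rw [Category.assoc]; exact hβ)
  have h2 := hd Db P (π ≫ qb.left) (by rw [Category.assoc, hqb]; exact hπ) T α (β ≫ p₂.left)
    (by
      rw [reassoc_of% hα, Category.assoc]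
      show β ≫ χ.left ≫ pullback.fst Q.hom i ≫ qb.left = _
      rw [hb']
      show β ≫ (p₂.left ≫ Db.a.left) ≫ _ = _
      rw [Category.assoc])
    (by
      rw [Category.assoc, show p₂.left ≫ Db.b.left = p₁.left ≫ Da.b.left from pullback.condition.symm]
      exact hβ)
  refine ⟨D, P, π, hπ, T, α, β, t', hα, hβ, ht', ?_⟩
  rw [img_sub, sub_eq_zero] at h1 h2 ⊢
  rw [map_sub, map_sub, img_sub, img_sub, ← h1, ← h2, ← app₂ π qa.left _ rfl, ← app₂ π qb.left _ rfl]

include hl in
/-- compatible functions are unique -/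
theorem Compat.unique {σ : EtCoh.sect (HGa i) W₀} {c c' : Γ(X', ⊤)} (hc : Compat i i' j l σ c)
    (hc' : Compat i i' j l σ c') (hinj : Function.Injective (unitSec i' (EtCoh.Ga X') (EtCoh.top X'))) :
    c = c' := by
  refine congrArg ULift.down (?_ : gs (U := EtCoh.top X') c = gs c')
  refine hinj (EtFLC.sect_ext _ fun v => ?_)
  let z := pullback.snd (EtCoh.top X').hom i' v
  obtain ⟨D, w, hw⟩ := exists_datum σ (l z)
  obtain ⟨P, π, hπ, T, α, β, hα, hβ, t', ht', -⟩ := exists_chart i' j l hl D z w hw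
  have h1 := hc D P π hπ T α β hα hβ
  have h2 := hc' D P π hπ T α β hα hβ
  rw [img_sub, sub_eq_zero] at h1 h2
  have e1 := h1.symm.trans h2
  rw [img_res₀, img_res₀] at e1
  refine ⟨T, toT i' T, t', ?_, e1⟩
  haveI : IsIso (pullback.snd (EtCoh.top X').hom i') :=
    inferInstanceAs (IsIso (pullback.snd (𝟙 X') i'))
  apply (pullback.snd (EtCoh.top X').hom i').homeomorph.injective
  show pullback.snd (EtCoh.top X').hom i' ((toT i' T).left t') = z
  exact ((Scheme.Hom.comp_apply _ _ _).symm.trans (congrArg (fun m : T.left ⟶ _ => m t')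
    (show (toT i' T).left ≫ pullback.snd (EtCoh.top X').hom i' = T.hom from pullback.lift_snd _ _ _))).trans ht'

theorem germ_appTop {A B : Scheme.{u}} (f : A ⟶ B) (a : A) (t : Γ(B, ⊤)) :
    f.stalkMap a (B.presheaf.germ ⊤ (f a) trivial t) = A.presheaf.germ ⊤ a trivial (f.appTop t) :=
  Scheme.Hom.germ_stalkMap_apply f ⊤ a trivial t

include hl in
/-- sections are detected by compatible functions along flat maps -/
theorem Compat.eq_zero {σ : EtCoh.sect (HGa i) W₀} [Flat j] (hs : Function.Surjective (fun z => l z))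
    (hc : Compat i i' j l σ 0) : σ = 0 := by
  refine EtFLC.sect_ext _ fun p => ?_
  obtain ⟨D, w, hw⟩ := exists_datum σ p
  refine ⟨D.W, D.b, w, hw, ?_⟩
  show (HGa i).obj.map D.b.op σ = (HGa i).obj.map D.b.op 0
  rw [map_zero, D.eq, img_eq_zero_iff]
  intro w'
  obtain ⟨z, hz⟩ := hs (D.b.left w')
  obtain ⟨T, α, β, hα, hβ, t, -, ht⟩ := exists_chart_bc i' j l hl D z w' hz.symm
  let P := (EtCoh.bc j).obj D.E
  let π : P.left ⟶ D.E.left := pullback.fst D.E.hom j
  have h0 := hc D P π pullback.condition T α β hα hβ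
  rw [map_zero, sub_zero, img_eq_zero_iff] at h0
  have h1 := h0 t
  rw [EtSect.mem_iff] at h1
  obtain ⟨W', g, ⟨y, hy⟩, hg⟩ := h1
  haveI := EtSect.etale_left g
  have he : g.left.appTop (π.appTop D.t) = 0 :=
    congrArg ULift.down (show (gs (g.left.appTop (π.appTop D.t)) : ULift.{u + 1} _) = 0 from hg)
  let f : W'.left ⟶ D.E.left := g.left ≫ π
  haveI : Flat g.left := inferInstance
  haveI : Flat π := MorphismProperty.pullback_fst D.E.hom j inferInstance
  haveI : Flat f := inferInstance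
  let x := pullback.fst D.E.hom i (D.a.left w')
  have hfy : f y = x := by
    have e1 := congrArg (fun m => m t) hα
    simp only [Scheme.Hom.comp_apply] at e1
    show π (g.left y) = _
    rw [hy]
    exact e1.trans (congrArg (fun a => pullback.fst D.E.hom i (D.a.left a)) ht)
  have hinj : Function.Injective (f.stalkMap y) := by
    letI := (f.stalkMap y).hom.toAlgebra
    haveI : Module.Flat (D.E.left.presheaf.stalk (f y)) (W'.left.presheaf.stalk y) := Flat.stalkMap f y
    haveI : IsLocalHom (algebraMap (D.E.left.presheaf.stalk (f y)) (W'.left.presheaf.stalk y)) :=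
      inferInstanceAs (IsLocalHom (f.stalkMap y).hom)
    haveI := Module.FaithfullyFlat.of_flat_of_isLocalHom (A := D.E.left.presheaf.stalk (f y))
      (B := W'.left.presheaf.stalk y)
    exact FaithfulSMul.algebraMap_injective (D.E.left.presheaf.stalk (f y)) (W'.left.presheaf.stalk y)
  have hgerm : D.E.left.presheaf.germ ⊤ (f y) trivial D.t = D.E.left.presheaf.germ ⊤ (f y) trivial 0 := by
    rw [map_zero]
    apply hinj
    rw [map_zero, germ_appTop, ← app₂ g.left π f rfl D.t, he, map_zero]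
  obtain ⟨O, hO, hi, hi', hO'⟩ := D.E.left.presheaf.germ_eq (f y) _ _ D.t 0 hgerm
  rw [EtSect.mem_iff]
  haveI : Etale D.E.hom := D.E.prop
  let E₀ : X.Etale := Scheme.Etale.mk ((Scheme.Opens.ι (X := D.E.left) O) ≫ D.E.hom)
  let q : E₀ ⟶ D.E := MorphismProperty.Over.homMk (Scheme.Opens.ι (X := D.E.left) O) rfl
  refine ⟨E₀, q, ⟨⟨f y, hO⟩, hfy⟩, ?_⟩
  refine (gs_map q D.t).trans (congrArg (gs (U := E₀)) ?_)
  show (Scheme.Opens.ι (X := D.E.left) O).appTop D.t = 0
  rw [Scheme.Opens.ι_appTop]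
  have e2 : D.E.left.presheaf.map (homOfLE (le_top : O ≤ ⊤)).op D.t = 0 := by
    rw [show homOfLE (le_top : O ≤ ⊤) = hi from Subsingleton.elim _ _, hO', map_zero]
  rw [show (homOfLE (x := (Scheme.Opens.ι (X := D.E.left) O) ''ᵁ ⊤) (y := (⊤ : D.E.left.Opens)) le_top).op =
    (homOfLE (le_top : O ≤ ⊤)).op ≫ (homOfLE (show (Scheme.Opens.ι (X := D.E.left) O) ''ᵁ ⊤ ≤ O by simp)).op
    from Subsingleton.elim _ _, Functor.map_comp, ConcreteCategory.comp_apply, e2, map_zero]

end Compat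

section Gluing

open EtMV (oo P res σ)

variable {X : Scheme.{u}} {F : EtCoh.Ab X} {U V W : X.Opens}

/-- sections agreeing on the overlap glue -/
theorem exists_glue (hU : U ≤ W) (hV : V ≤ W) (hUV : W ≤ U ⊔ V) (a : EtCoh.sect F (oo U))
    (b : EtCoh.sect F (oo V))
    (h : F.obj.map (res (inf_le_left : U ⊓ V ≤ U)).op a = F.obj.map (res (inf_le_right : U ⊓ V ≤ V)).op b) :
    ∃ s : EtCoh.sect F (oo W), F.obj.map (res hU).op s = a ∧ F.obj.map (res hV).op s = b := by
  have hS := EtMV.sc'_shortExact hU hV hUV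
  obtain ⟨φ, rfl⟩ := EtMV.σ.surjective a
  obtain ⟨ψ, rfl⟩ := EtMV.σ.surjective b
  rw [← EtMV.σ_map, ← EtMV.σ_map] at h
  have h' := EtMV.σ.injective h
  haveI := hS.epi_g
  have hk : (EtMV.sc' hU hV).f ≫ biprod.desc φ ψ = 0 := by
    show biprod.lift _ (-_) ≫ biprod.desc φ ψ = 0
    rw [biprod.lift_desc, h', Preadditive.neg_comp, add_neg_cancel]
  let χ : (P X).obj (oo W) ⟶ F := hS.exact.desc (biprod.desc φ ψ) hk
  have hχ : biprod.desc ((P X).map (res hU)) ((P X).map (res hV)) ≫ χ = biprod.desc φ ψ :=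
    hS.exact.g_desc (biprod.desc φ ψ) hk
  refine ⟨σ χ, ?_, ?_⟩
  · rw [← EtMV.σ_map]
    exact congrArg σ ((biprod.inl_desc_assoc _ _ _).symm.trans ((congrArg (biprod.inl ≫ ·) hχ).trans (biprod.inl_desc _ _)))
  · rw [← EtMV.σ_map]
    exact congrArg σ ((biprod.inr_desc_assoc _ _ _).symm.trans ((congrArg (biprod.inr ≫ ·) hχ).trans (biprod.inr_desc _ _)))

end Gluing

end Groth.Agent.HensSph
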