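import Groth.Agent.HensSchLib.Flat
import Groth.Agent.RSStalk.Sky
import Mathlib

/-!
# Sections and stalks of `M~` on an affine henselian spectrum
-/

set_option autoImplicit false
set_option backward.isDefEq.respectTransparency false
set_option backward.isDefEq.respectTransparency.types false
set_option linter.style.haveILetI false
set_option linter.auxLemma false
set_option linter.unusedSectionVars false
set_option maxHeartbeats 1000000

universe u

open CategoryTheory Opposite TopologicalSpace AlgebraicGeometry TensorProduct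
open Groth.Agent.KFlat (pgerm pgerm_res pgerm_smul exists_pgerm)

noncomputable section

namespace Groth.Agent.HensSph

variable {A : Type u} [CommRing A] {X : LocallyRingedSpace.{u}} (π : X ⟶ HensSch.specLRS A)

/-- distinguished opens -/
abbrev W (a : A) : Opens X.toTopCat := HensSch.dOpen π a

/-- their rings of sections -/
abbrev S (a : A) : Type u := X.presheaf.obj (op (W π a))

instance algS (a : A) : Algebra A (S π a) := (HensSch.secMap π (PrimeSpectrum.basicOpen a)).toAlgebra

theorem algebraMap_S (a : A) : algebraMap A (S π a) = HensSch.secMap π (PrimeSpectrum.basicOpen a) := rfl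

/-- restriction -/
def rA {a b : A} (h : W π b ≤ W π a) : S π a →ₐ[A] S π b :=
  ⟨(X.presheaf.map (homOfLE h).op).hom, fun r => HensSchLib.res_secMap h r⟩

theorem rA_rA {a b c : A} (h : W π b ≤ W π a) (h' : W π c ≤ W π b) (h'' : W π c ≤ W π a) :
    (rA π h').comp (rA π h) = rA π h'' := by
  refine AlgHom.ext fun s => ?_
  show (X.presheaf.map (homOfLE h').op).hom ((X.presheaf.map (homOfLE h).op).hom s) =
    (X.presheaf.map (homOfLE h'').op).hom s
  rw [← RingHom.comp_apply, ← CommRingCat.hom_comp, ← Functor.map_comp]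
  rfl

theorem rA_self {a : A} (h : W π a ≤ W π a) : rA π h = AlgHom.id A _ := by
  refine AlgHom.ext fun s => ?_
  show X.presheaf.map (homOfLE h).op s = s
  rw [show (homOfLE h).op = 𝟙 _ from Subsingleton.elim _ _, CategoryTheory.Functor.map_id]
  rfl

theorem mem_W {a : A} {x : X.toTopCat} : x ∈ W π a ↔ a ∉ (π.base x : PrimeSpectrum A).asIdeal := Iff.rfl

theorem W_mul (a b : A) : W π (a * b) = W π a ⊓ W π b := by
  show (Opens.map π.base).obj _ = _
  rw [PrimeSpectrum.basicOpen_mul]
  rfl

theorem W_one : W π (1 : A) = ⊤ := by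
  show (Opens.map π.base).obj _ = _
  rw [PrimeSpectrum.basicOpen_one]
  rfl

variable (M : ModuleCat.{u} A)

/-- the sheaf -/
abbrev F : ModSite.Mod X.sheaf := HensSch.sphTilde π M

/-- the canonical map to sections -/
def θ (a : A) (m : M) : (F π M).val.obj (op (W π a)) :=
  ((F π M).val.map ((Opens.map π.base).map (homOfLE (le_top : PrimeSpectrum.basicOpen a ≤ ⊤))).op).hom
    ((((HensSch.pullPushAdj π).unit.app (tilde M)).val.app (op ⊤)).hom
      (((tilde.adjunction (R := CommRingCat.of A)).unit.app M).hom m))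

/-- the canonical map to global sections -/
def θ₀ (m : M) : (F π M).val.obj (op ((Opens.map π.base).obj ⊤)) :=
  (((HensSch.pullPushAdj π).unit.app (tilde M)).val.app (op ⊤)).hom
    (((tilde.adjunction (R := CommRingCat.of A)).unit.app M).hom m)

theorem θ_eq (a : A) (m : M) :
    θ π M a m = ((F π M).val.map ((Opens.map π.base).map (homOfLE (le_top : PrimeSpectrum.basicOpen a ≤ ⊤))).op).hom
      (θ₀ π M m) := rfl

theorem θ₀_add (m m' : M) : θ₀ π M (m + m') = θ₀ π M m + θ₀ π M m' :=
  (congrArg (((HensSch.pullPushAdj π).unit.app (tilde M)).val.app (op ⊤)).hom (map_add _ m m')).trans (map_add _ _ _)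

theorem θ₀_smul (r : A) (m : M) :
    θ₀ π M (r • m) = HSMul.hSMul (α := ((ModSite.ringSh X.sheaf).obj.obj (op ((Opens.map π.base).obj ⊤)) : Type u))
      ((π.c.app (op ⊤)).hom ((Scheme.ΓSpecIso (CommRingCat.of A)).inv r)) (θ₀ π M m) := by
  refine (congrArg (((HensSch.pullPushAdj π).unit.app (tilde M)).val.app (op ⊤)).hom
    (((tilde.adjunction (R := CommRingCat.of A)).unit.app M).hom.map_smul r m)).trans ?_
  exact map_smul (((HensSch.pullPushAdj π).unit.app (tilde M)).val.app (op ⊤)).hom _ _

theorem θ_add (a : A) (m m' : M) : θ π M a (m + m') = θ π M a m + θ π M a m' := by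
  rw [θ_eq, θ₀_add, map_add]; rfl

theorem θ_smul (a : A) (r : A) (m : M) :
    θ π M a (r • m) = HSMul.hSMul (α := ((ModSite.ringSh X.sheaf).obj.obj (op (W π a)) : Type u))
      (HensSch.secMap π (PrimeSpectrum.basicOpen a) r) (θ π M a m) := by
  rw [θ_eq, θ₀_smul]
  exact PresheafOfModules.map_smul _ _ _ _

/-- linear over the base, on global germs -/
def η (x : X.toTopCat) (m : M) : (RSStalk.st X.sheaf x).obj (F π M) :=
  pgerm ((RSStalk.toP X.sheaf).obj (F π M)) x ((Opens.map π.base).obj ⊤) trivial (θ₀ π M m)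

theorem pgerm_θ {a : A} {x : X.toTopCat} (hx : x ∈ W π a) (m : M) :
    pgerm ((RSStalk.toP X.sheaf).obj (F π M)) x (W π a) hx (θ π M a m) = η π M x m :=
  pgerm_res ((RSStalk.toP X.sheaf).obj (F π M)) x
    (show W π a ≤ (Opens.map π.base).obj ⊤ from fun _ _ => trivial) hx (θ₀ π M m)

theorem η_add (x : X.toTopCat) (m m' : M) : η π M x (m + m') = η π M x m + η π M x m' := by
  rw [η, θ₀_add, map_add]; rfl

theorem η_smul (x : X.toTopCat) (r : A) (m : M) :
    η π M x (r • m) = HSMul.hSMul (α := ((RSStalk.rg X.sheaf).stalk x : Type u))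
      (HensSchLib.toSt π x r) (η π M x m) := by
  rw [η, θ₀_smul]
  refine (pgerm_smul ((RSStalk.toP X.sheaf).obj (F π M)) x _ _ _).trans ?_
  refine congrArg (· • η π M x m) ?_
  exact (TopCat.Presheaf.germ_res_apply X.presheaf
    ((Opens.map π.base).map (homOfLE (le_top : (⊤ : Opens (PrimeSpectrum A)) ≤ ⊤))) x trivial _).symm

variable {M}

/-- the correspondence for maps out of the stalk -/
def corr (x : X.toTopCat) (P : ModuleCat.{u} ((RSStalk.rg X.sheaf).stalk x)) :
    ((RSStalk.st X.sheaf x).obj (F π M) ⟶ P) ≃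
      (M ⟶ (moduleSpecΓFunctor (R := CommRingCat.of A)).obj ((HensSch.pushMod π).obj ((RSStalk.sky x).obj P))) :=
  (((RSStalk.skyAdjunction x).homEquiv (F π M) P).trans
    ((HensSch.pullPushAdj π).homEquiv (tilde M) ((RSStalk.sky x).obj P))).trans
      ((tilde.adjunction (R := CommRingCat.of A)).homEquiv M ((HensSch.pushMod π).obj ((RSStalk.sky x).obj P)))

theorem corr_apply (x : X.toTopCat) (P : ModuleCat.{u} ((RSStalk.rg X.sheaf).stalk x))
    (φ : (RSStalk.st X.sheaf x).obj (F π M) ⟶ P) (m : M)
    (h : PLift (x ∈ (Opens.map π.base).obj (⊤ : Opens (PrimeSpectrum A)))) :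
    (show RSStalk.SkySec x P ((Opens.map π.base).obj ⊤) from (corr π x P φ).hom m) h = φ.hom (η π M x m) := by
  rfl

/-- maps out of the stalk are determined on the canonical germs -/
theorem stalk_ext (x : X.toTopCat) {P : ModuleCat.{u} ((RSStalk.rg X.sheaf).stalk x)}
    {φ ψ : (RSStalk.st X.sheaf x).obj (F π M) ⟶ P} (h : ∀ m, φ.hom (η π M x m) = ψ.hom (η π M x m)) : φ = ψ := by
  apply (corr π x P).injective
  refine ModuleCat.hom_ext (LinearMap.ext fun m => funext fun hx => ?_)
  exact (corr_apply π x P φ m hx).trans ((h m).trans (corr_apply π x P ψ m hx).symm)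

/-- maps out of the stalk exist -/
theorem stalk_desc (x : X.toTopCat) (P : ModuleCat.{u} ((RSStalk.rg X.sheaf).stalk x)) (β : M →+ P)
    (hβ : ∀ (r : A) (m : M), β (r • m) = HSMul.hSMul (α := ((RSStalk.rg X.sheaf).stalk x : Type u))
      (HensSchLib.toSt π x r) (β m)) :
    ∃ φ : (RSStalk.st X.sheaf x).obj (F π M) ⟶ P, ∀ m, φ.hom (η π M x m) = β m := by
  let T := (moduleSpecΓFunctor (R := CommRingCat.of A)).obj ((HensSch.pushMod π).obj ((RSStalk.sky x).obj P))
  let g : M ⟶ T := ModuleCat.ofHom (R := (CommRingCat.of A : Type u)) (X := M) (Y := T)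
    { toFun := fun m => (show RSStalk.SkySec x P ((Opens.map π.base).obj ⊤) from fun _ => β m)
      map_add' := fun a b => funext fun _ => map_add β a b
      map_smul' := fun r m => funext fun hx => by
        refine (hβ r m).trans (congrArg (· • β m) ?_)
        exact TopCat.Presheaf.germ_res_apply X.presheaf
          ((Opens.map π.base).map (homOfLE (le_top : (⊤ : Opens (PrimeSpectrum A)) ≤ ⊤))) x hx.down _ }
  obtain ⟨φ, hφ⟩ := (corr π x P).surjective g
  refine ⟨φ, fun m => ?_⟩
  rw [← corr_apply π x P φ m ⟨trivial⟩, hφ]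
  rfl

section Tensor

variable (M) (x : X.toTopCat)

/-- the stalk of the structure sheaf as an algebra over the base -/
def St (π : X ⟶ HensSch.specLRS A) (x : X.toTopCat) : Type u :=
  (fun _ => (RSStalk.rg X.sheaf).stalk x) π

instance : CommRing (St π x) := inferInstanceAs (CommRing ((RSStalk.rg X.sheaf).stalk x))

instance algSt : Algebra A (St π x) :=
  (show A →+* St π x from HensSchLib.toSt π x).toAlgebra

/-- germs, linear -/
def γ {a : A} (hx : x ∈ W π a) : S π a →ₗ[A] St π x where
  toFun := (X.presheaf.germ (W π a) x hx).hom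
  map_add' := map_add _
  map_smul' r s := by
    refine (map_mul (X.presheaf.germ (W π a) x hx).hom _ _).trans ?_
    exact congrArg (· * _) (HensSchLib.germ_secMap x hx r)

theorem γ_rA {a b : A} (h : W π b ≤ W π a) (hx : x ∈ W π b) :
    (γ π x hx).comp (rA π h).toLinearMap = γ π x (h hx) :=
  LinearMap.ext fun s => TopCat.Presheaf.germ_res_apply X.presheaf (homOfLE h) x hx s

end Tensor

end Groth.Agent.HensSph
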