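import Groth.Agent.HensSph.Mod
import Groth.Agent.HensSph.Stalk
import Mathlib

/-!
# The sections of `M~` over distinguished opens
-/

set_option autoImplicit false
set_option backward.isDefEq.respectTransparency false
set_option backward.isDefEq.respectTransparency.types false
set_option linter.style.haveILetI false
set_option linter.auxLemma false
set_option linter.unusedSectionVars false
set_option maxHeartbeats 1000000

universe u

open CategoryTheory Opposite TopologicalSpace AlgebraicGeometry TensorProduct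
open Groth.Agent.KFlat (pgerm pgerm_res pgerm_smul exists_pgerm)

noncomputable section

namespace Groth.Agent.HensSph

variable {A : Type u} [CommRing A] {X : LocallyRingedSpace.{u}} (π : X ⟶ HensSch.specLRS A) (M : ModuleCat.{u} A)

/-- sections of `M~` over a distinguished open -/
abbrev G (a : A) : Type u := (F π M).val.obj (op (W π a))

instance modG (a : A) : Module (S π a) (G π M a) :=
  inferInstanceAs (Module ((ModSite.ringSh X.sheaf).obj.obj (op (W π a))) ((F π M).val.obj (op (W π a))))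

instance modAG (a : A) : Module A (G π M a) :=
  Module.compHom (G π M a) (HensSch.secMap π (PrimeSpectrum.basicOpen a))

instance towerG (a : A) : IsScalarTower A (S π a) (G π M a) :=
  IsScalarTower.of_algebraMap_smul fun _ _ => rfl

/-- the canonical map, linear -/
def θl (a : A) : M →ₗ[A] G π M a where
  toFun := θ π M a
  map_add' := θ_add π M a
  map_smul' := θ_smul π M a

/-- the comparison map -/
def θT (a : A) : S π a ⊗[A] M →ₗ[S π a] G π M a := (θl π M a).liftBaseChange (S π a)

theorem θT_tmul (a : A) (s : S π a) (m : M) : θT π M a (s ⊗ₜ m) = s • (show G π M a from θ π M a m) :=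
  LinearMap.liftBaseChange_tmul _ _ _ _

/-- restriction of sections -/
def resG {a b : A} (h : W π b ≤ W π a) : G π M a →+ G π M b :=
  AddMonoidHom.mk' (fun s => ((F π M).val.map (homOfLE h).op).hom s) fun _ _ => map_add _ _ _

/-- germs of sections -/
def germF {a : A} {x : X.toTopCat} (hx : x ∈ W π a) : G π M a →+ (RSStalk.st X.sheaf x).obj (F π M) :=
  AddMonoidHom.mk' (fun s => pgerm ((RSStalk.toP X.sheaf).obj (F π M)) x (W π a) hx s) fun _ _ => map_add _ _ _

theorem θ_res {a b : A} (h : W π b ≤ W π a) (m : M) : resG π M h (θ π M a m) = θ π M b m := by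
  show (((F π M).val.presheaf.map _) ≫ (F π M).val.presheaf.map (homOfLE h).op).hom (θ₀ π M m) =
    ((F π M).val.presheaf.map _).hom (θ₀ π M m)
  rw [← Functor.map_comp]
  rfl

theorem θT_res {a b : A} (h : W π b ≤ W π a) (z : S π a ⊗[A] M) :
    resG π M h (θT π M a z) = θT π M b ((rA π h).toLinearMap.rTensor M z) := by
  induction z with
  | zero => simp only [map_zero]
  | tmul s m =>
    rw [LinearMap.rTensor_tmul, θT_tmul, θT_tmul, ← θ_res π M h]
    exact PresheafOfModules.map_smul _ _ _ _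
  | add x y hx hy =>
    rw [map_add, map_add, map_add, map_add, ← hx, ← hy]

/-- the stalk of `M~` -/
def Fx (x : X.toTopCat) : Type u := (RSStalk.st X.sheaf x).obj (F π M)

instance (x : X.toTopCat) : AddCommGroup (Fx π M x) :=
  inferInstanceAs (AddCommGroup ((RSStalk.st X.sheaf x).obj (F π M) : Type u))

instance modFx (x : X.toTopCat) : Module (St π x) (Fx π M x) :=
  inferInstanceAs (Module ((RSStalk.rg X.sheaf).stalk x) ((RSStalk.st X.sheaf x).obj (F π M) : Type u))

instance modAFx (x : X.toTopCat) : Module A (Fx π M x) :=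
  Module.compHom (Fx π M x) (show A →+* St π x from HensSchLib.toSt π x)

instance towerFx (x : X.toTopCat) : IsScalarTower A (St π x) (Fx π M x) :=
  IsScalarTower.of_algebraMap_smul fun _ _ => rfl

/-- the comparison map on stalks -/
def ψ (x : X.toTopCat) : St π x ⊗[A] M →ₗ[St π x] Fx π M x :=
  LinearMap.liftBaseChange (St π x)
    { toFun := fun m => (show Fx π M x from η π M x m)
      map_add' := η_add π M x
      map_smul' := η_smul π M x }

theorem ψ_tmul (x : X.toTopCat) (s : St π x) (m : M) : ψ π M x (s ⊗ₜ m) = s • (show Fx π M x from η π M x m) :=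
  LinearMap.liftBaseChange_tmul _ _ _ _

theorem ψ_bijective (x : X.toTopCat) : Function.Bijective (ψ π M x) := by
  letI : Module ((RSStalk.rg X.sheaf).stalk x) (St π x ⊗[A] M) := inferInstanceAs (Module (St π x) (St π x ⊗[A] M))
  let K : ModuleCat.{u} ((RSStalk.rg X.sheaf).stalk x) := ModuleCat.of _ (St π x ⊗[A] M)
  obtain ⟨φ, hφ⟩ := stalk_desc π x K (TensorProduct.mk A (St π x) M 1).toAddMonoidHom fun r m => by
    show (1 : St π x) ⊗ₜ[A] (r • m) = (show St π x from HensSchLib.toSt π x r) • ((1 : St π x) ⊗ₜ[A] m)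
    rw [tmul_smul, ← algebraMap_smul (St π x) r ((1 : St π x) ⊗ₜ[A] m)]
    rfl
  let φ' : Fx π M x →ₗ[St π x] St π x ⊗[A] M := φ.hom
  have h1 : ∀ z, φ' (ψ π M x z) = z := fun z => by
    induction z with
    | zero => rw [map_zero, map_zero]
    | tmul s m =>
      rw [ψ_tmul, map_smul]
      refine (congrArg (s • ·) (hφ m)).trans ?_
      show s • ((1 : St π x) ⊗ₜ[A] m) = _
      rw [TensorProduct.smul_tmul', smul_eq_mul, mul_one]
    | add a b ha hb => rw [map_add, map_add, ha, hb]
  let ψ' : K ⟶ (RSStalk.st X.sheaf x).obj (F π M) := ModuleCat.ofHom (ψ π M x : (St π x ⊗[A] M) →ₗ[((RSStalk.rg X.sheaf).stalk x : Type u)] ((RSStalk.st X.sheaf x).obj (F π M) : Type u))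
  have h2 : φ ≫ ψ' = 𝟙 _ := stalk_ext π x fun m => by
    rw [ModuleCat.comp_apply, hφ m]
    exact (ψ_tmul π M x 1 m).trans (one_smul _ _)
  refine ⟨Function.LeftInverse.injective h1, fun y => ⟨φ' y, ?_⟩⟩
  exact LinearMap.congr_fun (congrArg ModuleCat.Hom.hom h2) y

theorem germ_θT {a : A} {x : X.toTopCat} (hx : x ∈ W π a) (z : S π a ⊗[A] M) :
    germF π M hx (θT π M a z) = ψ π M x ((γ π x hx).rTensor M z) := by
  induction z with
  | zero => rw [map_zero, map_zero, map_zero, map_zero]
  | tmul s m =>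
    rw [LinearMap.rTensor_tmul, ψ_tmul, θT_tmul, ← pgerm_θ π M hx m]
    exact pgerm_smul ((RSStalk.toP X.sheaf).obj (F π M)) x hx s (θ π M a m)
  | add u v hu hv =>
    rw [map_add, map_add, map_add, map_add, hu, hv]

theorem subsingleton_S {b : A} (hb : W π b = ⊥) : Subsingleton (S π b) := by
  refine subsingleton_of_forall_eq 0 fun s => ?_
  refine TopCat.Presheaf.section_ext X.sheaf (W π b) s 0 fun x hx => ?_
  rw [hb] at hx
  exact hx.elim

variable {π} {I : Ideal A} (hX : HensSch.IsSph A I X π)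
include hX

theorem exists_W_le {x : X.toTopCat} {U : Opens X.toTopCat} (hx : x ∈ U) : ∃ b, x ∈ W π b ∧ W π b ≤ U := by
  obtain ⟨_, ⟨b, rfl⟩, hb, hle⟩ := Opens.isBasis_iff_nbhd.mp (HensSchLib.isBasis_dOpen hX) hx
  exact ⟨b, hb, hle⟩

theorem exists_mem_W_inf {ι : Type*} (s : Finset ι) (x : X.toTopCat) (U : ι → Opens X.toTopCat)
    (a : A) (ha : x ∈ W π a) (h : ∀ i ∈ s, x ∈ U i) : ∃ b, x ∈ W π b ∧ W π b ≤ W π a ∧ ∀ i ∈ s, W π b ≤ U i := by
  classical
  induction s using Finset.induction with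
  | empty => exact ⟨a, ha, le_rfl, fun i hi => absurd hi (Finset.notMem_empty i)⟩
  | insert i s hi ih =>
    obtain ⟨b, hb, hba, hbs⟩ := ih fun j hj => h j (Finset.mem_insert_of_mem hj)
    obtain ⟨c, hc, hcle⟩ := exists_W_le hX (U := W π b ⊓ U i) ⟨hb, h i (Finset.mem_insert_self _ _)⟩
    refine ⟨c, hc, (hcle.trans inf_le_left).trans hba, fun j hj => ?_⟩
    rcases Finset.mem_insert.1 hj with rfl | hj
    · exact hcle.trans inf_le_right
    · exact (hcle.trans inf_le_left).trans (hbs j hj)

/-- finitely many germs come from a common open -/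
theorem exists_common {ι : Type*} [Fintype ι] (x : X.toTopCat) {a : A} (ha : x ∈ W π a) (y : ι → St π x) :
    ∃ (b : A) (hb : x ∈ W π b), W π b ≤ W π a ∧ ∃ t : ι → S π b, ∀ i, γ π x hb (t i) = y i := by
  choose U hU s hs using fun i => X.presheaf.exists_germ_eq (x := x) (y i)
  obtain ⟨b, hb, hba, hbU⟩ := exists_mem_W_inf hX Finset.univ x U a ha fun i _ => hU i
  exact ⟨b, hb, hba, fun i => X.presheaf.map (homOfLE (hbU i (Finset.mem_univ i))).op (s i), fun i =>
    (TopCat.Presheaf.germ_res_apply X.presheaf _ x hb _).trans (hs i)⟩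

/-- finitely many equal germs agree on a common open -/
theorem exists_common_eq {ι : Type*} [Fintype ι] {x : X.toTopCat} {a : A} (ha : x ∈ W π a) (s t : ι → S π a)
    (h : ∀ i, γ π x ha (s i) = γ π x ha (t i)) :
    ∃ (b : A) (_ : x ∈ W π b) (hba : W π b ≤ W π a), ∀ i, rA π hba (s i) = rA π hba (t i) := by
  choose V hV i₁ i₂ he using fun i => X.presheaf.germ_eq x ha ha (s i) (t i) (h i)
  obtain ⟨b, hb, hba, hbV⟩ := exists_mem_W_inf hX Finset.univ x V a ha fun i _ => hV i
  refine ⟨b, hb, hba, fun i => ?_⟩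
  have e := congrArg (X.presheaf.map (homOfLE (hbV i (Finset.mem_univ i))).op) (he i)
  rw [← ConcreteCategory.comp_apply, ← ConcreteCategory.comp_apply, ← Functor.map_comp, ← Functor.map_comp] at e
  exact e

/-- a tensor vanishing at a point vanishes nearby -/
theorem exists_rTensor_eq_zero {a : A} {x : X.toTopCat} (ha : x ∈ W π a) (z : S π a ⊗[A] M)
    (hz : (γ π x ha).rTensor M z = 0) :
    ∃ (b : A) (_ : x ∈ W π b) (hba : W π b ≤ W π a), (rA π hba).toLinearMap.rTensor M z = 0 := by
  classical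
  obtain ⟨S', hS'⟩ := TensorProduct.exists_finset z
  obtain ⟨k, s, m, rfl⟩ : ∃ (k : ℕ) (s : Fin k → S π a) (m : Fin k → M), z = ∑ i, s i ⊗ₜ m i := by
    refine ⟨S'.card, fun i => ((S'.equivFin.symm i).1).1, fun i => ((S'.equivFin.symm i).1).2, ?_⟩
    rw [hS', ← Finset.sum_coe_sort]
    exact (Equiv.sum_comp S'.equivFin.symm (fun p : S' => p.1.1 ⊗ₜ[A] p.1.2)).symm
  haveI : Module.Flat A (St π x) := HensSchLib.flat_toSt hX x
  have hv : TensorProduct.VanishesTrivially A m (fun i => γ π x ha (s i)) := by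
    refine TensorProduct.vanishesTrivially_of_sum_tmul_eq_zero_of_rTensor_injective A
      (Module.Flat.rTensor_preserves_injective_linearMap _ (Submodule.injective_subtype _)) ?_
    have := congrArg (TensorProduct.comm A (St π x) M) hz
    simpa using this
  obtain ⟨k', q, y, hy, hq⟩ := hv
  obtain ⟨b, hb, hba, t, ht⟩ := exists_common hX x ha y
  obtain ⟨c, hc, hcb, he⟩ := exists_common_eq hX hb (fun i => rA π hba (s i)) (fun i => ∑ j, q i j • t j) fun i => by
    rw [map_sum]
    simp only [map_smul, ht]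
    exact (LinearMap.congr_fun (γ_rA π x hba hb) (s i)).trans (hy i)
  refine ⟨c, hc, hcb.trans hba, ?_⟩
  have e : ∀ i, rA π (hcb.trans hba) (s i) = ∑ j, q i j • rA π hcb (t j) := fun i => by
    rw [← rA_rA π hba hcb (hcb.trans hba)]
    refine (he i).trans ?_
    rw [map_sum]
    simp only [map_smul]
  rw [map_sum]
  simp only [LinearMap.rTensor_tmul, AlgHom.toLinearMap_apply, e, TensorProduct.sum_tmul, TensorProduct.smul_tmul]
  rw [Finset.sum_comm]
  refine Finset.sum_eq_zero fun j _ => ?_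
  rw [← TensorProduct.tmul_sum, hq j, TensorProduct.tmul_zero]

/-- tensors at a point come from nearby -/
theorem exists_rTensor_eq {a : A} {x : X.toTopCat} (ha : x ∈ W π a) (w : St π x ⊗[A] M) :
    ∃ (b : A) (hb : x ∈ W π b) (_ : W π b ≤ W π a) (z : S π b ⊗[A] M), (γ π x hb).rTensor M z = w := by
  induction w with
  | zero => exact ⟨a, ha, le_rfl, 0, map_zero _⟩
  | tmul s m =>
    obtain ⟨b, hb, hba, t, ht⟩ := exists_common hX x ha (fun _ : Unit => s)
    exact ⟨b, hb, hba, t () ⊗ₜ m, by rw [LinearMap.rTensor_tmul, ht]⟩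
  | add u v hu hv =>
    obtain ⟨b, hb, hba, z, rfl⟩ := hu
    obtain ⟨c, hc, hca, z', rfl⟩ := hv
    obtain ⟨d, hd, hle⟩ := exists_W_le hX (U := W π b ⊓ W π c) ⟨hb, hc⟩
    refine ⟨d, hd, (hle.trans inf_le_left).trans hba,
      (rA π (hle.trans inf_le_left)).toLinearMap.rTensor M z +
        (rA π (hle.trans inf_le_right)).toLinearMap.rTensor M z', ?_⟩
    rw [map_add, ← LinearMap.rTensor_comp_apply, ← LinearMap.rTensor_comp_apply, γ_rA, γ_rA]

/-- properties local on the distinguished opens -/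
theorem induction_local (P : A → Prop) {a : A}
    (hbot : ∀ b, W π b = ⊥ → P b) (hmono : ∀ b c, W π b ≤ W π a → W π c ≤ W π b → P b → P c)
    (hadd : ∀ b c d, W π b ≤ W π d → W π c ≤ W π d → W π d ≤ W π b ⊔ W π c → W π d ≤ W π a → P b → P c → P d)
    (hloc : ∀ x ∈ W π a, ∃ b, x ∈ W π b ∧ W π b ≤ W π a ∧ P b) : P a := by
  have hle : ∀ j, W π (a * j) ≤ W π a := fun j => by rw [W_mul]; exact inf_le_left
  let J : Ideal A :=
    { carrier := {j | P (a * j)}
      add_mem' := fun {j k} hj hk => by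
        refine hadd (a * j * (j + k)) (a * k * (j + k)) (a * (j + k)) ?_ ?_ ?_ ?_ (hmono _ _ (hle j) ?_ hj) (hmono _ _ (hle k) ?_ hk)
        · intro x hx; simp only [W_mul] at hx ⊢; exact ⟨hx.1.1, hx.2⟩
        · intro x hx; simp only [W_mul] at hx ⊢; exact ⟨hx.1.1, hx.2⟩
        · intro x hx
          simp only [W_mul] at hx ⊢
          by_cases h : (j : A) ∈ (π.base x : PrimeSpectrum A).asIdeal
          · exact Or.inr ⟨⟨hx.1, fun h' => hx.2 (Ideal.add_mem _ h h')⟩, hx.2⟩
          · exact Or.inl ⟨⟨hx.1, h⟩, hx.2⟩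
        · intro x hx; simp only [W_mul] at hx; exact hx.1
        · intro x hx; simp only [W_mul] at hx ⊢; exact hx.1
        · intro x hx; simp only [W_mul] at hx ⊢; exact hx.1
      zero_mem' := hbot _ (le_bot_iff.1 fun x hx => ((mem_W π).1 hx (by simp)).elim)
      smul_mem' := fun r j hj => hmono _ _ (hle j) (by
        intro x hx; simp only [smul_eq_mul, W_mul] at hx ⊢; exact ⟨hx.1, hx.2.2⟩) hj }
  have hrad : a ∈ (J ⊔ I).radical := by
    rw [Ideal.radical_eq_sInf, Ideal.mem_sInf]
    rintro q ⟨hq, hqp⟩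
    by_contra ha
    obtain ⟨x, hx⟩ : (⟨q, hqp⟩ : PrimeSpectrum A) ∈ Set.range π.base := by
      rw [hX.2.1]
      exact le_sup_right.trans hq
    obtain ⟨b, hb, hba, hPb⟩ := hloc x (by rw [mem_W, hx]; exact ha)
    have hb' : b ∈ q := hq (Submodule.mem_sup_left (show b ∈ J from hmono _ _ hba (by
      intro y hy; simp only [W_mul] at hy; exact hy.2) hPb))
    rw [mem_W, hx] at hb
    exact hb hb'
  obtain ⟨n, hn⟩ := hrad
  obtain ⟨j, hj, i, hi, he⟩ := Submodule.mem_sup.1 hn
  refine hmono _ _ (hle j) ?_ (show P (a * j) from hj)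
  intro x hx
  rw [W_mul]
  refine ⟨hx, fun hj' => hx ((π.base x : PrimeSpectrum A).isPrime.mem_of_pow_mem n ?_)⟩
  have hI : I ≤ (π.base x : PrimeSpectrum A).asIdeal := by
    have : π.base x ∈ PrimeSpectrum.zeroLocus (I : Set A) := hX.2.1 ▸ ⟨x, rfl⟩
    exact this
  rw [← he]
  exact Ideal.add_mem _ hj' (hI hi)

theorem span_eq_top {b c d : A} (hd : W π d ≤ W π b ⊔ W π c) :
    Ideal.span {algebraMap A (S π d) b, algebraMap A (S π d) c} ⊔ I.map (algebraMap A (S π d)) = ⊤ := by
  by_contra h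
  obtain ⟨q, hq, hle⟩ := Ideal.exists_le_maximal _ h
  let p : PrimeSpectrum A := ⟨q.comap (algebraMap A (S π d)), Ideal.IsPrime.comap _⟩
  obtain ⟨x, hx⟩ : p ∈ Set.range π.base := by
    rw [hX.2.1]
    exact fun i hi => hle (Submodule.mem_sup_right (Ideal.mem_map_of_mem _ hi))
  have hxd : x ∈ W π d := by
    rw [mem_W, hx]
    exact fun h' => hq.ne_top (Ideal.eq_top_of_isUnit_mem _ h' (hX.2.2 d).1)
  rcases hd hxd with h' | h' <;> refine (mem_W π).1 h' ?_ <;> rw [hx]
  · exact hle (Submodule.mem_sup_left (Ideal.subset_span (Set.mem_insert _ _)))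
  · exact hle (Submodule.mem_sup_left (Ideal.subset_span (Set.mem_insert_of_mem _ rfl)))

variable [HenselianRing A I]

theorem glue_W {b c d : A} (hb : W π b ≤ W π d) (hc : W π c ≤ W π d) (hd : W π d ≤ W π b ⊔ W π c)
    (hbb : W π (b * c) ≤ W π b) (hcc : W π (b * c) ≤ W π c) :
    (∀ (x : S π b ⊗[A] M) (y : S π c ⊗[A] M),
      (rA π hbb).toLinearMap.rTensor M x = (rA π hcc).toLinearMap.rTensor M y →
        ∃ z : S π d ⊗[A] M, (rA π hb).toLinearMap.rTensor M z = x ∧ (rA π hc).toLinearMap.rTensor M z = y) ∧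
    (∀ z : S π d ⊗[A] M, (rA π hb).toLinearMap.rTensor M z = 0 → (rA π hc).toLinearMap.rTensor M z = 0 → z = 0) :=
  glue_localised (rA π hb) (rA π hc) (rA π hbb) (rA π hcc)
    ((rA_rA π hb hbb (hbb.trans hb)).trans (rA_rA π hc hcc (hbb.trans hb)).symm)
    (hX.2.2 d) (hX.2.2 b) (hX.2.2 c) (hX.2.2 (b * c)) (span_eq_top hX hd)

theorem θT_injective (a : A) : Function.Injective (θT π M a) := by
  rw [injective_iff_map_eq_zero]
  intro z hz
  suffices h : ∀ ha : W π a ≤ W π a, (rA π ha).toLinearMap.rTensor M z = 0 by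
    simpa [rA_self] using h le_rfl
  refine induction_local hX (fun b => ∀ hb : W π b ≤ W π a, (rA π hb).toLinearMap.rTensor M z = 0)
    (fun b hb h => ?_) (fun b c hba hcb ih h => ?_) (fun b c d hb hc hd hda ihb ihc h => ?_) fun x hx => ?_
  · haveI := subsingleton_S π hb
    haveI : Subsingleton (S π b ⊗[A] M) := subsingleton_of_forall_eq 0 fun w => by
      induction w with
      | zero => rfl
      | tmul s m => rw [Subsingleton.elim s 0, zero_tmul]
      | add u v hu hv => rw [hu, hv, add_zero]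
    exact Subsingleton.elim _ _
  · rw [← rA_rA π hba hcb h, AlgHom.comp_toLinearMap, LinearMap.rTensor_comp_apply, ih hba, map_zero]
  · refine (glue_W M hX hb hc hd (W_mul π b c ▸ inf_le_left) (W_mul π b c ▸ inf_le_right)).2 _ ?_ ?_
    · rw [← LinearMap.rTensor_comp_apply, ← AlgHom.comp_toLinearMap, rA_rA π h hb (hb.trans h)]
      exact ihb _
    · rw [← LinearMap.rTensor_comp_apply, ← AlgHom.comp_toLinearMap, rA_rA π h hc (hc.trans h)]
      exact ihc _
  · have hg : (γ π x hx).rTensor M z = 0 := by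
      apply (ψ_bijective π M x).1
      rw [← germ_θT, hz, map_zero, map_zero]
    obtain ⟨b, hb, hba, e⟩ := exists_rTensor_eq_zero M hX hx z hg
    exact ⟨b, hb, hba, fun _ => e⟩

omit [HenselianRing A I] in
/-- sections are determined locally -/
theorem resG_ext {b c d : A} (hb : W π b ≤ W π d) (hc : W π c ≤ W π d) (hd : W π d ≤ W π b ⊔ W π c)
    {s t : G π M d} (h1 : resG π M hb s = resG π M hb t) (h2 : resG π M hc s = resG π M hc t) : s = t := by
  let Fs : TopCat.Sheaf AddCommGrpCat.{u} X.toTopCat := ModSite.toAb (F π M)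
  exact Fs.eq_of_locally_eq₂ (homOfLE hb) (homOfLE hc) hd s t h1 h2

omit hX [HenselianRing A I] in
theorem resG_resG {a b c : A} (h : W π b ≤ W π a) (h' : W π c ≤ W π b) (h'' : W π c ≤ W π a) (s : G π M a) :
    resG π M h' (resG π M h s) = resG π M h'' s := by
  show ((F π M).val.presheaf.map (homOfLE h).op ≫ (F π M).val.presheaf.map (homOfLE h').op).hom s =
    ((F π M).val.presheaf.map (homOfLE h'').op).hom s
  rw [← Functor.map_comp]
  rfl

theorem θT_surjective (a : A) : Function.Surjective (θT π M a) := by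
  intro s
  suffices h : ∀ ha : W π a ≤ W π a, ∃ z, θT π M a z = resG π M ha s by
    obtain ⟨z, hz⟩ := h le_rfl
    refine ⟨z, hz.trans ?_⟩
    show ((F π M).val.presheaf.map (homOfLE (le_refl (W π a))).op).hom s = s
    rw [show (homOfLE (le_refl (W π a))).op = 𝟙 _ from Subsingleton.elim _ _, CategoryTheory.Functor.map_id]
    rfl
  refine induction_local hX (fun b => ∀ hb : W π b ≤ W π a, ∃ z, θT π M b z = resG π M hb s)
    (fun b hb h => ⟨0, ?_⟩) (fun b c hba hcb ih h => ?_) (fun b c d hb hc hd hda ihb ihc h => ?_) fun x hx => ?_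
  · let Fs : TopCat.Sheaf AddCommGrpCat.{u} X.toTopCat := ModSite.toAb (F π M)
    refine TopCat.Presheaf.section_ext Fs (W π b) _ _ fun x hx => ?_
    rw [hb] at hx
    exact hx.elim
  · obtain ⟨z, hz⟩ := ih hba
    exact ⟨(rA π hcb).toLinearMap.rTensor M z, by rw [← θT_res, hz, resG_resG M]⟩
  · obtain ⟨x, hx⟩ := ihb (hb.trans h)
    obtain ⟨y, hy⟩ := ihc (hc.trans h)
    have hbb : W π (b * c) ≤ W π b := W_mul π b c ▸ inf_le_left
    have hcc : W π (b * c) ≤ W π c := W_mul π b c ▸ inf_le_right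
    obtain ⟨z, hz1, hz2⟩ := (glue_W M hX hb hc hd hbb hcc).1 x y (θT_injective M hX (b * c) (by
      rw [← θT_res, ← θT_res, hx, hy, resG_resG M (hb.trans h) hbb (hbb.trans (hb.trans h)),
        resG_resG M (hc.trans h) hcc (hbb.trans (hb.trans h))]))
    refine ⟨z, resG_ext M hX hb hc hd ?_ ?_⟩
    · rw [θT_res, hz1, hx, resG_resG M]
    · rw [θT_res, hz2, hy, resG_resG M]
  · obtain ⟨w, hw⟩ := (ψ_bijective π M x).2 (germF π M hx s)
    obtain ⟨b, hb, hba, z, hz⟩ := exists_rTensor_eq M hX hx w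
    have e : germF π M hb (θT π M b z) = germF π M hb (resG π M hba s) := by
      rw [germ_θT, hz, hw]
      exact (pgerm_res ((RSStalk.toP X.sheaf).obj (F π M)) x hba hb s).symm
    obtain ⟨V, hV, i₁, i₂, he⟩ := TopCat.Presheaf.germ_eq (F π M).val.presheaf x hb hb
      (show ↑((F π M).val.presheaf.obj (op (W π b))) from θT π M b z) (resG π M hba s) e
    obtain ⟨c, hc, hcV⟩ := exists_W_le hX hV
    have hcb : W π c ≤ W π b := hcV.trans i₁.le
    refine ⟨c, hc, hcb.trans hba, fun h => ⟨(rA π hcb).toLinearMap.rTensor M z, ?_⟩⟩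
    rw [← θT_res, ← resG_resG M hba hcb h]
    have e' := congrArg ((F π M).val.presheaf.map (homOfLE hcV).op).hom he
    change ((F π M).val.presheaf.map i₁.op ≫ (F π M).val.presheaf.map (homOfLE hcV).op).hom _ =
      ((F π M).val.presheaf.map i₂.op ≫ (F π M).val.presheaf.map (homOfLE hcV).op).hom _ at e'
    rw [← Functor.map_comp, ← Functor.map_comp] at e'
    exact e'

/-- the sections are the base change -/
theorem θT_bijective (a : A) : Function.Bijective (θT π M a) :=
  ⟨θT_injective M hX a, θT_surjective M hX a⟩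

/-- sections on an overlap split in characteristic `p` -/
theorem split_G (p : ℕ) [Fact p.Prime] [CharP A p] {b c d : A} (hb : W π b ≤ W π d) (hc : W π c ≤ W π d)
    (hd : W π d ≤ W π b ⊔ W π c) (hbb : W π (b * c) ≤ W π b) (hcc : W π (b * c) ≤ W π c) (s : G π M (b * c)) :
    ∃ (x : G π M b) (y : G π M c), resG π M hbb x - resG π M hcc y = s := by
  obtain ⟨w, rfl⟩ := θT_surjective M hX (b * c) s
  rcases subsingleton_or_nontrivial (S π d) with hs | hs
  · haveI : Subsingleton (S π (b * c)) :=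
      (rA π (hbb.trans hb)).toRingHom.codomain_trivial
    have : w = 0 := by
      induction w with
      | zero => rfl
      | tmul s m => rw [Subsingleton.elim s 0, zero_tmul]
      | add u v hu hv => rw [hu, hv, add_zero]
    exact ⟨0, 0, by rw [this, map_zero, map_zero, sub_zero, map_zero]⟩
  · haveI : CharP (S π d) p := (CharP.charP_iff_prime_eq_zero (Fact.out : p.Prime)).2 (by
      rw [← map_natCast (algebraMap A (S π d)), CharP.cast_eq_zero A p, map_zero])
    obtain ⟨x, y, e⟩ := split_localised (rA π hb) (rA π hc) (rA π hbb) (rA π hcc)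
      ((rA_rA π hb hbb (hbb.trans hb)).trans (rA_rA π hc hcc (hbb.trans hb)).symm)
      (hX.2.2 d) (hX.2.2 b) (hX.2.2 c) (hX.2.2 (b * c)) (span_eq_top hX hd) p w
    exact ⟨θT π M b x, θT π M c y, by rw [θT_res, θT_res, ← map_sub, e]⟩

/-- sections satisfy the universal property of the base change -/
theorem existsUnique_lift (f : A) (P : Type u) [AddCommGroup P] [Module (S π f) P] (ψ : M →+ P)
    (hψ : ∀ (a : A) (m : M), ψ (a • m) =
      HSMul.hSMul (α := S π f) (HensSch.secMap π (PrimeSpectrum.basicOpen f) a) (ψ m)) :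
    ∃! χ : G π M f →ₗ[S π f] P, ∀ m, χ (θ π M f m) = ψ m := by
  letI : Module A P := Module.compHom P (HensSch.secMap π (PrimeSpectrum.basicOpen f))
  haveI : IsScalarTower A (S π f) P := IsScalarTower.of_algebraMap_smul fun _ _ => rfl
  let ψl : M →ₗ[A] P := { toFun := ψ, map_add' := map_add ψ, map_smul' := hψ }
  let e : (S π f ⊗[A] M) ≃ₗ[S π f] G π M f := LinearEquiv.ofBijective (θT π M f) (θT_bijective M hX f)
  let χ := (ψl.liftBaseChange (S π f)).comp e.symm.toLinearMap
  have hθ : ∀ m, e.symm (show G π M f from θ π M f m) = (1 : S π f) ⊗ₜ[A] m := fun m => by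
    rw [LinearEquiv.symm_apply_eq]
    exact ((θT_tmul π M f 1 m).trans (one_smul _ _)).symm
  refine ⟨χ, fun m => ?_, fun χ' hχ' => ?_⟩
  · show ψl.liftBaseChange _ (e.symm (show G π M f from θ π M f m)) = ψ m
    rw [hθ, LinearMap.liftBaseChange_tmul, one_smul]
    rfl
  · refine LinearMap.ext fun s => ?_
    obtain ⟨z, rfl⟩ := (θT_bijective M hX f).2 s
    show χ' _ = ψl.liftBaseChange _ (e.symm (e z))
    rw [LinearEquiv.symm_apply_apply]
    induction z with
    | zero => rw [map_zero, map_zero, map_zero]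
    | tmul t m =>
      rw [θT_tmul, LinearMap.liftBaseChange_tmul, map_smul]
      exact congrArg (t • ·) (hχ' m)
    | add x y hx hy => rw [map_add, map_add, map_add, hx, hy]

end Groth.Agent.HensSph
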