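import Groth.Agent.HensSph.Sect
import Groth.Agent.GabAcyc.HensLim
import Groth.Agent.EtPBC.ASCurve
import Groth.Agent.EtMV.GabberH
import Groth.Agent.S0109
import Groth.Agent.S0122
import Mathlib

/-!
# Henselizations of localisations: sections split over two opens in positive characteristic
-/

set_option autoImplicit false
set_option backward.isDefEq.respectTransparency false
set_option backward.isDefEq.respectTransparency.types false
set_option linter.style.haveILetI false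
set_option linter.auxLemma false
set_option linter.unusedSectionVars false
set_option maxHeartbeats 1000000

universe u

open CategoryTheory CategoryTheory.Limits CategoryTheory.Abelian AlgebraicGeometry Opposite

noncomputable section

namespace Groth.Agent.HensSph

open EtH0Pair
open EtMV (oo P res σ R)

attribute [local instance 100000] EtCoh.H._proof_1 EtMV.hext
attribute [local instance 200000] EtMV.hextAb

section MV

variable {X : Scheme.{u}} {F : EtCoh.Ab X} {U V W : X.Opens}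

/-- sections on the overlap split when there is no degree one class on the union -/
theorem exists_sub_eq (hU : U ≤ W) (hV : V ≤ W) (hUV : W ≤ U ⊔ V)
    (h : ∀ x : Ext ((P X).obj (oo W)) F 1, x = 0) (s : EtCoh.sect F (oo (U ⊓ V))) :
    ∃ (a : EtCoh.sect F (oo U)) (b : EtCoh.sect F (oo V)),
      F.obj.map (res (inf_le_left : U ⊓ V ≤ U)).op a = s + F.obj.map (res (inf_le_right : U ⊓ V ≤ V)).op b := by
  have hS := EtMV.sc'_shortExact hU hV hUV
  obtain ⟨φ, rfl⟩ := EtMV.σ.surjective s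
  obtain ⟨y, hy⟩ := Ext.contravariant_sequence_exact₁ hS F (Ext.mk₀ (show (EtMV.sc' hU hV).X₁ ⟶ F from φ))
    (rfl : 1 + 0 = 1) (h _)
  obtain ⟨ψ, rfl⟩ := (Ext.mk₀_bijective _ _).2 y
  rw [Ext.mk₀_comp_mk₀] at hy
  have e := (Ext.mk₀_bijective _ _).1 hy
  refine ⟨σ (biprod.inl ≫ ψ), σ (biprod.inr ≫ ψ), ?_⟩
  rw [← EtMV.σ_map, ← EtMV.σ_map, ← EtMV.σ_add]
  congr 1
  have e' : biprod.lift ((P X).map (res (inf_le_left : U ⊓ V ≤ U)))
      (-(P X).map (res (inf_le_right : U ⊓ V ≤ V))) ≫ ψ = φ := e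
  rw [← e', biprod.lift_eq]
  simp only [Preadditive.add_comp, Category.assoc, Preadditive.neg_comp]
  abel

end MV

variable {A : Type u} [CommRing A]

theorem isTorsion_Ga (p : ℕ) [Fact p.Prime] [CharP A p] : EtCoh.IsTorsion (EtCoh.Ga (Spec (CommRingCat.of A))) := by
  intro U s x
  refine ⟨U, 𝟙 U, ⟨x, rfl⟩, isOfFinAddOrder_iff_nsmul_eq_zero.2 ⟨p, (Fact.out : p.Prime).pos, ?_⟩⟩
  have hp : ((p : ℕ) : Γ(U.left, ⊤)) = 0 := by
    rw [← map_natCast (((Scheme.ΓSpecIso (CommRingCat.of A)).inv ≫ U.hom.appTop).hom),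
      CharP.cast_eq_zero A p, map_zero]
  refine ULift.ext _ _ ?_
  show p • (show Γ(U.left, ⊤) from _) = 0
  rw [← Nat.cast_smul_eq_nsmul Γ(U.left, ⊤), hp, zero_smul]

theorem subsingleton_H_closed_Ga (p : ℕ) [Fact p.Prime] [CharP A p] {T : Scheme.{u}}
    (i : T ⟶ Spec (CommRingCat.of A)) [IsClosedImmersion i] :
    Subsingleton (EtCoh.H T ((EtCoh.pull i).obj (EtCoh.Ga _)) 1) := by
  refine GabAcyc.subsingleton_H_closed i _ (isTorsion_Ga p) 1 fun E _ _ _ => ?_
  let s := Spec.map (CommRingCat.ofHom (algebraMap A E))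
  haveI : Etale s := (HasRingHomProperty.Spec_iff (P := @Etale)).2 (RingHom.etale_algebraMap.2 inferInstance)
  haveI := EtMV.jcont_etale s
  exact EtPBC.subsingleton_H_of_iso (EtPBC.gaPullIso s).symm 1 (Groth.Agent.S0109.result (Spec (CommRingCat.of E)) 1 le_rfl)

variable (I : Ideal A)

/-- the closed subscheme -/
abbrev iI : Spec (CommRingCat.of (A ⧸ I)) ⟶ Spec (CommRingCat.of A) :=
  Spec.map (CommRingCat.ofHom (Ideal.Quotient.mk I))

/-- the trace of a basic open on the closed subscheme -/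
abbrev zOpen (f : A) : (Spec (CommRingCat.of (A ⧸ I))).Opens :=
  (iI I) ⁻¹ᵁ (PrimeSpectrum.basicOpen f : (Spec (CommRingCat.of A)).Opens)

variable {I}
variable {C : Type u} [CommRing C]

/-- the closed subscheme of `C` -/
abbrev iC (φ : A →+* C) (I : Ideal A) : Spec (CommRingCat.of (C ⧸ I.map φ)) ⟶ Spec (CommRingCat.of C) :=
  Spec.map (CommRingCat.ofHom (Ideal.Quotient.mk (I.map φ)))

/-- the induced map on quotients -/
abbrev qmap (φ : A →+* C) (I : Ideal A) : A ⧸ I →+* C ⧸ I.map φ :=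
  Ideal.quotientMap (I.map φ) φ Ideal.le_comap_map

theorem qmap_comp (φ : A →+* C) :
    Spec.map (CommRingCat.ofHom (qmap φ I)) ≫ iI I = iC φ I ≫ Spec.map (CommRingCat.ofHom φ) := by
  rw [iI, iC, ← Spec.map_comp, ← Spec.map_comp]
  rfl

theorem range_qmap (φ : A →+* C) (f : A) (hf : IsUnit (φ f)) :
    Set.range (Spec.map (CommRingCat.ofHom (qmap φ I))) ⊆ Set.range (zOpen I f).ι := by
  rw [Scheme.Opens.range_ι]
  rintro _ ⟨z, rfl⟩
  show (Spec.map (CommRingCat.ofHom (qmap φ I)) ≫ iI I) z ∈ (PrimeSpectrum.basicOpen f : TopologicalSpace.Opens (PrimeSpectrum A))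
  rw [qmap_comp]
  exact fun h => ((iC φ I) z).isPrime.ne_top (Ideal.eq_top_of_isUnit_mem _ h hf)

/-- the lift to the open -/
def lC (φ : A →+* C) (U : (Spec (CommRingCat.of (A ⧸ I))).Opens)
    (h : Set.range (Spec.map (CommRingCat.ofHom (qmap φ I))) ⊆ Set.range U.ι) :
    Spec (CommRingCat.of (C ⧸ I.map φ)) ⟶ (oo U).left :=
  IsOpenImmersion.lift U.ι (Spec.map (CommRingCat.ofHom (qmap φ I))) h

theorem lC_ι (φ : A →+* C) (U : (Spec (CommRingCat.of (A ⧸ I))).Opens)
    (h : Set.range (Spec.map (CommRingCat.ofHom (qmap φ I))) ⊆ Set.range U.ι) :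
    lC φ U h ≫ (oo U).hom = Spec.map (CommRingCat.ofHom (qmap φ I)) :=
  IsOpenImmersion.lift_fac _ _ _

theorem lC_cond (φ : A →+* C) (U : (Spec (CommRingCat.of (A ⧸ I))).Opens)
    (h : Set.range (Spec.map (CommRingCat.ofHom (qmap φ I))) ⊆ Set.range U.ι) :
    lC φ U h ≫ (oo U).hom ≫ iI I = iC φ I ≫ Spec.map (CommRingCat.ofHom φ) := by
  rw [← Category.assoc, lC_ι, qmap_comp]

theorem bij_unit (φ : A →+* C) (hC : HenselianRing C (I.map φ)) :
    Function.Bijective (unitSec (iC φ I) (EtCoh.Ga (Spec (CommRingCat.of C))) (EtCoh.top _)) :=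
  haveI := hC
  Groth.Agent.S0122.result C (I.map φ) _

variable (I) in
/-- the overlap of two basic traces -/
theorem range_qmap_inf (φ : A →+* C) (f g : A) (hf : IsUnit (φ f)) (hg : IsUnit (φ g)) :
    Set.range (Spec.map (CommRingCat.ofHom (qmap φ I))) ⊆ Set.range (zOpen I f ⊓ zOpen I g).ι := by
  rw [Scheme.Opens.range_ι]
  rintro _ ⟨z, rfl⟩
  have h1 := range_qmap (I := I) φ f hf ⟨z, rfl⟩
  have h2 := range_qmap (I := I) φ g hg ⟨z, rfl⟩
  rw [Scheme.Opens.range_ι] at h1 h2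
  exact ⟨h1, h2⟩

theorem range_qmap_top (φ : A →+* C) :
    Set.range (Spec.map (CommRingCat.ofHom (qmap φ I))) ⊆ Set.range (⊤ : (Spec (CommRingCat.of (A ⧸ I))).Opens).ι := by
  rw [Scheme.Opens.range_ι]
  exact fun _ _ => trivial

variable (I) in
/-- compatibility over an open -/
abbrev Comp (φ : A →+* C) (O : (Spec (CommRingCat.of (A ⧸ I))).Opens)
    (h : Set.range (Spec.map (CommRingCat.ofHom (qmap φ I))) ⊆ Set.range O.ι)
    (s : EtCoh.sect (HGa (iI I)) (oo O)) (c : C) : Prop :=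
  Compat (iI I) (iC φ I) (Spec.map (CommRingCat.ofHom φ)) (lC φ O h) s
    ((Scheme.ΓSpecIso (CommRingCat.of C)).inv c)

theorem Comp.sub {φ : A →+* C} {O : (Spec (CommRingCat.of (A ⧸ I))).Opens}
    {h : Set.range (Spec.map (CommRingCat.ofHom (qmap φ I))) ⊆ Set.range O.ι}
    {s t : EtCoh.sect (HGa (iI I)) (oo O)} {c d : C} (hc : Comp I φ O h s c) (hd : Comp I φ O h t d) :
    Comp I φ O h (s - t) (c - d) := by
  show Compat _ _ _ _ _ ((Scheme.ΓSpecIso (CommRingCat.of C)).inv (c - d))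
  rw [map_sub]
  exact Compat.sub (lC_cond φ O h) hc hd

theorem Comp.unique {φ : A →+* C} (hC : HenselianRing C (I.map φ))
    {O : (Spec (CommRingCat.of (A ⧸ I))).Opens}
    {h : Set.range (Spec.map (CommRingCat.ofHom (qmap φ I))) ⊆ Set.range O.ι}
    {s : EtCoh.sect (HGa (iI I)) (oo O)} {c d : C} (hc : Comp I φ O h s c) (hd : Comp I φ O h s d) : c = d := by
  have e := Compat.unique (lC_cond φ O h) hc hd (bij_unit φ hC).1
  exact (ConcreteCategory.bijective_of_isIso (Scheme.ΓSpecIso (CommRingCat.of C)).inv).1 e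

theorem exists_comp {φ : A →+* C} (hC : HenselianRing C (I.map φ))
    (O : (Spec (CommRingCat.of (A ⧸ I))).Opens)
    (h : Set.range (Spec.map (CommRingCat.ofHom (qmap φ I))) ⊆ Set.range O.ι)
    (s : EtCoh.sect (HGa (iI I)) (oo O)) : ∃ c, Comp I φ O h s c := by
  obtain ⟨c, hc⟩ := exists_compat (iC φ I) (Spec.map (CommRingCat.ofHom φ)) (lC φ O h) (lC_cond φ O h) s
    (bij_unit φ hC)
  refine ⟨(Scheme.ΓSpecIso (CommRingCat.of C)).hom c, ?_⟩
  show Compat _ _ _ _ _ _
  rw [Iso.hom_inv_id_apply]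
  exact hc

theorem Comp.eq_zero {φ : A →+* C} (hfl : φ.Flat) {O : (Spec (CommRingCat.of (A ⧸ I))).Opens}
    {h : Set.range (Spec.map (CommRingCat.ofHom (qmap φ I))) ⊆ Set.range O.ι}
    (hO : Set.range O.ι ⊆ Set.range (Spec.map (CommRingCat.ofHom (qmap φ I))))
    {s : EtCoh.sect (HGa (iI I)) (oo O)} (hc : Comp I φ O h s 0) : s = 0 := by
  haveI : Flat (Spec.map (CommRingCat.ofHom φ)) := (HasRingHomProperty.Spec_iff (P := @Flat)).2 hfl
  have hc' : Compat (iI I) (iC φ I) (Spec.map (CommRingCat.ofHom φ)) (lC φ O h) s 0 := by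
    have := hc
    rwa [Comp, map_zero] at this
  refine Compat.eq_zero (lC_cond φ O h) (fun p => ?_) hc'
  obtain ⟨z, hz⟩ := hO ⟨p, rfl⟩
  exact ⟨z, O.ι.injective ((congrArg (fun m => m z) (lC_ι φ O h)).trans hz)⟩

/-- compatibility restricts -/
theorem Comp.res {C' : Type u} [CommRing C'] {φ' : A →+* C'} {φ : A →+* C} (q : C' →+* C) (hq : q.comp φ' = φ)
    {O O' : (Spec (CommRingCat.of (A ⧸ I))).Opens} (hO : O' ≤ O)
    {h : Set.range (Spec.map (CommRingCat.ofHom (qmap φ' I))) ⊆ Set.range O.ι}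
    (h' : Set.range (Spec.map (CommRingCat.ofHom (qmap φ I))) ⊆ Set.range O'.ι)
    {s : EtCoh.sect (HGa (iI I)) (oo O)} {c : C'} (hc : Comp I φ' O h s c) :
    Comp I φ O' h' ((HGa (iI I)).obj.map (res hO).op s) (q c) := by
  let Z := Spec (CommRingCat.of (A ⧸ I))
  have hle : I.map φ' ≤ (I.map φ).comap q := by
    rw [Ideal.map_le_iff_le_comap, Ideal.comap_comap, hq]
    exact Ideal.le_comap_map
  let qb := Ideal.quotientMap (I.map φ) q hle
  have hqb : qb.comp (qmap φ' I) = qmap φ I := by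
    apply Ideal.Quotient.ringHom_ext
    subst hq
    rfl
  have h1 := Compat.pull (lC_cond φ' O h) hc (iC φ I) (Spec.map (CommRingCat.ofHom q))
    (Spec.map (CommRingCat.ofHom qb))
    (by
      show _ ≫ iC φ' I = iC φ I ≫ _
      rw [iC, iC, ← Spec.map_comp, ← Spec.map_comp]
      rfl)
    (EtMV.res hO) (lC φ O' h') (by
      rw [← cancel_mono O.ι, Category.assoc, Category.assoc]
      show lC φ O' h' ≫ (Z.homOfLE hO ≫ O.ι) = _ ≫ lC φ' O h ≫ (oo O).hom
      rw [Z.homOfLE_ι, lC_ι, ← Spec.map_comp, ← CommRingCat.ofHom_comp, hqb]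
      exact lC_ι φ O' h')
  rw [← Spec.map_comp, ← CommRingCat.ofHom_comp, hq] at h1
  show Compat _ _ _ _ _ _
  rwa [show (Scheme.ΓSpecIso (CommRingCat.of C)).inv (q c) =
    (Spec.map (CommRingCat.ofHom q)).appTop ((Scheme.ΓSpecIso (CommRingCat.of C')).inv c) from
    ConcreteCategory.congr_hom (Scheme.ΓSpecIso_inv_naturality (CommRingCat.ofHom q)) c]

/-- sections from etale neighbourhoods -/
theorem exists_comp_rep {φ : A →+* C} (f : A) (O : (Spec (CommRingCat.of (A ⧸ I))).Opens)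
    (h : Set.range (Spec.map (CommRingCat.ofHom (qmap φ I))) ⊆ Set.range O.ι)
    (hO : O ≤ zOpen I f)
    {E L : Type u} [CommRing E] [CommRing L] [Algebra A E] [Algebra.Etale A E] [Algebra (A ⧸ I) L]
    [IsLocalization.Away (Ideal.Quotient.mk I f) L]
    (t : E) (ε : E →+* C) (ρ : E →+* L) (ν : L →+* C ⧸ I.map φ)
    (hε : ε.comp (algebraMap A E) = φ)
    (hρ : ρ.comp (algebraMap A E) = (algebraMap (A ⧸ I) L).comp (Ideal.Quotient.mk I))
    (hν : ν.comp (algebraMap (A ⧸ I) L) = qmap φ I)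
    (hερ : ν.comp ρ = (Ideal.Quotient.mk (I.map φ)).comp ε) :
    ∃ s : EtCoh.sect (HGa (iI I)) (oo O), Comp I φ O h s (ε t) := by
  let X := Spec (CommRingCat.of A)
  let Z := Spec (CommRingCat.of (A ⧸ I))
  let i := iI I
  let sE : Spec (CommRingCat.of E) ⟶ X := Spec.map (CommRingCat.ofHom (algebraMap A E))
  haveI : Etale sE := (HasRingHomProperty.Spec_iff (P := @Etale)).2 (RingHom.etale_algebraMap.2 inferInstance)
  let E' : X.Etale := Scheme.Etale.mk sE
  let sL : Spec (CommRingCat.of L) ⟶ Z := Spec.map (CommRingCat.ofHom (algebraMap (A ⧸ I) L))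
  haveI : IsOpenImmersion sL := IsOpenImmersion.of_isLocalization (Ideal.Quotient.mk I f)
  have hrange : Set.range O.ι ⊆ Set.range sL := by
    rw [Scheme.Opens.range_ι]
    intro z hz
    show z ∈ Set.range (PrimeSpectrum.comap (algebraMap (A ⧸ I) L))
    rw [PrimeSpectrum.localization_away_comap_range L (Ideal.Quotient.mk I f)]
    exact hO hz
  let k : (oo O).left ⟶ Spec (CommRingCat.of L) := IsOpenImmersion.lift sL O.ι hrange
  have hk : k ≫ sL = O.ι := IsOpenImmersion.lift_fac _ _ _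
  have hwE : (k ≫ Spec.map (CommRingCat.ofHom ρ)) ≫ E'.hom = (oo O).hom ≫ i := by
    show (k ≫ Spec.map (CommRingCat.ofHom ρ)) ≫ sE = O.ι ≫ i
    rw [Category.assoc, ← Spec.map_comp, ← CommRingCat.ofHom_comp, hρ, CommRingCat.ofHom_comp, Spec.map_comp,
      ← hk, Category.assoc]
  let a₀ : oo O ⟶ (EtCoh.bc i).obj E' := MorphismProperty.Over.homMk
    (pullback.lift (k ≫ Spec.map (CommRingCat.ofHom ρ)) (oo O).hom hwE) (pullback.lift_snd _ _ _)
  let t₀ : Γ(E'.left, ⊤) := (Scheme.ΓSpecIso (CommRingCat.of E)).inv t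
  let s₀ := img i a₀ t₀
  let D₀ : Datum i s₀ := ⟨E', t₀, oo O, a₀, 𝟙 _, by
    rw [op_id, CategoryTheory.Functor.map_id]; rfl⟩
  refine ⟨s₀, ?_⟩
  intro D P π hπ T α β hα hβ
  let j'' := Spec.map (CommRingCat.ofHom φ)
  let π₀ : P.left ⟶ E'.left := P.hom ≫ Spec.map (CommRingCat.ofHom ε)
  have hπ₀ : π₀ ≫ E'.hom = P.hom ≫ j'' := by
    show (P.hom ≫ Spec.map (CommRingCat.ofHom ε)) ≫ sE = _
    rw [Category.assoc, ← Spec.map_comp, ← CommRingCat.ofHom_comp, hε]
  have e0 : res₀ P ((Scheme.ΓSpecIso (CommRingCat.of C)).inv (ε t)) = π₀.appTop t₀ := by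
    refine Eq.trans ?_ (app₂ P.hom (Spec.map (CommRingCat.ofHom ε)) π₀ rfl t₀)
    exact congrArg P.hom.appTop
      (ConcreteCategory.congr_hom (Scheme.ΓSpecIso_inv_naturality (CommRingCat.ofHom ε)) t)
  have hT : α.left ≫ pullback.snd P.hom (iC φ I) = T.hom := Over.w α.hom
  have hlk : lC φ O h ≫ k = Spec.map (CommRingCat.ofHom ν) := by
    rw [← cancel_mono sL, Category.assoc, hk, ← Spec.map_comp, ← CommRingCat.ofHom_comp, hν]
    exact lC_ι φ O h
  have h2 : α.left ≫ pullback.fst P.hom (iC φ I) ≫ π₀ =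
      (T.hom ≫ lC φ O h) ≫ D₀.a.left ≫ pullback.fst E'.hom i := by
    show _ = (T.hom ≫ lC φ O h) ≫ pullback.lift (k ≫ Spec.map (CommRingCat.ofHom ρ)) (oo O).hom hwE ≫ _
    rw [pullback.lift_fst, Category.assoc, reassoc_of% hlk, ← Spec.map_comp, ← CommRingCat.ofHom_comp, hερ,
      CommRingCat.ofHom_comp, Spec.map_comp]
    show α.left ≫ pullback.fst P.hom (iC φ I) ≫ P.hom ≫ _ = _
    rw [pullback.condition_assoc, reassoc_of% hT]
  rw [e0, img_sub, sub_eq_zero]
  exact pairs (iC φ I) D D₀ π π₀ (hπ.trans hπ₀.symm) α β (T.hom ≫ lC φ O h) hα h2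
    (hβ.trans (Category.comp_id _).symm)

variable (I) in
theorem le_sup_of_span (f g : A) (hfg : Ideal.span {f, g} ⊔ I = ⊤) :
    (⊤ : (Spec (CommRingCat.of (A ⧸ I))).Opens) ≤ zOpen I f ⊔ zOpen I g := by
  intro z _
  by_contra hn
  rw [← SetLike.mem_coe, TopologicalSpace.Opens.coe_sup, Set.mem_union, not_or] at hn
  refine (iI I z).isPrime.ne_top (top_le_iff.1 (hfg ▸ sup_le ?_ ?_))
  · rw [Ideal.span_le, Set.insert_subset_iff, Set.singleton_subset_iff]
    exact ⟨not_not.1 hn.1, not_not.1 hn.2⟩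
  · intro a ha
    show Ideal.Quotient.mk I a ∈ z.asIdeal
    rw [Ideal.Quotient.eq_zero_iff_mem.2 ha]
    exact z.asIdeal.zero_mem

/-- no degree one classes on the whole closed subscheme -/
theorem ext_one_eq_zero (p : ℕ) [Fact p.Prime] [CharP A p]
    (x : Ext ((P (Spec (CommRingCat.of (A ⧸ I)))).obj (oo ⊤)) (HGa (iI I)) 1) : x = 0 := by
  let Z := Spec (CommRingCat.of (A ⧸ I))
  let W : Z.Opens := ⊤
  let i := iI I
  haveI : IsClosedImmersion i := IsClosedImmersion.spec_of_surjective _ Ideal.Quotient.mk_surjective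
  haveI := EtPullExact.pull_preservesFiniteLimits W.ι
  haveI : IsIso W.ι := by
    change IsIso Z.topIso.hom
    infer_instance
  haveI : IsClosedImmersion (W.ι ≫ i) := inferInstance
  haveI := (GabAcyc.subsingleton_H_pull_pull_iff W.ι i _ rfl (EtCoh.Ga _) 1).2
    (subsingleton_H_closed_Ga p (W.ι ≫ i))
  exact (EtMV.Φ W (HGa i) 1).injective (Subsingleton.elim _ _)

end Groth.Agent.HensSph
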